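/-
helper31: project STEINBERG (helper35), basic facts on Steinberg models shared by ST-[NORM], ST-[MONO], ST-[BRUHAT].
-/
import Cfsg.Agent.Lib.Helper35.StDefs

set_option autoImplicit false

namespace Cfsg.Agent.Lib.Helper31.St

open Cfsg.Lie Cfsg.Agent.Lib.Helper35.St

universe u v

variable {D : ChevalleyDatum} {K : Type u} [Field K] {Γ : Type v} [Group Γ] (M : Model D K Γ)

theorem X_zero {r : ℕ} (hr : r < D.nroots) : M.X r 0 = 1 := by
  have h := M.add r hr 0 0
  rw [add_zero] at h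
  exact mul_eq_left.mp h

theorem X_inv {r : ℕ} (hr : r < D.nroots) (t : K) : (M.X r t)⁻¹ = M.X r (-t) := by
  have h := M.add r hr t (-t)
  rw [add_neg_cancel, X_zero M hr] at h
  exact inv_eq_of_mul_eq_one_right h

theorem X_mem_sub {P : ℕ → Prop} {r : ℕ} (hr : P r) (t : K) : M.X r t ∈ M.sub P :=
  Subgroup.subset_closure ⟨r, t, hr, rfl⟩

theorem word_mem_sub {P : ℕ → Prop} (w : List (ℕ × K)) (hw : ∀ p ∈ w, P p.1) : M.word w ∈ M.sub P := by
  unfold Model.word
  apply Subgroup.list_prod_mem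
  intro x hx
  obtain ⟨p, hp, rfl⟩ := List.mem_map.mp hx
  exact X_mem_sub M (hw p hp) _

theorem sub_mono {P Q : ℕ → Prop} (h : ∀ r, P r → Q r) : M.sub P ≤ M.sub Q := by
  apply Subgroup.closure_mono
  rintro g ⟨r, t, hr, rfl⟩
  exact ⟨r, t, h r hr, rfl⟩

/-- The conjugation formula obtained from (R2). -/
theorem conj_X {r s : ℕ} (hr : r < D.nroots) (hs : s < D.nroots) (h1 : s ≠ r) (h2 : s ≠ D.neg r) (t u : K) :
    M.X r t * M.X s u * (M.X r t)⁻¹ = M.X s u * M.word (D.commWord K r s (-t) u) := by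
  have h := M.comm r s hr hs h1 h2 (-t) u
  rw [← X_inv M hr, inv_inv] at h
  unfold Model.word
  rw [← h]
  group

/-- The commutator word of `(r, s)` involves only roots satisfying `P`. -/
theorem commWord_mem {P : ℕ → Prop} {r s : ℕ} (h : ∀ c ∈ D.commTerms r s, P c.1) (t u : K) :
    ∀ p ∈ D.commWord K r s t u, P p.1 := by
  intro p hp
  unfold ChevalleyDatum.commWord at hp
  obtain ⟨c, hc, rfl⟩ := List.mem_map.mp hp
  exact h c hc

/-- A root element `X_e(t)` normalises `⟨X_s : P s⟩` if `P` is closed under the commutator formula with `e`. -/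
theorem X_mem_normalizer_sub {P : ℕ → Prop} {e : ℕ} (he : e < D.nroots)
    (hP : ∀ s, P s → s < D.nroots ∧ s ≠ e ∧ s ≠ D.neg e ∧ ∀ c ∈ D.commTerms e s, P c.1) (t : K) :
    M.X e t ∈ Subgroup.normalizer (M.sub P : Set Γ) := by
  have key : ∀ t : K, ∀ h ∈ M.sub P, M.X e t * h * (M.X e t)⁻¹ ∈ M.sub P := by
    intro t h hh
    induction hh using Subgroup.closure_induction with
    | mem x hx =>
      obtain ⟨s, u, hs, rfl⟩ := hx
      obtain ⟨hs1, hs2, hs3, hs4⟩ := hP s hs
      rw [conj_X M he hs1 hs2 hs3]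
      exact mul_mem (X_mem_sub M hs u) (word_mem_sub M _ (commWord_mem hs4 _ _))
    | one => simp
    | mul x y _ _ hx hy =>
      have : M.X e t * (x * y) * (M.X e t)⁻¹ = (M.X e t * x * (M.X e t)⁻¹) * (M.X e t * y * (M.X e t)⁻¹) := by
        group
      rw [this]
      exact mul_mem hx hy
    | inv x _ hx =>
      have : M.X e t * x⁻¹ * (M.X e t)⁻¹ = (M.X e t * x * (M.X e t)⁻¹)⁻¹ := by group
      rw [this]
      exact inv_mem hx
  rw [Subgroup.mem_set_normalizer_iff]
  intro h
  constructor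
  · exact key t h
  · intro hh
    have := key (-t) _ hh
    rw [← X_inv M he, inv_inv] at this
    have h' : (M.X e t)⁻¹ * (M.X e t * h * (M.X e t)⁻¹) * M.X e t = h := by group
    rw [h'] at this
    exact this

end Cfsg.Agent.Lib.Helper31.St
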