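/-
helper31: project STEINBERG (helper35), module ST-[MONO]: the elements of `M̄` permute the root elements.
-/
import Cfsg.Agent.Lib.Helper31.StBasic

set_option autoImplicit false

namespace Cfsg.Agent.Lib.Helper31.St

open Cfsg.Lie Cfsg.Agent.Lib.Helper35.St

universe u v

variable {D : ChevalleyDatum} {K : Type u} [Field K] {Γ : Type v} [Group Γ] (M : Model D K Γ)

theorem nbar_inv {r : ℕ} (hr : r < D.nroots) (hn : D.neg r < D.nroots) (t : K) :
    (M.nbar r t)⁻¹ = M.nbar r (-t) := by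
  unfold Model.nbar
  rw [mul_inv_rev, mul_inv_rev, X_inv M hr, X_inv M hn, neg_neg, inv_neg, neg_neg, mul_assoc]

theorem isMono_one : M.IsMono 1 := by
  refine ⟨id, fun _ => 1, fun s hs => ⟨hs, one_ne_zero, rfl⟩, fun s _ u => ?_⟩
  simp

theorem isMono_mul {g h : Γ} (hg : M.IsMono g) (hh : M.IsMono h) : M.IsMono (g * h) := by
  obtain ⟨ρ₁, c₁, h1, h1'⟩ := hg
  obtain ⟨ρ₂, c₂, h2, h2'⟩ := hh
  refine ⟨fun s => ρ₁ (ρ₂ s), fun s => c₁ (ρ₂ s) * c₂ s, fun s hs => ⟨?_, ?_, ?_⟩, fun s hs u => ?_⟩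
  · exact (h1 _ (h2 s hs).1).1
  · exact mul_ne_zero (h1 _ (h2 s hs).1).2.1 (h2 s hs).2.1
  · show ρ₁ (ρ₂ (D.neg s)) = D.neg (ρ₁ (ρ₂ s))
    rw [(h2 s hs).2.2, (h1 _ (h2 s hs).1).2.2]
  · have : g * h * M.X s u * (g * h)⁻¹ = g * (h * M.X s u * h⁻¹) * g⁻¹ := by group
    rw [this, h2' s hs, h1' _ (h2 s hs).1, mul_assoc]

theorem isMono_nbar (tf : TF D) (hA : M.Act) {i : ℕ} (hi : i < D.rank) {t : K} (ht : t ≠ 0) :
    M.IsMono (M.nbar (D.simple i) t) := by
  classical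
  have H := fun s (hs : s < D.nroots) => hA i hi s hs t ht
  refine ⟨D.reflectRoot i, fun s => if hs : s < D.nroots then Classical.choose (H s hs) else 1,
    fun s hs => ⟨tf.refl_lt i hi s hs, ?_, tf.refl_neg i hi s hs⟩, fun s hs u => ?_⟩
  · simp only [hs, dif_pos]
    exact (Classical.choose_spec (H s hs)).1
  · simp only [hs, dif_pos]
    exact (Classical.choose_spec (H s hs)).2 u

theorem isMono_of_mem_Mbar (tf : TF D) (hA : M.Act) (g : Γ) (hg : g ∈ M.Mbar) : M.IsMono g := by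
  have key : M.IsMono g ∧ M.IsMono g⁻¹ := by
    unfold Model.Mbar at hg
    induction hg using Subgroup.closure_induction with
    | mem x hx =>
      obtain ⟨i, t, hi, ht, rfl⟩ := hx
      have hpl := tf.pos_lt _ (tf.simple_pos i hi)
      refine ⟨isMono_nbar M tf hA hi ht, ?_⟩
      rw [nbar_inv M hpl (tf.neg_lt _ hpl)]
      exact isMono_nbar M tf hA hi (neg_ne_zero.mpr ht)
    | one => rw [inv_one]; exact ⟨isMono_one M, isMono_one M⟩
    | mul x y _ _ hx hy =>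
      rw [mul_inv_rev]
      exact ⟨isMono_mul M hx.1 hy.1, isMono_mul M hy.2 hx.2⟩
    | inv x _ hx => rw [inv_inv]; exact ⟨hx.2, hx.1⟩
  exact key.1

end Cfsg.Agent.Lib.Helper31.St
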