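/-
helper31: project STEINBERG (helper35), module ST-[BRUHAT]: `Γ = Ū M̄ Ū`.
-/
import Cfsg.Agent.Lib.Helper31.StMono

set_option autoImplicit false

namespace Cfsg.Agent.Lib.Helper31.St

open Cfsg.Lie Cfsg.Agent.Lib.Helper35.St

universe u v

variable {D : ChevalleyDatum} {K : Type u} [Field K] {Γ : Type v} [Group Γ] (M : Model D K Γ)

/-- The set `Ū M̄ Ū`. -/
def bruhatSet : Set Γ := {g | ∃ u₁ ∈ M.Ubar, ∃ m ∈ M.Mbar, ∃ u₂ ∈ M.Ubar, g = u₁ * m * u₂}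

theorem one_mem_bruhatSet : (1 : Γ) ∈ bruhatSet M :=
  ⟨1, one_mem _, 1, one_mem _, 1, one_mem _, by simp⟩

theorem mul_mem_bruhatSet {u g : Γ} (hu : u ∈ M.Ubar) (hg : g ∈ bruhatSet M) : u * g ∈ bruhatSet M := by
  obtain ⟨u₁, hu₁, m, hm, u₂, hu₂, rfl⟩ := hg
  exact ⟨u * u₁, mul_mem hu hu₁, m, hm, u₂, hu₂, by group⟩

theorem UbarI_le_Ubar (i : ℕ) : M.UbarI i ≤ M.Ubar := sub_mono M fun _ h => h.1

theorem X_simple_mem_RankOne (i : ℕ) (t : K) : M.X (D.simple i) t ∈ M.RankOne i :=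
  X_mem_sub M (P := fun r => r = D.simple i ∨ r = D.neg (D.simple i)) (Or.inl rfl) t

theorem X_neg_simple_mem_RankOne (i : ℕ) (t : K) : M.X (D.neg (D.simple i)) t ∈ M.RankOne i :=
  X_mem_sub M (P := fun r => r = D.simple i ∨ r = D.neg (D.simple i)) (Or.inr rfl) t

theorem nbar_mem_RankOne (i : ℕ) (t : K) : M.nbar (D.simple i) t ∈ M.RankOne i := by
  unfold Model.nbar
  exact mul_mem (mul_mem (X_simple_mem_RankOne M i t) (X_neg_simple_mem_RankOne M i _)) (X_simple_mem_RankOne M i t)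

theorem nbar_mem_Mbar {i : ℕ} (hi : i < D.rank) {t : K} (ht : t ≠ 0) : M.nbar (D.simple i) t ∈ M.Mbar :=
  Subgroup.subset_closure ⟨i, t, hi, ht, rfl⟩

theorem conj_mem_UbarI (hN : M.Norm) {i : ℕ} (hi : i < D.rank) {n z : Γ} (hn : n ∈ M.RankOne i)
    (hz : z ∈ M.UbarI i) : n * z * n⁻¹ ∈ M.UbarI i :=
  (Subgroup.mem_set_normalizer_iff.mp ((hN i hi).1 hn) z).mp hz

/-- `Ū = Ū_i X_p`. -/
theorem Ubar_decomp (tf : TF D) (hN : M.Norm) {i : ℕ} (hi : i < D.rank) (g : Γ) (hg : g ∈ M.Ubar) :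
    ∃ z ∈ M.UbarI i, ∃ x : K, g = z * M.X (D.simple i) x := by
  have hpl := tf.pos_lt _ (tf.simple_pos i hi)
  unfold Model.Ubar Model.sub at hg
  induction hg using Subgroup.closure_induction with
  | mem g hg =>
    obtain ⟨r, t, hr, rfl⟩ := hg
    by_cases hrp : r = D.simple i
    · subst hrp
      exact ⟨1, one_mem _, t, by simp⟩
    · refine ⟨M.X r t, X_mem_sub M (P := fun r => D.IsPosRoot r ∧ r ≠ D.simple i) ⟨hr, hrp⟩ t, 0, ?_⟩
      rw [X_zero M hpl, mul_one]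
  | one => exact ⟨1, one_mem _, 0, by rw [X_zero M hpl, mul_one]⟩
  | mul g g' _ _ hg hg' =>
    obtain ⟨z, hz, x, rfl⟩ := hg
    obtain ⟨z', hz', x', rfl⟩ := hg'
    refine ⟨z * (M.X (D.simple i) x * z' * (M.X (D.simple i) x)⁻¹),
      mul_mem hz (conj_mem_UbarI M hN hi (X_simple_mem_RankOne M i x) hz'), x + x', ?_⟩
    rw [← M.add _ hpl]
    group
  | inv g _ hg =>
    obtain ⟨z, hz, x, rfl⟩ := hg
    refine ⟨M.X (D.simple i) (-x) * z⁻¹ * (M.X (D.simple i) (-x))⁻¹,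
      conj_mem_UbarI M hN hi (X_simple_mem_RankOne M i (-x)) (inv_mem hz), -x, ?_⟩
    rw [mul_inv_rev, X_inv M hpl]
    group

/-- `X_{-p}(y) = X_p(y⁻¹) n̄_p(-y⁻¹) X_p(y⁻¹)`. -/
theorem X_neg_eq {r : ℕ} (hr : r < D.nroots) (y : K) :
    M.X (D.neg r) y = M.X r y⁻¹ * M.nbar r (-y⁻¹) * M.X r y⁻¹ := by
  unfold Model.nbar
  have h0 : M.X r y⁻¹ * M.X r (-y⁻¹) = 1 := by rw [M.add r hr, add_neg_cancel, X_zero M hr]
  have h1 : M.X r (-y⁻¹) * M.X r y⁻¹ = 1 := by rw [M.add r hr, neg_add_cancel, X_zero M hr]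
  have h2 : -(-y⁻¹)⁻¹ = y := by rw [inv_neg, inv_inv, neg_neg]
  rw [h2]
  calc M.X (D.neg r) y = (M.X r y⁻¹ * M.X r (-y⁻¹)) * M.X (D.neg r) y * (M.X r (-y⁻¹) * M.X r y⁻¹) := by
        rw [h0, h1, one_mul, mul_one]
    _ = _ := by group

/-- Step (b): `n̄_p(t) T ⊆ T`. -/
theorem nbar_mul_mem_bruhatSet (tf : TF D) (hN : M.Norm) (hA : M.Act) (hmono : ∀ g ∈ M.Mbar, M.IsMono g)
    {i : ℕ} (hi : i < D.rank) {t : K} (ht : t ≠ 0) {g : Γ} (hg : g ∈ bruhatSet M) :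
    M.nbar (D.simple i) t * g ∈ bruhatSet M := by
  have hp := tf.simple_pos i hi
  have hpl := tf.pos_lt _ hp
  have hnl := tf.neg_lt _ hpl
  obtain ⟨u₁, hu₁, m, hm, u₂, hu₂, rfl⟩ := hg
  obtain ⟨z, hz, x, rfl⟩ := Ubar_decomp M tf hN hi u₁ hu₁
  set ν := M.nbar (D.simple i) t with hν
  have hνM : ν ∈ M.Mbar := nbar_mem_Mbar M hi ht
  have hνR : ν ∈ M.RankOne i := nbar_mem_RankOne M i t
  have e0 : ν * (z * M.X (D.simple i) x * m * u₂) = (ν * z * ν⁻¹) * (ν * M.X (D.simple i) x * m * u₂) := by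
    group
  rw [e0]
  refine mul_mem_bruhatSet M (UbarI_le_Ubar M i (conj_mem_UbarI M hN hi hνR hz)) ?_
  by_cases hx : x = 0
  · subst hx
    rw [X_zero M hpl, mul_one]
    exact ⟨1, one_mem _, ν * m, mul_mem hνM hm, u₂, hu₂, by group⟩
  · obtain ⟨ρ', c', h1, h2⟩ := hmono m⁻¹ (inv_mem hm)
    have hβ := (h1 _ hpl).1
    rcases tf.pos_or_neg _ hβ with hpos | hneg
    · refine ⟨1, one_mem _, ν * m, mul_mem hνM hm, M.X (ρ' (D.simple i)) (c' (D.simple i) * x) * u₂,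
        mul_mem (X_mem_sub M hpos _) hu₂, ?_⟩
      rw [← h2 _ hpl]
      group
    · obtain ⟨c, hc, hcu⟩ := hA i hi _ hpl t ht
      rw [tf.refl_simple i hi] at hcu
      obtain ⟨c2, hc2, hc2u⟩ := hA i hi _ hpl (-t) (neg_ne_zero.mpr ht)
      rw [tf.refl_simple i hi, ← nbar_inv M hpl hnl, inv_inv, ← hν] at hc2u
      have hy : c * x ≠ 0 := mul_ne_zero hc hx
      set y := c * x with hydef
      have e1 : ν * M.X (D.simple i) x * ν⁻¹ = M.X (D.neg (D.simple i)) y := hcu x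
      have e2 := X_neg_eq M hpl y
      have e3 : ν⁻¹ * M.X (D.simple i) y⁻¹ * ν = M.X (D.neg (D.simple i)) (c2 * y⁻¹) := hc2u y⁻¹
      have e4 : m⁻¹ * M.X (D.neg (D.simple i)) (c2 * y⁻¹) * m
          = M.X (ρ' (D.neg (D.simple i))) (c' (D.neg (D.simple i)) * (c2 * y⁻¹)) := by
        have := h2 _ hnl (c2 * y⁻¹)
        rwa [inv_inv] at this
      have hnegβ : D.IsPosRoot (ρ' (D.neg (D.simple i))) := by
        rw [(h1 _ hpl).2.2]
        exact tf.neg_negR _ hneg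
      refine ⟨M.X (D.simple i) y⁻¹, X_mem_sub M hp _, M.nbar (D.simple i) (-y⁻¹) * (ν * m),
        mul_mem (nbar_mem_Mbar M hi (neg_ne_zero.mpr (inv_ne_zero hy))) (mul_mem hνM hm),
        M.X (ρ' (D.neg (D.simple i))) (c' (D.neg (D.simple i)) * (c2 * y⁻¹)) * u₂,
        mul_mem (X_mem_sub M hnegβ _) hu₂, ?_⟩
      calc ν * M.X (D.simple i) x * m * u₂ = (ν * M.X (D.simple i) x * ν⁻¹) * ν * m * u₂ := by group
        _ = (M.X (D.simple i) y⁻¹ * M.nbar (D.simple i) (-y⁻¹) * M.X (D.simple i) y⁻¹) * ν * m * u₂ := by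
          rw [e1, e2]
        _ = M.X (D.simple i) y⁻¹ * (M.nbar (D.simple i) (-y⁻¹) * (ν * m))
              * ((m⁻¹ * (ν⁻¹ * M.X (D.simple i) y⁻¹ * ν) * m) * u₂) := by group
        _ = _ := by rw [e3, e4]

/-- The subgroup generated by the `X_p(x)` and the `n̄_p(t)`, `p` fundamental, `t ≠ 0`. -/
def gamma0 : Subgroup Γ :=
  Subgroup.closure ({g : Γ | ∃ (i : ℕ) (x : K), i < D.rank ∧ g = M.X (D.simple i) x} ∪ M.MbarSet)

theorem gamma0_mul_mem (tf : TF D) (hN : M.Norm) (hA : M.Act) (hmono : ∀ g ∈ M.Mbar, M.IsMono g)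
    {g : Γ} (hg : g ∈ gamma0 M) : ∀ h ∈ bruhatSet M, g * h ∈ bruhatSet M := by
  unfold gamma0 at hg
  induction hg using Subgroup.closure_induction'' with
  | mem g hg =>
    intro h hh
    rcases hg with ⟨i, x, hi, rfl⟩ | ⟨i, t, hi, ht, rfl⟩
    · exact mul_mem_bruhatSet M (X_mem_sub M (tf.simple_pos i hi) x) hh
    · exact nbar_mul_mem_bruhatSet M tf hN hA hmono hi ht hh
  | inv_mem g hg =>
    intro h hh
    rcases hg with ⟨i, x, hi, rfl⟩ | ⟨i, t, hi, ht, rfl⟩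
    · rw [X_inv M (tf.pos_lt _ (tf.simple_pos i hi))]
      exact mul_mem_bruhatSet M (X_mem_sub M (tf.simple_pos i hi) _) hh
    · have hpl := tf.pos_lt _ (tf.simple_pos i hi)
      rw [nbar_inv M hpl (tf.neg_lt _ hpl)]
      exact nbar_mul_mem_bruhatSet M tf hN hA hmono hi (neg_ne_zero.mpr ht) hh
  | one => intro h hh; rwa [one_mul]
  | mul x y _ _ hx hy =>
    intro h hh
    rw [mul_assoc]
    exact hx _ (hy _ hh)

theorem X_wRoot_mem_gamma0 (tf : TF D) (hA : M.Act) (ws : List ℕ) (hws : ∀ i ∈ ws, i < D.rank) {j : ℕ}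
    (hj : j < D.rank) : wRoot D ws (D.simple j) < D.nroots ∧ ∀ x : K, M.X (wRoot D ws (D.simple j)) x ∈ gamma0 M := by
  induction ws with
  | nil =>
    refine ⟨tf.pos_lt _ (tf.simple_pos j hj), fun x => ?_⟩
    exact Subgroup.subset_closure (Or.inl ⟨j, x, hj, rfl⟩)
  | cons i ws ih =>
    have hi : i < D.rank := hws i List.mem_cons_self
    obtain ⟨hlt, hmem⟩ := ih fun k hk => hws k (List.mem_cons_of_mem _ hk)
    have hw : wRoot D (i :: ws) (D.simple j) = D.reflectRoot i (wRoot D ws (D.simple j)) := by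
      unfold wRoot
      rw [List.foldr_cons]
    rw [hw]
    refine ⟨tf.refl_lt i hi _ hlt, fun x => ?_⟩
    obtain ⟨c, hc, hcu⟩ := hA i hi _ hlt 1 one_ne_zero
    have hν : M.nbar (D.simple i) 1 ∈ gamma0 M :=
      Subgroup.subset_closure (Or.inr ⟨i, 1, hi, one_ne_zero, rfl⟩)
    have := hcu (c⁻¹ * x)
    rw [mul_inv_cancel_left₀ hc] at this
    rw [← this]
    exact mul_mem (mul_mem hν (hmem _)) (inv_mem hν)

theorem gamma0_eq_top (tf : TF D) (hA : M.Act) (hgen : M.Gen) : gamma0 M = ⊤ := by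
  rw [eq_top_iff, ← hgen, Subgroup.closure_le]
  rintro g ⟨r, t, hr, rfl⟩
  obtain ⟨ws, j, hws, hj, rfl⟩ := tf.hword r hr
  exact (X_wRoot_mem_gamma0 M tf hA ws hws hj).2 t

theorem bruhat (tf : TF D) (hN : M.Norm) (hA : M.Act) (hmono : ∀ g ∈ M.Mbar, M.IsMono g) (hgen : M.Gen) :
    M.Bruhat := by
  intro g
  have hg : g ∈ gamma0 M := by rw [gamma0_eq_top M tf hA hgen]; trivial
  have := gamma0_mul_mem M tf hN hA hmono hg 1 (one_mem_bruhatSet M)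
  rw [mul_one] at this
  exact this

end Cfsg.Agent.Lib.Helper31.St
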