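/-
helper31: project STEINBERG (helper35), module ST-[NORM]: `⟨X_p, X_{-p}⟩` normalises `Ū_i` and `V̄_i`.
-/
import Cfsg.Agent.Lib.Helper31.StBasic

set_option autoImplicit false

namespace Cfsg.Agent.Lib.Helper31.St

open Cfsg.Lie Cfsg.Agent.Lib.Helper35.St

universe u v

variable {D : ChevalleyDatum} {K : Type u} [Field K] {Γ : Type v} [Group Γ] (M : Model D K Γ)

theorem norm_of_tf (tf : TF D) : M.Norm := by
  intro i hi
  have hp := tf.simple_pos i hi
  have hpl := tf.pos_lt _ hp
  have hnl := tf.neg_lt _ hpl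
  have hnn := tf.neg_neg _ hpl
  have hnp := tf.neg_pos _ hp
  constructor
  · unfold Model.RankOne Model.sub
    rw [Subgroup.closure_le]
    rintro g ⟨e, t, he, rfl⟩
    have hel : e < D.nroots := by rcases he with rfl | rfl <;> assumption
    refine X_mem_normalizer_sub M hel ?_ t
    rintro s ⟨hs, hsp⟩
    refine ⟨tf.pos_lt _ hs, ?_, ?_, fun c hc => tf.comm_pos i hi e he s hs hsp c hc⟩
    · rcases he with rfl | rfl
      · exact hsp
      · rintro rfl; exact tf.not_pos_neg _ hs hnp
    · rcases he with rfl | rfl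
      · rintro rfl; exact tf.not_pos_neg _ hs hnp
      · rw [hnn]; exact hsp
  · unfold Model.RankOne Model.sub
    rw [Subgroup.closure_le]
    rintro g ⟨e, t, he, rfl⟩
    have hel : e < D.nroots := by rcases he with rfl | rfl <;> assumption
    refine X_mem_normalizer_sub M hel ?_ t
    rintro s ⟨hs, hsp⟩
    refine ⟨hs.1, ?_, ?_, fun c hc => tf.comm_neg i hi e he s hs hsp c hc⟩
    · rcases he with rfl | rfl
      · rintro rfl; exact tf.not_pos_neg _ hp hs
      · exact hsp
    · rcases he with rfl | rfl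
      · exact hsp
      · rw [hnn]; rintro rfl; exact tf.not_pos_neg _ hp hs
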