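/-
helper31: project ASCHO second sheet (helper5; rows omega7/9/11), module ASCHO2-[ISOTROPIC]:
a subspace of dimension at least 3 of a quadratic space over a finite field of odd order contains a non-zero singular
vector (three pairwise orthogonal vectors + solvability of `a x² + b y² = -c`).
-/
import Mathlib
import Cfsg.Prelude.Def_GeometricClasses
import Cfsg.Agent.Lib.Helper99.AschDefs
import Cfsg.Agent.Lib.Helper5.AschODefs
import Cfsg.Agent.Lib.Helper5.AschOBasic
import Cfsg.Agent.Lib.Helper94.OrthBridge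

set_option autoImplicit false
set_option linter.unusedSectionVars false
set_option linter.unusedVariables false

namespace Cfsg.Agent.Lib.Helper5.AschO

open Cfsg Cfsg.Geo Cfsg.Agent.Lib.Helper99.Asch
open scoped MatrixGroups Matrix Kronecker

variable {ι : Type} [Fintype ι] [DecidableEq ι] {F : Type*} [Field F] [Fintype F]

namespace H31

open Cfsg.Agent.Lib.Helper94 Module Polynomial in
/-- ASCHO2-[ISOTROPIC] (second proof; the official provider is helper43's `Lib/Helper43/AschO2Isotropic.lean`, which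
landed first with the sheet name, so this copy lives in the sub-namespace `H31` to avoid a name clash) -/
theorem exists_singular_of_three_le {Q : (ι → F) → F} (hQ : IsNondegenerateQuadraticForm Q)
    (hodd : Odd (Fintype.card F)) (U : Submodule F (ι → F))
    (hU : IsNondegenerateOn (QuadraticMap.polar Q) U) (h3 : 3 ≤ Module.finrank F U) :
    ∃ p ∈ U, p ≠ 0 ∧ Q p = 0 := by
  classical
  have h2 : (2 : F) ≠ 0 := two_ne_zero_of_odd_card hodd
  have hD := quadData_polarBilin hQ
  -- `u₁`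
  obtain ⟨⟨u₁, hu₁U⟩, hu₁0⟩ := Module.finrank_pos_iff_exists_ne_zero.mp (by omega : 0 < finrank F U)
  have hu₁0' : u₁ ≠ 0 := fun h => hu₁0 (Subtype.ext h)
  -- `u₂ ⊥ u₁`
  let φ₁ : U →ₗ[F] F := (polarBilin hQ u₁).comp U.subtype
  have hk1 : 2 ≤ finrank F (LinearMap.ker φ₁) := by
    have h1 := LinearMap.finrank_range_add_finrank_ker φ₁
    have hr : finrank F (LinearMap.range φ₁) ≤ 1 := by
      have := Submodule.finrank_le (LinearMap.range φ₁)
      rwa [Module.finrank_self] at this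
    omega
  have hne1 : LinearMap.ker φ₁ ≠ ⊥ := by
    intro h
    rw [h, finrank_bot] at hk1
    omega
  obtain ⟨⟨u₂, hu₂U⟩, hu₂k, hu₂0⟩ := Submodule.exists_mem_ne_zero_of_ne_bot hne1
  have hu₂0' : u₂ ≠ 0 := fun h => hu₂0 (Subtype.ext h)
  have h12 : polarBilin hQ u₁ u₂ = 0 := LinearMap.mem_ker.mp hu₂k
  -- `u₃ ⊥ u₁, u₂`
  let φ₂ : U →ₗ[F] F × F := ((polarBilin hQ u₁).comp U.subtype).prod ((polarBilin hQ u₂).comp U.subtype)
  have hk2 : 1 ≤ finrank F (LinearMap.ker φ₂) := by
    have h1 := LinearMap.finrank_range_add_finrank_ker φ₂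
    have hr : finrank F (LinearMap.range φ₂) ≤ 2 := by
      have := Submodule.finrank_le (LinearMap.range φ₂)
      rwa [Module.finrank_prod, Module.finrank_self] at this
    omega
  have hne2 : LinearMap.ker φ₂ ≠ ⊥ := by
    intro h
    rw [h, finrank_bot] at hk2
    omega
  obtain ⟨⟨u₃, hu₃U⟩, hu₃k, hu₃0⟩ := Submodule.exists_mem_ne_zero_of_ne_bot hne2
  have hu₃0' : u₃ ≠ 0 := fun h => hu₃0 (Subtype.ext h)
  have h3' : φ₂ ⟨u₃, hu₃U⟩ = 0 := LinearMap.mem_ker.mp hu₃k
  have h13 : polarBilin hQ u₁ u₃ = 0 := congrArg Prod.fst h3'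
  have h23 : polarBilin hQ u₂ u₃ = 0 := congrArg Prod.snd h3'
  by_cases ha : Q u₁ = 0
  · exact ⟨u₁, hu₁U, hu₁0', ha⟩
  by_cases hb : Q u₂ = 0
  · exact ⟨u₂, hu₂U, hu₂0', hb⟩
  by_cases hc : Q u₃ = 0
  · exact ⟨u₃, hu₃U, hu₃0', hc⟩
  -- solve `a x² + b y² + c = 0`
  have hcard : Fintype.card F % 2 = 1 := Nat.odd_iff.mp hodd
  obtain ⟨x, y, hxy⟩ := FiniteField.exists_root_sum_quadratic
    (f := C (Q u₁) * X ^ 2 + C 0 * X + C 0) (g := C (Q u₂) * X ^ 2 + C 0 * X + C (Q u₃))
    (degree_quadratic ha) (degree_quadratic hb) hcard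
  simp only [eval_add, eval_mul, eval_C, eval_pow, eval_X, zero_mul, add_zero] at hxy
  have hQp : Q (x • u₁ + y • u₂ + u₃) = 0 := by
    rw [hD.polar, hD.polar, hD.smul, hD.smul]
    simp only [map_add, map_smul, LinearMap.add_apply, LinearMap.smul_apply, h12, h13, h23, smul_eq_mul,
      mul_zero, add_zero]
    linear_combination hxy
  refine ⟨x • u₁ + y • u₂ + u₃, ?_, ?_, hQp⟩
  · exact U.add_mem (U.add_mem (U.smul_mem _ hu₁U) (U.smul_mem _ hu₂U)) hu₃U
  · intro h0
    -- then `B u₃ u₃ = 0`, so `Q u₃ = 0`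
    have h33 : polarBilin hQ (x • u₁ + y • u₂ + u₃) u₃ = 0 := by rw [h0, map_zero, LinearMap.zero_apply]
    simp only [map_add, map_smul, LinearMap.add_apply, LinearMap.smul_apply, h13, h23, hD.self, smul_eq_mul,
      mul_zero, zero_add] at h33
    rcases mul_eq_zero.mp h33 with h | h
    · exact h2 h
    · exact hc h

end H31

end Cfsg.Agent.Lib.Helper5.AschO
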