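/-
helper31: project ASCHO second sheet (helper5; rows omega7/9/11), module ASCHO2-[R-1B]:
for a proper non-zero non-degenerate subspace `W` of an odd-dimensional quadratic space, `W` or its orthogonal
complement is a proper non-zero non-degenerate subspace of EVEN dimension with the same stabiliser among isometries.
-/
import Mathlib
import Cfsg.Prelude.Def_GeometricClasses
import Cfsg.Agent.Lib.Helper99.AschDefs
import Cfsg.Agent.Lib.Helper5.AschODefs
import Cfsg.Agent.Lib.Helper5.AschOBasic
import Cfsg.Agent.Lib.Helper94.OrthBridge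
import Cfsg.Agent.Lib.Helper94.OmegaSubOdd2

set_option autoImplicit false
set_option linter.unusedSectionVars false
set_option linter.unusedVariables false

namespace Cfsg.Agent.Lib.Helper5.AschO

open Cfsg Cfsg.Geo Cfsg.Agent.Lib.Helper99.Asch
open scoped MatrixGroups Matrix Kronecker

variable {ι : Type} [Fintype ι] [DecidableEq ι] {F : Type*} [Field F] [Fintype F]

namespace H31

open Cfsg.Agent.Lib.Helper94

/-- the Prelude's non-degeneracy on a subspace, in radical form -/
theorem radical_of_nondegenerateOn {Q : (ι → F) → F} (hQ : IsNondegenerateQuadraticForm Q)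
    (W : Submodule F (ι → F)) (hW : IsNondegenerateOn (QuadraticMap.polar Q) W) :
    ∀ p ∈ W, (∀ p' ∈ W, polarBilin hQ p p' = 0) → p = 0 := by
  intro p hp h
  by_contra h0
  obtain ⟨x, hx, hx0⟩ := (hW p hp h0).2
  exact hx0 (h x hx)

/-- radical form implies the Prelude's non-degeneracy on a subspace -/
theorem nondegenerateOn_of_radical {Q : (ι → F) → F} (hQ : IsNondegenerateQuadraticForm Q)
    (W : Submodule F (ι → F))
    (h : ∀ p ∈ W, (∀ p' ∈ W, polarBilin hQ p p' = 0) → p = 0) :
    IsNondegenerateOn (QuadraticMap.polar Q) W := by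
  intro w hw hw0
  have hex : ∃ x ∈ W, QuadraticMap.polar Q w x ≠ 0 := by
    by_contra hcon
    push Not at hcon
    exact hw0 (h w hw fun p' hp' => hcon p' hp')
  obtain ⟨x, hx, hx0⟩ := hex
  exact ⟨⟨x, hx, by rwa [QuadraticMap.polar_comm]⟩, ⟨x, hx, hx0⟩⟩

/-- an isometry preserves the polar form -/
theorem polar_mulVec_of_mem_isometryGroup {Q : (ι → F) → F} {g : GL ι F} (hg : g ∈ isometryGroup F Q)
    (u v : ι → F) :
    QuadraticMap.polar Q ((g : Matrix ι ι F) *ᵥ u) ((g : Matrix ι ι F) *ᵥ v) = QuadraticMap.polar Q u v := by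
  have h : ∀ x, Q ((g : Matrix ι ι F) *ᵥ x) = Q x := fun x => hg x x
  unfold QuadraticMap.polar
  rw [← Matrix.mulVec_add, h, h, h]

theorem mem_subspaceStabilizer_iff' (W : Submodule F (ι → F)) (g : GL ι F) :
    g ∈ subspaceStabilizer W ↔ ∀ v, v ∈ W ↔ (g : Matrix ι ι F) *ᵥ v ∈ W := Iff.rfl

/-- an isometry stabilising `W` stabilises the orthogonal complement of `W` -/
theorem stab_orthogonal_of_stab {Q : (ι → F) → F} (hQ : IsNondegenerateQuadraticForm Q)
    (W : Submodule F (ι → F)) {g : GL ι F} (hg : g ∈ isometryGroup F Q) (hs : g ∈ subspaceStabilizer W) :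
    g ∈ subspaceStabilizer ((polarBilin hQ).orthogonal W) := by
  rw [mem_subspaceStabilizer_iff'] at hs ⊢
  intro x
  rw [QuadData.mem_orth_iff, QuadData.mem_orth_iff]
  constructor
  · intro hx w hw
    -- `w = g w'` with `w' ∈ W`
    have hw' : (g : Matrix ι ι F) *ᵥ (((g⁻¹ : GL ι F) : Matrix ι ι F) *ᵥ w) = w := by
      rw [Matrix.mulVec_mulVec, ← Units.val_mul, mul_inv_cancel, Units.val_one, Matrix.one_mulVec]
    have hmem : ((g⁻¹ : GL ι F) : Matrix ι ι F) *ᵥ w ∈ W := by
      rw [hs, hw']; exact hw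
    have := hx _ hmem
    rw [polarBilin_apply] at this ⊢
    rw [← hw', polar_mulVec_of_mem_isometryGroup hg]
    exact this
  · intro hx w hw
    have := hx _ ((hs w).mp hw)
    rw [polarBilin_apply] at this ⊢
    rwa [polar_mulVec_of_mem_isometryGroup hg] at this

end H31

open Cfsg.Agent.Lib.Helper94 in
/-- ASCHO2-[R-1B] -/
theorem exists_even_nondegenerate {Q : (ι → F) → F} (hQ : IsNondegenerateQuadraticForm Q) (hn : Odd (Fintype.card ι))
    (W : Submodule F (ι → F)) (hW0 : W ≠ ⊥) (hW1 : W ≠ ⊤) (hW : IsNondegenerateOn (QuadraticMap.polar Q) W) :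
    ∃ W' : Submodule F (ι → F), W' ≠ ⊥ ∧ W' ≠ ⊤ ∧ Even (Module.finrank F W') ∧ IsNondegenerateOn (QuadraticMap.polar Q) W' ∧
      subspaceStabilizer W' ⊓ isometryGroup F Q = subspaceStabilizer W ⊓ isometryGroup F Q := by
  classical
  by_cases hev : Even (Module.finrank F W)
  · exact ⟨W, hW0, hW1, hev, hW, rfl⟩
  · have hD := quadData_polarBilin hQ
    have hnd : ∀ x, (∀ y, polarBilin hQ x y = 0) → x = 0 := nondeg_polarBilin hQ
    have hWnd := H31.radical_of_nondegenerateOn hQ W hW
    have hc := hD.orth_isCompl W hWnd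
    have hfr := Submodule.finrank_add_eq_of_isCompl hc
    rw [Module.finrank_fintype_fun_eq_card] at hfr
    refine ⟨(polarBilin hQ).orthogonal W, ?_, ?_, ?_, ?_, ?_⟩
    · intro h
      apply hW1
      have := hc.sup_eq_top
      rwa [h, sup_bot_eq] at this
    · intro h
      apply hW0
      have := hc.inf_eq_bot
      rwa [h, inf_top_eq] at this
    · rw [Nat.not_even_iff_odd] at hev
      obtain ⟨a, ha⟩ := hev
      obtain ⟨b, hb⟩ := hn
      exact ⟨b - a, by omega⟩
    · exact H31.nondegenerateOn_of_radical hQ _ (hD.orth_nondeg hnd W hWnd)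
    · have hoo : (polarBilin hQ).orthogonal ((polarBilin hQ).orthogonal W) = W :=
        LinearMap.BilinForm.orthogonal_orthogonal (hD.nondegenerate_of hnd) hD.isRefl_of W
      ext g
      simp only [Subgroup.mem_inf]
      constructor
      · rintro ⟨hs, hg⟩
        refine ⟨?_, hg⟩
        have := H31.stab_orthogonal_of_stab hQ _ hg hs
        rwa [hoo] at this
      · rintro ⟨hs, hg⟩
        exact ⟨H31.stab_orthogonal_of_stab hQ W hg hs, hg⟩

end Cfsg.Agent.Lib.Helper5.AschO
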