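/-
helper31: project ASCHO second sheet (helper5; rows omega7/9/11), module ASCHO2-[P-1B]:
`Ω` does not stabilise a proper non-zero non-degenerate subspace `W` (dimension at least 7, odd `q`): an Eichler
transformation `E(p,w)` with `p` singular in the orthogonal complement of a non-degenerate `A ∈ {W, W^⊥}` moves `A`.
-/
import Mathlib
import Cfsg.Prelude.Def_GeometricClasses
import Cfsg.Agent.Lib.Helper99.AschDefs
import Cfsg.Agent.Lib.Helper5.AschODefs
import Cfsg.Agent.Lib.Helper5.AschOBasic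
import Cfsg.Agent.Lib.Helper5.AschOMaxKit
import Cfsg.Agent.Lib.Helper43.AschO2Eich
import Cfsg.Agent.Lib.Helper31.AschO2R1B
import Cfsg.Agent.Lib.Helper31.AschO2Isotropic

set_option autoImplicit false
set_option linter.unusedSectionVars false
set_option linter.unusedVariables false

namespace Cfsg.Agent.Lib.Helper5.AschO

open Cfsg Cfsg.Geo Cfsg.Agent.Lib.Helper99.Asch
open scoped MatrixGroups Matrix Kronecker

variable {ι : Type} [Fintype ι] [DecidableEq ι] {F : Type*} [Field F] [Fintype F]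

namespace H31

/-- a singular vector `p ≠ 0` orthogonal to a non-zero non-degenerate subspace `A` gives an element of `Ω` moving `A` -/
theorem not_omegaGL_le_stab_of_singular_orth {Q : (ι → F) → F} (hQ : IsNondegenerateQuadraticForm Q)
    (h7 : 7 ≤ Fintype.card ι) (A : Submodule F (ι → F)) (hA0 : A ≠ ⊥)
    (hA : IsNondegenerateOn (QuadraticMap.polar Q) A) (p : ι → F) (hp0 : p ≠ 0) (hp : Q p = 0)
    (hpA : ∀ a ∈ A, QuadraticMap.polar Q a p = 0) : ¬ omegaGL Q ≤ subspaceStabilizer A := by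
  intro hle
  obtain ⟨z, hzA, hz0⟩ := Submodule.exists_mem_ne_zero_of_ne_bot hA0
  obtain ⟨w, hwA, hzw⟩ := (hA z hzA hz0).2
  have hpw : QuadraticMap.polar Q p w = 0 := by rw [QuadraticMap.polar_comm]; exact hpA w hwA
  obtain ⟨g, hgΩ, hg⟩ := exists_eichler_mem_omegaGL hQ h7 p w hp hpw
  have hs := hle hgΩ
  rw [mem_subspaceStabilizer_iff'] at hs
  have hgz := (hs z).mp hzA
  rw [hg z, hpA z hzA] at hgz
  simp only [zero_smul, sub_zero, mul_zero] at hgz
  -- `polar z w • p ∈ A`, hence `p ∈ A`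
  have h1 : QuadraticMap.polar Q z w • p ∈ A := by
    have := A.sub_mem hgz hzA
    rwa [add_sub_cancel_left] at this
  have hpAmem : p ∈ A := by
    have := A.smul_mem (QuadraticMap.polar Q z w)⁻¹ h1
    rwa [smul_smul, inv_mul_cancel₀ hzw, one_smul] at this
  obtain ⟨x, hxA, hx⟩ := (hA p hpAmem hp0).2
  apply hx
  rw [QuadraticMap.polar_comm]
  exact hpA x hxA

end H31

open Cfsg.Agent.Lib.Helper94 in
/-- ASCHO2-[P-1B] -/
theorem not_omegaGL_le_stab_nondegenerate {Q : (ι → F) → F} (hQ : IsNondegenerateQuadraticForm Q)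
    (hodd : Odd (Fintype.card F)) (h7 : 7 ≤ Fintype.card ι) (W : Submodule F (ι → F)) (hW0 : W ≠ ⊥) (hW1 : W ≠ ⊤)
    (hW : IsNondegenerateOn (QuadraticMap.polar Q) W) : ¬ omegaGL Q ≤ subspaceStabilizer W := by
  classical
  have hD := quadData_polarBilin hQ
  have hnd : ∀ x, (∀ y, polarBilin hQ x y = 0) → x = 0 := nondeg_polarBilin hQ
  have hWnd := H31.radical_of_nondegenerateOn hQ W hW
  have hc := hD.orth_isCompl W hWnd
  have hfr := Submodule.finrank_add_eq_of_isCompl hc
  rw [Module.finrank_fintype_fun_eq_card] at hfr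
  have hWp : IsNondegenerateOn (QuadraticMap.polar Q) ((polarBilin hQ).orthogonal W) :=
    H31.nondegenerateOn_of_radical hQ _ (hD.orth_nondeg hnd W hWnd)
  have hWp0 : (polarBilin hQ).orthogonal W ≠ ⊥ := by
    intro h
    apply hW1
    have := hc.sup_eq_top
    rwa [h, sup_bot_eq] at this
  intro hle
  by_cases h3 : 3 ≤ Module.finrank F ((polarBilin hQ).orthogonal W)
  · -- `A = W`, `p ∈ W^⊥`
    obtain ⟨p, hpU, hp0, hp⟩ := H31.exists_singular_of_three_le hQ hodd _ hWp h3
    refine H31.not_omegaGL_le_stab_of_singular_orth hQ h7 W hW0 hW p hp0 hp ?_ hle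
    intro a ha
    have := (QuadData.mem_orth_iff W p).mp hpU a ha
    rwa [polarBilin_apply] at this
  · -- `A = W^⊥`, `p ∈ W`
    have h3' : 3 ≤ Module.finrank F W := by omega
    obtain ⟨p, hpW, hp0, hp⟩ := H31.exists_singular_of_three_le hQ hodd W hW h3'
    have hle' : omegaGL Q ≤ subspaceStabilizer ((polarBilin hQ).orthogonal W) := fun g hg =>
      H31.stab_orthogonal_of_stab hQ W (omegaGL_le_isometryGroup Q hg) (hle hg)
    refine H31.not_omegaGL_le_stab_of_singular_orth hQ h7 _ hWp0 hWp p hp0 hp ?_ hle'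
    intro a ha
    have := (QuadData.mem_orth_iff W a).mp ha p hpW
    rw [polarBilin_apply] at this
    rwa [QuadraticMap.polar_comm]

end Cfsg.Agent.Lib.Helper5.AschO
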