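/-
helper31: modules BP-[U-BRTR] + BP-[U-BRCONJ] of helper92's sheet (Broué–Puig project, batch 3b):
the Brauer map of a relative trace `Tr_T^N(a)` at a subgroup `Q ⊴ N`.
* `br_relTr_of_not_le`: `Q ≰ T` ⟹ `Br_Q(Tr_T^N a) = 0` (orbit counting for `Q` acting on `N/T`);
* `br_relTr_of_le`: `Q ≤ T` ⟹ `Br_Q(Tr_T^N a) = Σ_{t ∈ N/T} Br_Q(t a t⁻¹)`;
* `br_conj`: `Br_Q(x a x⁻¹)(x z x⁻¹) = Br_Q(a)(z)`.
-/
import Mathlib
import Cfsg.Agent.Lib.Helper92.BPGAlg
import Cfsg.Agent.Lib.Helper9.BPTr2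
import Cfsg.Agent.Lib.Helper9.BPBr3
import Cfsg.Agent.Lib.Helper40.BPBr1
import Cfsg.Agent.Lib.Helper40.BPConj
import Cfsg.Agent.Lib.Helper23.BPBrMul

set_option autoImplicit false

namespace Cfsg.Agent.Lib.Helper31.BP

open Cfsg.Agent.Lib.Helper92.BP Cfsg.Agent.Lib.Helper9.BP

section
variable {R : Type*} [CommRing R] [IsDomain R] [IsLocalRing R] {G : Type*} [Group G]

/-- BP-[U-BRCONJ] : `Br` and conjugation by an element normalising `Q` -/
theorem br_conj [Finite G] {Q : Subgroup G} {x : G}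
    (hx : x ∈ Subgroup.normalizer (Q : Set G)) (a : MonoidAlgebra R G)
    (z z' : Subgroup.centralizer (Q : Set G)) (hz : (z' : G) = x * (z : G) * x⁻¹) :
    (br R Q (conj R x a)).coeff z' = (br R Q a).coeff z := by
  rw [coeff_br', coeff_br', coeff_conj', hz]
  congr 2
  group

/-- BP-[U-BRTR] : `Q ≤ T`: the sum of the conjugates -/
theorem br_relTr_of_le [Finite G] {Q T N : Subgroup G} (hQT : Q ≤ T) (hTN : T ≤ N)
    {a : MonoidAlgebra R G} (ha : a ∈ fixedAlg R T) (D : Finset G) (hDN : ∀ t ∈ D, t ∈ N)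
    (hD : ∀ q ∈ N, ∃! t, t ∈ D ∧ t⁻¹ * q ∈ T) :
    br R Q (relTr R T N a) = ∑ t ∈ D, br R Q (conj R t a) := by
  classical
  rw [relTr_eq_sum_of_reps' (Q := N) ha (fun t : D => (t : G)) (fun t => hDN _ t.2)]
  · rw [Cfsg.Agent.Lib.Helper40.BP.br_sum, Finset.sum_coe_sort D (fun t => br R Q (conj R t a))]
  · intro q hq
    obtain ⟨t, ⟨htD, ht⟩, huniq⟩ := hD q hq
    refine ⟨⟨t, htD⟩, ht, ?_⟩
    rintro ⟨t', ht'D⟩ ht'
    exact Subtype.ext (huniq t' ⟨ht'D, ht'⟩)

/-- BP-[U-BRTR] : `Br_Q` of a relative trace, `Q ⊴ N` (`N` a `p`-group), `Q ≰ T` -/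
theorem br_relTr_of_not_le [Finite G] {p : ℕ} [Fact p.Prime]
    [CharP (IsLocalRing.ResidueField R) p] {Q T N : Subgroup G} (hN : IsPGroup p N)
    (hQN : Q ≤ N) (hTN : T ≤ N) (hnorm : N ≤ Subgroup.normalizer (Q : Set G)) (hQT : ¬ Q ≤ T)
    {a : MonoidAlgebra R G} (ha : a ∈ fixedAlg R T) : br R Q (relTr R T N a) = 0 := by
  classical
  letI : Fintype (N ⧸ T.subgroupOf N) := Fintype.ofFinite _
  apply MonoidAlgebra.coeff_injective
  ext z
  rw [coeff_br', MonoidAlgebra.coeff_zero, Finsupp.zero_apply, relTr_eq_sum,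
    MonoidAlgebra.coeff_sum, Finsupp.finsetSum_apply, map_sum]
  -- the acting `p`-group
  have hP : IsPGroup p (Q.subgroupOf N) := hN.to_subgroup _
  have hcoeff := (Cfsg.Agent.Lib.Helper40.BP.mem_fixedAlg_iff_coeff T a).1 ha
  apply Cfsg.Agent.Lib.Helper23.BP.sum_eq_zero_of_pGroup (p := p) (P := Q.subgroupOf N) hP
    (fun x : N ⧸ T.subgroupOf N =>
      IsLocalRing.residue R ((conj R ((Quotient.out x : N) : G) a).coeff (z : G)))
  · -- invariance
    rintro ⟨u, hu⟩ x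
    have huQ : (u : G) ∈ Q := Subgroup.mem_subgroupOf.1 hu
    show IsLocalRing.residue R ((conj R ((Quotient.out (u • x) : N) : G) a).coeff (z : G)) =
      IsLocalRing.residue R ((conj R ((Quotient.out x : N) : G) a).coeff (z : G))
    congr 1
    have e : u • x = (QuotientGroup.mk (u * Quotient.out x) : N ⧸ T.subgroupOf N) := by
      conv_lhs => rw [← QuotientGroup.out_eq' x]
      rfl
    obtain ⟨s, hs⟩ := QuotientGroup.mk_out_eq_mul (T.subgroupOf N) (u * Quotient.out x)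
    have hsT : ((s : N) : G) ∈ T := Subgroup.mem_subgroupOf.1 s.2
    rw [e, hs, Subgroup.coe_mul, Subgroup.coe_mul, conj_mul_of_mem ha _ hsT, coeff_conj',
      coeff_conj']
    congr 1
    have hz := z.2
    rw [Subgroup.mem_centralizer_iff] at hz
    have hcomm : (u : G) * (z : G) = (z : G) * (u : G) := hz _ huQ
    have : ((u : G) * ((Quotient.out x : N) : G))⁻¹ * (z : G) * ((u : G) * ((Quotient.out x : N) : G))
        = ((Quotient.out x : N) : G)⁻¹ * ((u : G)⁻¹ * ((z : G) * (u : G))) * ((Quotient.out x : N) : G) := by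
      group
    rw [this, ← hcomm, inv_mul_cancel_left]
  · -- no fixed points
    intro x hxfix
    exfalso
    apply hQT
    intro q hq
    set o : N := Quotient.out x with ho
    have hoN : (o : G) ∈ Subgroup.normalizer (Q : Set G) := hnorm o.2
    have hq' : (o : G) * q * (o : G)⁻¹ ∈ Q := (Subgroup.mem_normalizer_iff.1 hoN q).1 hq
    have hqN' : (o : G) * q * (o : G)⁻¹ ∈ N := hQN hq'
    let u : Q.subgroupOf N := ⟨⟨(o : G) * q * (o : G)⁻¹, hqN'⟩, Subgroup.mem_subgroupOf.2 hq'⟩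
    have hfix : u • x = x := hxfix u
    have e : u • x = (QuotientGroup.mk ((u : N) * o) : N ⧸ T.subgroupOf N) := by
      conv_lhs => rw [← QuotientGroup.out_eq' x]
      rfl
    rw [e] at hfix
    have h2 : (QuotientGroup.mk o : N ⧸ T.subgroupOf N) = QuotientGroup.mk ((u : N) * o) := by
      rw [hfix, ho, QuotientGroup.out_eq']
    rw [QuotientGroup.eq, Subgroup.mem_subgroupOf] at h2
    have h3 : ((o⁻¹ * ((u : N) * o) : N) : G) = q := by
      rw [Subgroup.coe_mul, Subgroup.coe_mul, Subgroup.coe_inv]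
      show (o : G)⁻¹ * ((o : G) * q * (o : G)⁻¹ * (o : G)) = q
      group
    rw [h3] at h2
    exact h2

end

end Cfsg.Agent.Lib.Helper31.BP
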