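/-
helper31: module BP-[U-A] (Lemma A, the normal case of purity) of helper92's Broué–Puig sheet,
in `_of` form: the facts of the modules D1 (block idempotents of `k[H]`), D3 (normal inclusion of
Brauer pairs in idempotent form) and U-PRIMBR (`br_prim_of_fixed`) enter as hypotheses stated
exactly as in `BP_SKEL2d.lean.txt` (specialised to the groups at hand), plus the `Rm`-level
idempotency / centrality of `blockIdemR`.

Proof.  `y = Br_Q(i)` is a nonzero idempotent of `k[C_G(Q)]`; pick a block `f` with `y ē_f ≠ 0`.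
`S` = stabiliser in `P` of `a₀ = incl ẽ_f`, `W = Tr_S^P(a₀) ∈ A^P`; `Br_Q(W)` is a sum of distinct
block idempotents, so a central idempotent, and `y Br_Q(W)` is a `P`-fixed idempotent below `y`;
by PRIMBR `y = y Br_Q(W) = Br_Q(iW)`, hence `Br_P(i) = Br_P(i)Br_P(W)`, and `Br_P(W) = 0` if
`S < P`.  So `S = P`, `W = a₀`, `y ē_f = y`; `Z = Br_P(a₀)` is a central idempotent of `k[C_G(P)]`
with `Br_P(i) Z = Br_P(i)`, so `ē_e Z = ē_e` (D1), and D3 gives the normal subpair.
-/
import Mathlib
import Cfsg.Agent.Lib.Helper31.BPLemmaAPre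
import Cfsg.Agent.Lib.Helper31.BPBrTr
import Cfsg.Agent.Lib.Helper23.BPBrMul
import Cfsg.Agent.Lib.Helper40.BPTr1
import Cfsg.Agent.Lib.Helper78.BPDict2
import Cfsg.Agent.Lib.Helper16.BlockTransport
import Cfsg.Agent.Lib.Helper16.PairConj
import Cfsg.Agent.Lib.Helper16.Osima
import Cfsg.Agent.Lib.Helper52.BPD0

set_option autoImplicit false

namespace Cfsg.Agent.Lib.Helper31.BP

open Cfsg Cfsg.Agent.Lib.Helper16 Cfsg.Agent.Lib.Helper92.BP Cfsg.Agent.Lib.Helper9.BP

section Stab
variable {R : Type*} [CommRing R] {G : Type*} [Group G]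

/-- the stabiliser in `P` of an element of the group algebra under conjugation -/
def stabIn (R : Type*) [CommRing R] {G : Type*} [Group G] (P : Subgroup G)
    (a : MonoidAlgebra R G) : Subgroup G where
  carrier := {x | x ∈ P ∧ conj R x a = a}
  mul_mem' := by
    rintro x y ⟨hx, hx'⟩ ⟨hy, hy'⟩
    exact ⟨P.mul_mem hx hy, by rw [← conj_conj', hy', hx']⟩
  one_mem' := ⟨P.one_mem, conj_one_left' _⟩
  inv_mem' := by
    rintro x ⟨hx, hx'⟩
    refine ⟨P.inv_mem hx, ?_⟩
    conv_lhs => rw [← hx']
    rw [conj_conj', inv_mul_cancel, conj_one_left']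

theorem mem_stabIn {P : Subgroup G} {a : MonoidAlgebra R G} {x : G} :
    x ∈ stabIn R P a ↔ x ∈ P ∧ conj R x a = a := Iff.rfl

theorem stabIn_le (P : Subgroup G) (a : MonoidAlgebra R G) : stabIn R P a ≤ P :=
  fun _ hx => hx.1

theorem mem_fixedAlg_stabIn (P : Subgroup G) (a : MonoidAlgebra R G) :
    a ∈ fixedAlg R (stabIn R P a) := by
  rw [mem_fixedAlg_iff']
  exact fun q hq => hq.2

end Stab

section Conj
variable {G : Type*} [Group G]

theorem map_conj_eq_of_mem_normalizer {Q : Subgroup G} {x : G}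
    (hx : x ∈ Subgroup.normalizer (Q : Set G)) :
    Q.map (MulAut.conj x).toMonoidHom = Q := by
  ext y
  rw [Subgroup.mem_map_equiv, MulAut.conj_symm_apply]
  have hx' : x⁻¹ ∈ Subgroup.normalizer (Q : Set G) := Subgroup.inv_mem _ hx
  have := (Subgroup.mem_normalizer_iff.1 hx') y
  rw [inv_inv] at this
  exact this.symm

end Conj

section Blocks
variable {G : Type*} [Group G] [Finite G] {p : ℕ} [Fact p.Prime] {M : Ideal AlgInt}
  [hMp : M.IsPrime]

theorem exists_block_of_eq {Q Q' : Subgroup G} (h : Q' = Q)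
    (f' : Set (IrrCharacter (Subgroup.centralizer (Q' : Set G)))) (hf' : IsPBlock M f') :
    ∃ f : Set (IrrCharacter (Subgroup.centralizer (Q : Set G))), IsPBlock M f ∧
      incl (localSubring M) _ (blockIdemR M f') = incl (localSubring M) _ (blockIdemR M f) := by
  subst h
  exact ⟨f', hf', rfl⟩

/-- a conjugate, under an element normalising `Q`, of a block idempotent of `C_G(Q)` is a block
idempotent of `C_G(Q)` -/
theorem exists_block_conj (hM : IsPModular p M) {Q : Subgroup G} {x : G}
    (hx : x ∈ Subgroup.normalizer (Q : Set G))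
    {f : Set (IrrCharacter (Subgroup.centralizer (Q : Set G)))} (hf : IsPBlock M f) :
    ∃ f' : Set (IrrCharacter (Subgroup.centralizer (Q : Set G))), IsPBlock M f' ∧
      conj (localSubring M) x (incl _ _ (blockIdemR M f)) = incl _ _ (blockIdemR M f') := by
  rw [Cfsg.Agent.Lib.Helper78.BP.conj_incl_blockIdemR hM Q x hf]
  have hb : IsPBlock M (conjBlock Q x f) := by
    rw [conjBlock_eq_pullBlock]
    exact isPBlock_pullBlock _ hf
  exact exists_block_of_eq (map_conj_eq_of_mem_normalizer hx) _ hb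

set_option maxHeartbeats 1000000 in
/-- BP-[U-A] : Lemma A (normal case of purity), modulo D1 / D3 / U-PRIMBR -/
theorem lemmaA_of (hM : IsPModular p M) {Q P : Subgroup G} (hP : IsPGroup p P) (hQP : Q ≤ P)
    (hPN : P ≤ Subgroup.normalizer (Q : Set G)) {i : MonoidAlgebra (localSubring M) G}
    (hi : IsLocalPrim (localSubring M) P i)
    {e : Set (IrrCharacter (Subgroup.centralizer (P : Set G)))} (he : IsPBlock M e)
    (hie : br (localSubring M) P i * blockIdemK M e = br (localSubring M) P i)
    -- D1 for `C_G(Q)`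
    (D1idem : ∀ {f : Set (IrrCharacter (Subgroup.centralizer (Q : Set G)))}, IsPBlock M f →
      IsIdempotentElem (blockIdemK M f))
    (D1cent : ∀ {f : Set (IrrCharacter (Subgroup.centralizer (Q : Set G)))}, IsPBlock M f →
      ∀ y, blockIdemK M f * y = y * blockIdemK M f)
    (D1orth : ∀ {f f' : Set (IrrCharacter (Subgroup.centralizer (Q : Set G)))}, IsPBlock M f →
      IsPBlock M f' → f ≠ f' → blockIdemK M f * blockIdemK M f' = 0)
    (D1sum : ∑ᶠ f ∈ {f : Set (IrrCharacter (Subgroup.centralizer (Q : Set G))) | IsPBlock M f},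
      blockIdemK M f = 1)
    -- D1 for `C_G(P)`
    (D1mulc : ∀ z : MonoidAlgebra (IsLocalRing.ResidueField (localSubring M))
        (Subgroup.centralizer (P : Set G)), IsIdempotentElem z → (∀ y, z * y = y * z) →
      blockIdemK M e * z = blockIdemK M e ∨ blockIdemK M e * z = 0)
    -- `Rm`-level
    (Ridem : ∀ {f : Set (IrrCharacter (Subgroup.centralizer (Q : Set G)))}, IsPBlock M f →
      IsIdempotentElem (blockIdemR M f))
    (Rcent : ∀ {f : Set (IrrCharacter (Subgroup.centralizer (Q : Set G)))}, IsPBlock M f →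
      ∀ y, blockIdemR M f * y = y * blockIdemR M f)
    -- D3
    (D3 : ∀ f : Set (IrrCharacter (Subgroup.centralizer (Q : Set G))),
      (IsBrauerPair p M Q f ∧ IsBrauerPair p M P e ∧ Q ≤ P ∧
        P ≤ Subgroup.normalizer (Q : Set G) ∧
        (∀ x ∈ P, conj (localSubring M) x (incl _ _ (blockIdemR M f)) =
          incl _ _ (blockIdemR M f)) ∧
        br (localSubring M) P (incl _ _ (blockIdemR M f)) * blockIdemK M e = blockIdemK M e) →
      IsNormalSubpair p M Q f P e)
    -- U-PRIMBR
    (PR : ∀ (y₁ y₂ : MonoidAlgebra (IsLocalRing.ResidueField (localSubring M))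
        (Subgroup.centralizer (Q : Set G))), IsIdempotentElem y₁ → IsIdempotentElem y₂ →
      y₁ * y₂ = 0 → y₂ * y₁ = 0 → y₁ + y₂ = br (localSubring M) Q i →
      (∀ u ∈ P, ∀ z z' : Subgroup.centralizer (Q : Set G),
        (z' : G) = u * (z : G) * u⁻¹ → y₁.coeff z' = y₁.coeff z) → y₁ = 0 ∨ y₂ = 0) :
    ∃ f : Set (IrrCharacter (Subgroup.centralizer (Q : Set G))),
      IsNormalSubpair p M Q f P e ∧
        br (localSubring M) Q i * blockIdemK M f = br (localSubring M) Q i := by
  classical
  haveI : CharP (IsLocalRing.ResidueField (localSubring M)) p :=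
    Cfsg.Agent.Lib.Helper52.BP.charP_residueField hM
  have hQp : IsPGroup p Q := hP.to_le hQP
  obtain ⟨⟨hiP, hiprim⟩, hbrP⟩ := hi
  have hii : i * i = i := congrArg Subtype.val hiprim.1
  have hiQ : i ∈ fixedAlg (localSubring M) Q := fixedAlg_anti' hQP hiP
  have hbr0 : ∀ T : Subgroup G, br (localSubring M) T (0 : MonoidAlgebra (localSubring M) G) = 0 :=
    fun T => Cfsg.Agent.Lib.Helper40.BP.br_zero T
  set y := br (localSubring M) Q i with hy
  have hyy : y * y = y := by
    rw [hy, ← Cfsg.Agent.Lib.Helper23.BP.br_mul hQp hiQ hiQ, hii]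
  have hy0 : y ≠ 0 := by
    intro h0
    apply hbrP
    have h1 : br (localSubring M) Q i = br (localSubring M) Q 0 := by rw [← hy, h0, hbr0]
    rw [br_eq_of_br_eq hQP h1, hbr0]
  -- a block `f` with `y ē_f ≠ 0`
  haveI : Finite (IrrCharacter (Subgroup.centralizer (Q : Set G))) := finite_irrCharacter
  have hfinB : {f : Set (IrrCharacter (Subgroup.centralizer (Q : Set G))) | IsPBlock M f}.Finite :=
    Set.toFinite _
  obtain ⟨f, hf, hyf⟩ : ∃ f : Set (IrrCharacter (Subgroup.centralizer (Q : Set G))),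
      IsPBlock M f ∧ y * blockIdemK M f ≠ 0 := by
    by_contra hcon
    push Not at hcon
    apply hy0
    calc y = y * 1 := (mul_one y).symm
      _ = y * ∑ᶠ f ∈ {f : Set (IrrCharacter (Subgroup.centralizer (Q : Set G))) | IsPBlock M f},
            blockIdemK M f := by rw [D1sum]
      _ = ∑ᶠ f ∈ {f : Set (IrrCharacter (Subgroup.centralizer (Q : Set G))) | IsPBlock M f},
            y * blockIdemK M f := mul_finsum_mem' _ _ hfinB
      _ = 0 := finsum_mem_eq_zero_of_forall_eq_zero fun f hf => hcon f hf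
  set a₀ : MonoidAlgebra (localSubring M) G := incl _ _ (blockIdemR M f) with ha₀
  have ha₀Q : a₀ ∈ fixedAlg (localSubring M) Q := incl_mem_fixedAlg le_rfl _
  have hbra₀ : br (localSubring M) Q a₀ = blockIdemK M f := br_incl Q _
  set S : Subgroup G := stabIn (localSubring M) P a₀ with hS
  have hSP : S ≤ P := stabIn_le P a₀
  have ha₀S : a₀ ∈ fixedAlg (localSubring M) S := mem_fixedAlg_stabIn P a₀
  set W : MonoidAlgebra (localSubring M) G := relTr (localSubring M) S P a₀ with hW
  have hWP : W ∈ fixedAlg (localSubring M) P :=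
    Cfsg.Agent.Lib.Helper40.BP.relTr_mem_fixedAlg hSP ha₀S
  have hWQ : W ∈ fixedAlg (localSubring M) Q := fixedAlg_anti' hQP hWP
  letI : Fintype (P ⧸ S.subgroupOf P) := Fintype.ofFinite _
  have hWsum : W = ∑ t : P ⧸ S.subgroupOf P, conj (localSubring M) ((Quotient.out t : P) : G) a₀ :=
    relTr_eq_sum S P a₀
  set β : P ⧸ S.subgroupOf P → MonoidAlgebra (IsLocalRing.ResidueField (localSubring M))
      (Subgroup.centralizer (Q : Set G)) :=
    fun t => br (localSubring M) Q (conj (localSubring M) ((Quotient.out t : P) : G) a₀) with hβ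
  have hβf : ∀ t, ∃ f' : Set (IrrCharacter (Subgroup.centralizer (Q : Set G))), IsPBlock M f' ∧
      conj (localSubring M) ((Quotient.out t : P) : G) a₀ = incl _ _ (blockIdemR M f') ∧
      β t = blockIdemK M f' := by
    intro t
    obtain ⟨f', hf', h⟩ := exists_block_conj hM (hPN (Quotient.out t : P).2) hf
    refine ⟨f', hf', h, ?_⟩
    show br (localSubring M) Q (conj (localSubring M) ((Quotient.out t : P) : G) a₀) = _
    rw [h]
    exact br_incl Q _
  have hβidem : ∀ t, β t * β t = β t := by
    intro t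
    obtain ⟨f', hf', -, h⟩ := hβf t
    rw [h]
    exact D1idem hf'
  have hβcent : ∀ t y', β t * y' = y' * β t := by
    intro t y'
    obtain ⟨f', hf', -, h⟩ := hβf t
    rw [h]
    exact D1cent hf' y'
  have hβorth : ∀ t t', t ≠ t' → β t * β t' = 0 := by
    intro t t' htt
    obtain ⟨f', hf', h1, h⟩ := hβf t
    obtain ⟨f'', hf'', h1', h'⟩ := hβf t'
    rw [h, h']
    apply D1orth hf' hf''
    intro hff
    apply htt
    have h2 : conj (localSubring M) ((Quotient.out t : P) : G) a₀ =
        conj (localSubring M) ((Quotient.out t' : P) : G) a₀ := by rw [h1, h1', hff]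
    have h3 : ((Quotient.out t : P) : G)⁻¹ * ((Quotient.out t' : P) : G) ∈ S := by
      refine mem_stabIn.2 ⟨P.mul_mem (P.inv_mem (Quotient.out t : P).2) (Quotient.out t' : P).2, ?_⟩
      rw [← conj_conj', ← h2, conj_conj', inv_mul_cancel, conj_one_left']
    have h4 := (out_reps S P _ (Quotient.out t' : P).2 t).1 h3
    rw [h4]
    exact QuotientGroup.out_eq' t'
  set w := br (localSubring M) Q W with hw
  have hwsum : w = ∑ t, β t := by
    rw [hw, hWsum, Cfsg.Agent.Lib.Helper40.BP.br_sum]
  have hww : w * w = w := by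
    rw [hwsum, Finset.sum_mul_sum]
    refine Finset.sum_congr rfl fun t _ => ?_
    rw [Finset.sum_eq_single t (fun t' _ ht' => hβorth t t' (Ne.symm ht'))
      (fun h => (h (Finset.mem_univ t)).elim), hβidem]
  have hwc : ∀ y', w * y' = y' * w := by
    intro y'
    rw [hwsum, Finset.sum_mul, Finset.mul_sum]
    exact Finset.sum_congr rfl fun t _ => hβcent t y'
  -- the trivial coset
  have hwf : w * blockIdemK M f = blockIdemK M f := by
    set t₀ : P ⧸ S.subgroupOf P := QuotientGroup.mk (1 : P) with ht₀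
    have h1 : ((Quotient.out t₀ : P) : G) ∈ S := by
      have := (out_reps S P 1 P.one_mem t₀).2 rfl
      rw [mul_one] at this
      have h2 := S.inv_mem this
      rwa [inv_inv] at h2
    have h2 : β t₀ = blockIdemK M f := by
      show br (localSubring M) Q (conj (localSubring M) ((Quotient.out t₀ : P) : G) a₀) = _
      rw [(mem_stabIn.1 h1).2, hbra₀]
    rw [← h2, hwsum, Finset.sum_mul,
      Finset.sum_eq_single t₀ (fun t' _ ht' => hβorth t' t₀ ht')
      (fun h => (h (Finset.mem_univ t₀)).elim), hβidem]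
  -- PRIMBR
  have hyw : y = y * w := by
    have hw1 : (1 - w) * (1 - w) = 1 - w := by
      rw [mul_sub, mul_one, sub_mul, one_mul, hww, sub_self, sub_zero]
    have h₁ : IsIdempotentElem (y * w) := by
      show y * w * (y * w) = y * w
      rw [mul_assoc, ← mul_assoc w y w, hwc y, mul_assoc y w w, hww, ← mul_assoc, hyy]
    have h₂ : IsIdempotentElem (y * (1 - w)) := by
      show y * (1 - w) * (y * (1 - w)) = y * (1 - w)
      have hc : (1 - w) * y = y * (1 - w) := by
        rw [sub_mul, one_mul, mul_sub, mul_one, hwc y]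
      rw [mul_assoc, ← mul_assoc (1 - w) y (1 - w), hc, mul_assoc y (1 - w) (1 - w), hw1,
        ← mul_assoc, hyy]
    have h12 : y * w * (y * (1 - w)) = 0 := by
      rw [mul_assoc, ← mul_assoc w y (1 - w), hwc y, mul_assoc y w (1 - w), mul_sub, mul_one, hww,
        sub_self, mul_zero, mul_zero]
    have h21 : y * (1 - w) * (y * w) = 0 := by
      have hc : (1 - w) * y = y * (1 - w) := by
        rw [sub_mul, one_mul, mul_sub, mul_one, hwc y]
      rw [mul_assoc, ← mul_assoc (1 - w) y w, hc, mul_assoc y (1 - w) w, sub_mul, one_mul, hww,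
        sub_self, mul_zero, mul_zero]
    have hsum : y * w + y * (1 - w) = br (localSubring M) Q i := by
      rw [← mul_add, add_sub_cancel, mul_one]
    have hfix : ∀ u ∈ P, ∀ z z' : Subgroup.centralizer (Q : Set G),
        (z' : G) = u * (z : G) * u⁻¹ → (y * w).coeff z' = (y * w).coeff z := by
      intro u hu z z' hz
      have hiW : i * W ∈ fixedAlg (localSubring M) P := Subalgebra.mul_mem _ hiP hWP
      have e1 : y * w = br (localSubring M) Q (i * W) := by
        rw [hy, hw, ← Cfsg.Agent.Lib.Helper23.BP.br_mul hQp hiQ hWQ]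
      rw [e1]
      have e2 := br_conj (R := localSubring M) (hPN hu) (i * W) z z' hz
      rw [conj_eq_of_mem hiW hu] at e2
      exact e2
    rcases PR _ _ h₁ h₂ h12 h21 hsum hfix with h | h
    · exfalso
      apply hyf
      rw [← hwf, ← mul_assoc, h, zero_mul]
    · rw [mul_sub, mul_one, sub_eq_zero] at h
      exact h
  -- `Br_P(i) = Br_P(i) Br_P(W)`
  have hPiW : br (localSubring M) P i = br (localSubring M) P i * br (localSubring M) P W := by
    have e1 : br (localSubring M) Q i = br (localSubring M) Q (i * W) := by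
      rw [Cfsg.Agent.Lib.Helper23.BP.br_mul hQp hiQ hWQ]
      exact hyw
    rw [← Cfsg.Agent.Lib.Helper23.BP.br_mul hP hiP hWP]
    exact br_eq_of_br_eq hQP e1
  -- the stabiliser is `P`
  have hSeq : S = P := by
    by_contra hne
    have hlt : S < P := lt_of_le_of_ne hSP hne
    apply hbrP
    rw [hPiW, br_relTr hP hlt ha₀S, mul_zero]
  have hstab : ∀ x ∈ P, conj (localSubring M) x a₀ = a₀ := by
    intro x hx
    have : x ∈ S := by rw [hSeq]; exact hx
    exact (mem_stabIn.1 this).2
  have ha₀P : a₀ ∈ fixedAlg (localSubring M) P := by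
    rw [mem_fixedAlg_iff']
    exact hstab
  have hWa₀ : W = a₀ := by
    rw [hW, relTr_of_mem_fixedAlg hSP ha₀P]
    have : S.relIndex P = 1 := Subgroup.relIndex_eq_one.2 (le_of_eq hSeq.symm)
    rw [this, Nat.cast_one, one_smul]
  have hyf' : y * blockIdemK M f = y := by
    rw [← hbra₀, ← hWa₀]
    exact hyw.symm
  -- `Z = Br_P(a₀)`
  set Z := br (localSubring M) P a₀ with hZ
  have ha₀a₀ : a₀ * a₀ = a₀ := by
    rw [ha₀, ← map_mul, (Ridem hf).eq]
  have hZidem : IsIdempotentElem Z := by
    show Z * Z = Z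
    rw [hZ, ← Cfsg.Agent.Lib.Helper23.BP.br_mul hP ha₀P ha₀P, ha₀a₀]
  have hZcent : ∀ y', Z * y' = y' * Z := by
    apply central_of_commute_of
    intro c
    rw [hZ, ← Cfsg.Agent.Lib.Helper40.BP.br_mul_of, ← Cfsg.Agent.Lib.Helper40.BP.br_of_mul]
    congr 1
    have hcC : (c : G) ∈ Subgroup.centralizer (Q : Set G) :=
      Subgroup.centralizer_le (by exact_mod_cast hQP) c.2
    have := incl_of (R := localSubring M) (Subgroup.centralizer (Q : Set G)) ⟨(c : G), hcC⟩
    rw [← this, ha₀, ← map_mul, ← map_mul, Rcent hf]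
  have hiZ : br (localSubring M) P i * Z = br (localSubring M) P i := by
    have h1 : br (localSubring M) P i * br (localSubring M) P W = br (localSubring M) P i :=
      hPiW.symm
    rwa [hWa₀] at h1
  have hc : Z * blockIdemK M e = blockIdemK M e := by
    rcases D1mulc Z hZidem hZcent with h | h
    · rw [hZcent, h]
    · exfalso
      apply hbrP
      calc br (localSubring M) P i = br (localSubring M) P i * Z := hiZ.symm
        _ = br (localSubring M) P i * blockIdemK M e * Z := by rw [hie]
        _ = br (localSubring M) P i * (blockIdemK M e * Z) := mul_assoc _ _ _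
        _ = 0 := by rw [h, mul_zero]
  exact ⟨f, D3 f ⟨⟨hQp, hf⟩, ⟨hP, he⟩, hQP, hPN, hstab, hc⟩, hyf'⟩

end Blocks

end Cfsg.Agent.Lib.Helper31.BP
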