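/-
helper31: BP-[U-A] Lemma A with D1 (helper77), D2 (helper78), U-PRIMBR (helper52), D0 (helper52)
plugged in; the only remaining hypothesis is the `←` direction of BP-[D3]
(`isNormalSubpair_iff_idem`, helper78) for the pair at hand.
-/
import Mathlib
import Cfsg.Agent.Lib.Helper31.BPLemmaA
import Cfsg.Agent.Lib.Helper77.BPBlockD1
import Cfsg.Agent.Lib.Helper77.BPBlockD1R
import Cfsg.Agent.Lib.Helper52.BPPrimBr
import Cfsg.Agent.Lib.Helper3.BPLocal

set_option autoImplicit false

namespace Cfsg.Agent.Lib.Helper31.BP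

open Cfsg Cfsg.Agent.Lib.Helper16 Cfsg.Agent.Lib.Helper92.BP

section Blocks
variable {G : Type*} [Group G] [Finite G] {p : ℕ} [Fact p.Prime] {M : Ideal AlgInt}
  [hMp : M.IsPrime]

/-- BP-[U-A] : Lemma A (normal case of purity), modulo the `←` direction of BP-[D3] -/
theorem lemmaA_of_D3 (hM : IsPModular p M) {Q P : Subgroup G} (hP : IsPGroup p P) (hQP : Q ≤ P)
    (hPN : P ≤ Subgroup.normalizer (Q : Set G)) {i : MonoidAlgebra (localSubring M) G}
    (hi : IsLocalPrim (localSubring M) P i)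
    {e : Set (IrrCharacter (Subgroup.centralizer (P : Set G)))} (he : IsPBlock M e)
    (hie : br (localSubring M) P i * blockIdemK M e = br (localSubring M) P i)
    (D3 : ∀ f : Set (IrrCharacter (Subgroup.centralizer (Q : Set G))),
      (IsBrauerPair p M Q f ∧ IsBrauerPair p M P e ∧ Q ≤ P ∧
        P ≤ Subgroup.normalizer (Q : Set G) ∧
        (∀ x ∈ P, conj (localSubring M) x (incl _ _ (blockIdemR M f)) =
          incl _ _ (blockIdemR M f)) ∧
        br (localSubring M) P (incl _ _ (blockIdemR M f)) * blockIdemK M e = blockIdemK M e) →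
      IsNormalSubpair p M Q f P e) :
    ∃ f : Set (IrrCharacter (Subgroup.centralizer (Q : Set G))),
      IsNormalSubpair p M Q f P e ∧
        br (localSubring M) Q i * blockIdemK M f = br (localSubring M) Q i := by
  haveI : CharP (IsLocalRing.ResidueField (localSubring M)) p :=
    Cfsg.Agent.Lib.Helper52.BP.charP_residueField hM
  exact lemmaA_of hM hP hQP hPN hi he hie
    (fun hf => Cfsg.Agent.Lib.Helper77.BP.blockIdemK_idem hM hf)
    (fun hf y => Cfsg.Agent.Lib.Helper77.BP.blockIdemK_central hM hf y)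
    (fun hf hf' hne => Cfsg.Agent.Lib.Helper77.BP.blockIdemK_orth hM hf hf' hne)
    (Cfsg.Agent.Lib.Helper77.BP.sum_blockIdemK hM)
    (fun z hz hzc => Cfsg.Agent.Lib.Helper77.BP.blockIdemK_mul_central hM he z hz hzc)
    (fun hf => Cfsg.Agent.Lib.Helper77.BP.blockIdemR_isIdempotentElem hM hf)
    (fun hf y => Cfsg.Agent.Lib.Helper77.BP.blockIdemR_mul_comm hM hf y)
    D3
    (fun y₁ y₂ h₁ h₂ h12 h21 hsum hfix =>
      Cfsg.Agent.Lib.Helper52.BP.br_prim_of_fixed
        (Cfsg.Agent.Lib.Helper3.BP.monicSplits_localSubring M) hP hQP hPN hi.1 y₁ y₂ h₁ h₂ h12 h21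
        hsum hfix)

end Blocks

end Cfsg.Agent.Lib.Helper31.BP
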