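import Mathlib
import Cfsg.Agent.Lib.Helper24.PFCycCtx
import Cfsg.Agent.Lib.Helper24.PFCycTau
import Cfsg.Agent.Lib.Helper25.CohDescent2
import Cfsg.Agent.Lib.Helper25.Norm3
import Cfsg.Agent.Lib.Helper25.PFCycEta
import Cfsg.Agent.Lib.Helper74.OddOrder
import Cfsg.Agent.Lib.Helper60.PFCycB2a
import Cfsg.Agent.Lib.Helper51.PFCycMuInd
import Cfsg.Agent.Lib.Helper1.PF127Const

/-!
# Peterfalvi section 10, M-side: module [CHI] (helper31)

`χ = τ₁ ζ` is `±` irreducible, `τ₁ (conj ζ) = conj χ`, and `χ` is orthogonal to `1_G` and to the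
whole cyclic TI family `η`.
-/

set_option autoImplicit false
set_option linter.unusedSectionVars false

namespace Cfsg.Agent.Lib.Helper31.PFCyc

open Cfsg Cfsg.Agent.Lib.Helper4.PF Cfsg.Agent.Lib.Helper74.PF127 Cfsg.Agent.Lib.Helper24.PFCyc

universe u

section W

variable {G : Type u} [Group G] {W₁ W₂ : Subgroup G}

/-- a linear character of `W` trivial on `W ∖ (W₁ ∪ W₂)` is trivial (`|W|` odd) -/
theorem wchar_eq_one_of_hat [Finite G] (hW : IsSelfNormalizingCyclic W₁ W₂)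
    (hodd : Odd (Nat.card ↥(W₁ ⊔ W₂))) (ω : WChar W₁ W₂)
    (h : ∀ w : ↥(W₁ ⊔ W₂), (w : G) ∉ W₁ → (w : G) ∉ W₂ → ω w = 1) : ω = 1 := by
  have hW' := hW
  obtain ⟨hW₁, hW₂, hinf, hcomm, -, -⟩ := hW
  -- squares of nontrivial elements are nontrivial
  have hsq : ∀ b : G, b ∈ W₁ ⊔ W₂ → b ≠ 1 → b * b ≠ 1 := by
    intro b hb hb1 hbb
    have h2 : orderOf (⟨b, hb⟩ : ↥(W₁ ⊔ W₂)) ∣ 2 := by
      apply orderOf_dvd_of_pow_eq_one
      apply Subtype.ext
      simp [pow_two, hbb]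
    have hc : orderOf (⟨b, hb⟩ : ↥(W₁ ⊔ W₂)) ∣ Nat.card ↥(W₁ ⊔ W₂) := orderOf_dvd_natCard _
    have h1 : orderOf (⟨b, hb⟩ : ↥(W₁ ⊔ W₂)) = 1 := by
      have hco : Nat.Coprime 2 (Nat.card ↥(W₁ ⊔ W₂)) := by
        rw [Nat.coprime_two_left]
        exact hodd
      exact Nat.eq_one_of_dvd_coprimes hco h2 hc
    rw [orderOf_eq_one_iff] at h1
    exact hb1 (congrArg Subtype.val h1)
  -- mixed products lie in the hat
  have hmix : ∀ a ∈ W₁, a ≠ 1 → ∀ b ∈ W₂, b ≠ 1 → a * b ∉ W₁ ∧ a * b ∉ W₂ := by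
    intro a ha ha1 b hb hb1
    constructor
    · intro hab
      have hbW₁ : b ∈ W₁ := by
        have : b = a⁻¹ * (a * b) := by group
        rw [this]
        exact W₁.mul_mem (W₁.inv_mem ha) hab
      have : b ∈ W₁ ⊓ W₂ := ⟨hbW₁, hb⟩
      rw [hinf] at this
      exact hb1 (Subgroup.mem_bot.mp this)
    · intro hab
      have haW₂ : a ∈ W₂ := by
        have : a = (a * b) * b⁻¹ := by group
        rw [this]
        exact W₂.mul_mem hab (W₂.inv_mem hb)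
      have : a ∈ W₁ ⊓ W₂ := ⟨ha, haW₂⟩
      rw [hinf] at this
      exact ha1 (Subgroup.mem_bot.mp this)
  have hkey : ∀ a (ha : a ∈ W₁), a ≠ 1 → ∀ b (hb : b ∈ W₂), b ≠ 1 →
      ω ⟨a, Subgroup.mem_sup_left ha⟩ = 1 ∧ ω ⟨b, Subgroup.mem_sup_right hb⟩ = 1 := by
    intro a ha ha1 b hb hb1
    have hbb : b * b ≠ 1 := hsq b (Subgroup.mem_sup_right hb) hb1
    have hbbW₂ : b * b ∈ W₂ := W₂.mul_mem hb hb
    have e1 := h ⟨a * b, Subgroup.mul_mem _ (Subgroup.mem_sup_left ha) (Subgroup.mem_sup_right hb)⟩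
      (hmix a ha ha1 b hb hb1).1 (hmix a ha ha1 b hb hb1).2
    have e2 := h ⟨a * (b * b), Subgroup.mul_mem _ (Subgroup.mem_sup_left ha)
      (Subgroup.mem_sup_right hbbW₂)⟩
      (hmix a ha ha1 (b * b) hbbW₂ hbb).1 (hmix a ha ha1 (b * b) hbbW₂ hbb).2
    have d1 : (⟨a * b, Subgroup.mul_mem _ (Subgroup.mem_sup_left ha)
        (Subgroup.mem_sup_right hb)⟩ : ↥(W₁ ⊔ W₂)) =
        ⟨a, Subgroup.mem_sup_left ha⟩ * ⟨b, Subgroup.mem_sup_right hb⟩ := rfl
    have d2 : (⟨a * (b * b), Subgroup.mul_mem _ (Subgroup.mem_sup_left ha)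
        (Subgroup.mem_sup_right hbbW₂)⟩ : ↥(W₁ ⊔ W₂)) =
        ⟨a, Subgroup.mem_sup_left ha⟩ * ⟨b, Subgroup.mem_sup_right hb⟩ *
          ⟨b, Subgroup.mem_sup_right hb⟩ := by
      apply Subtype.ext
      simp [mul_assoc]
    rw [d1, map_mul] at e1
    rw [d2, map_mul, map_mul, e1, one_mul] at e2
    rw [e2, mul_one] at e1
    exact ⟨e1, e2⟩
  obtain ⟨a₀, ha₀1⟩ := (Subgroup.ne_bot_iff_exists_ne_one.mp hW₁)
  obtain ⟨b₀, hb₀1⟩ := (Subgroup.ne_bot_iff_exists_ne_one.mp hW₂)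
  apply Cfsg.Agent.Lib.Helper60.PFCycB.wchar_ext hW'
  · intro w hw
    by_cases hw1 : (w : G) = 1
    · have : w = 1 := Subtype.ext hw1
      rw [this, map_one, map_one]
    · exact (hkey (w : G) hw hw1 (b₀ : G) b₀.2 (fun hc => hb₀1 (Subtype.ext hc))).1
  · intro w hw
    by_cases hw1 : (w : G) = 1
    · have : w = 1 := Subtype.ext hw1
      rw [this, map_one, map_one]
    · exact (hkey (a₀ : G) a₀.2 (fun hc => ha₀1 (Subtype.ext hc)) (w : G) hw hw1).2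

end W

section Gen

variable {G : Type u} [Group G] [Fintype G]

open Cfsg.Agent.Lib.Helper25 in
theorem sirr_conj {e : G → ℂ} (he : SIrr G e) : SIrr G (conjFun e) := by
  rcases he with he | he
  · exact Or.inl (Cfsg.Agent.Lib.Helper81.isIrrCharacter_conj he)
  · right
    have := Cfsg.Agent.Lib.Helper81.isIrrCharacter_conj he
    have e2 : (-conjFun e) = fun g => (starRingEnd ℂ) ((-e) g) := by
      funext g
      simp [conjFun]
    rw [e2]
    exact this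

open Cfsg.Agent.Lib.Helper25 in
/-- the value at `1` of a signed irreducible character is a nonzero real number -/
theorem sirr_one {e : G → ℂ} (he : SIrr G e) : e 1 ≠ 0 ∧ (starRingEnd ℂ) (e 1) = e 1 := by
  rcases he with he | he
  · obtain ⟨n, hn, h1⟩ := (Cfsg.Agent.Lib.Helper26.irrFacts G).deg_pos e he
    rw [h1]
    refine ⟨by exact_mod_cast hn.ne', by simp⟩
  · obtain ⟨n, hn, h1⟩ := (Cfsg.Agent.Lib.Helper26.irrFacts G).deg_pos (-e) he
    have h2 : e 1 = -(n : ℂ) := by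
      have : (-e) 1 = -(e 1) := rfl
      rw [this] at h1
      rw [← h1, neg_neg]
    rw [h2]
    refine ⟨by simpa using hn.ne', by simp⟩

theorem conjFun_conjFun' {X : Type*} (f : X → ℂ) : conjFun (conjFun f) = f := by
  funext x
  simp [conjFun]

end Gen

section Ctx

variable {G : Type u} [Group G] [Fintype G] {M W₁ U W₂ : Subgroup G} [Fintype M]
  {mu : WChar W₁ W₂ → (↥M → ℂ)} {dl : WChar W₁ W₂ → ℂ} {η : WChar W₁ W₂ → (G → ℂ)}
  {τ₁ : (↥M → ℂ) → (G → ℂ)} {ζ : ↥M → ℂ}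

theorem calS_off {ζ' : ↥M → ℂ} (hζ' : ζ' ∈ calS M) (m : ↥M) (hm : (m : G) ∉ ⁅M, M⁆) :
    ζ' m = 0 := by
  obtain ⟨θ, -, -, -, rfl⟩ := hζ'
  have := Cfsg.Agent.Lib.Helper51.PFCyc.KM_normal M
  exact Cfsg.Agent.Lib.Helper1.PF127H.indFun_eq_zero_of_not_mem (KM M) θ
    (fun hc => hm (Subgroup.mem_subgroupOf.mp hc))

theorem calS_classFun {ζ' : ↥M → ℂ} (hζ' : ζ' ∈ calS M) : IsClassFunction ↥M ζ' := by
  obtain ⟨θ, -, -, -, rfl⟩ := hζ'
  exact Cfsg.Agent.Lib.Helper75.isClassFunction_indFun _ _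

theorem W_le_M (h : MCtx M W₁ U W₂ mu dl η τ₁ ζ) : W₁ ⊔ W₂ ≤ M :=
  sup_le h.hP.W₁_compl.2.1
    (((h.hP.W₂_le.trans inf_le_left).trans h.hP.U_compl.1).trans h.hP.W₁_compl.1)

theorem W_odd (h : MCtx M W₁ U W₂ mu dl η τ₁ ζ) : Odd (Nat.card ↥(W₁ ⊔ W₂)) :=
  Odd.of_dvd_nat h.hodd (Subgroup.card_dvd_of_le (W_le_M h))

open Cfsg.Agent.Lib.Helper25 in
/-- MODULE [CHI] -/
theorem chi_facts (h : MCtx M W₁ U W₂ mu dl η τ₁ ζ) (hf : MFacts M W₁ W₂ mu dl η) :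
    (IsIrrCharacter G (τ₁ ζ) ∨ IsIrrCharacter G (-τ₁ ζ)) ∧
      τ₁ (conjFun ζ) = conjFun (τ₁ ζ) ∧
      classInner (τ₁ ζ) (fun _ => 1) = 0 ∧
      ∀ ω : WChar W₁ W₂, classInner (τ₁ ζ) (η ω) = 0 := by
  obtain ⟨hadd, hsmul, hinner, hgen⟩ := h.hτ₁
  have hζS : ζ ∈ zspan (calS M) := Submodule.subset_span h.hζ
  have hζc : conjFun ζ ∈ calS M :=
    Cfsg.Agent.Lib.Helper25.CohDescent.conj_mem_inducedIrrAbove _ _ h.hζ
  have hζcS : conjFun ζ ∈ zspan (calS M) := Submodule.subset_span hζc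
  have hζcirr : IsIrrCharacter ↥M (conjFun ζ) :=
    Cfsg.Agent.Lib.Helper81.isIrrCharacter_conj h.hζirr
  have hne : conjFun ζ ≠ ζ := by
    intro he
    have hreal : ∀ g : ↥M, (ζ g).im = 0 := by
      intro g
      have := congrFun he g
      exact Complex.conj_eq_iff_im.mp this
    have h1 := Cfsg.Agent.Lib.Helper74.eq_one_of_real_of_odd_card h.hodd ⟨ζ, h.hζirr⟩ hreal
    have h2 : ζ 1 = 1 := congrFun h1 1
    rw [h.hζ1] at h2
    have h3 : Nat.card W₁ = 1 := by exact_mod_cast h2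
    exact h.hP.W₁_ne (Subgroup.card_eq_one.mp h3)
  have hχχ : classInner (τ₁ ζ) (τ₁ ζ) = 1 := by
    rw [hinner ζ hζS ζ hζS]
    exact irr_norm' h.hζirr
  have hθθ : classInner (τ₁ (conjFun ζ)) (τ₁ (conjFun ζ)) = 1 := by
    rw [hinner _ hζcS _ hζcS]
    exact irr_norm' hζcirr
  have hθχ : classInner (τ₁ (conjFun ζ)) (τ₁ ζ) = 0 := by
    rw [hinner _ hζcS _ hζS]
    exact irr_orthogonal _ _ hζcirr h.hζirr hne
  have hχS : SIrr G (τ₁ ζ) := sirr_of_norm_one (hgen ζ hζS) hχχ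
  have hθS : SIrr G (τ₁ (conjFun ζ)) := sirr_of_norm_one (hgen _ hζcS) hθθ
  -- the difference `ζ - conj ζ`
  have hD0 : ζ - conjFun ζ ∈ zspanOn (calS M) {1}ᶜ := by
    refine ⟨Submodule.sub_mem _ hζS hζcS, ?_⟩
    intro x hx
    have hx1 : x = 1 := by simpa using hx
    rw [hx1]
    show ζ 1 - conjFun ζ 1 = 0
    unfold conjFun
    rw [h.hζ1]
    simp
  have hsub : τ₁ (ζ - conjFun ζ) = τ₁ ζ - τ₁ (conjFun ζ) := by
    have e : ζ - conjFun ζ = ζ + (-1 : ℤ) • conjFun ζ := by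
      rw [neg_one_zsmul, sub_eq_add_neg]
    rw [e, hadd ζ hζS _ (Submodule.smul_mem _ _ hζcS), hsmul _ hζcS, neg_one_zsmul,
      ← sub_eq_add_neg]
  have hDχ : tauM M (ζ - conjFun ζ) = τ₁ ζ - τ₁ (conjFun ζ) := by
    rw [← h.hext _ hD0, hsub]
  have hconjD : conjFun (τ₁ ζ - τ₁ (conjFun ζ)) = τ₁ (conjFun ζ) - τ₁ ζ := by
    have e1 : conjFun (ζ - conjFun ζ) = conjFun ζ - ζ := by
      funext x
      simp [conjFun]
    have e2 : tauM M (conjFun ζ - ζ) = -(tauM M (ζ - conjFun ζ)) := by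
      rw [tauM_sub, tauM_sub, neg_sub]
    rw [← hDχ, ← tauM_conj, e1, e2, hDχ, neg_sub]
  have hsum : τ₁ ζ + conjFun (τ₁ ζ) = τ₁ (conjFun ζ) + conjFun (τ₁ (conjFun ζ)) := by
    funext g
    have := congrFun hconjD g
    simp only [conjFun, Pi.sub_apply, Pi.add_apply, map_sub] at this ⊢
    linear_combination this
  have hcχS : SIrr G (conjFun (τ₁ ζ)) := sirr_conj hχS
  have hcθS : SIrr G (conjFun (τ₁ (conjFun ζ))) := sirr_conj hθS
  have hpair : 1 + classInner (conjFun (τ₁ ζ)) (τ₁ ζ) =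
      classInner (conjFun (τ₁ (conjFun ζ))) (τ₁ ζ) := by
    have := congrArg (fun f => classInner f (τ₁ ζ)) hsum
    simp only [Cfsg.Agent.Lib.Helper26.classInner_add_left, hχχ, hθχ, zero_add] at this
    exact this
  -- `⟨conj χ, χ⟩ = 0` and `conj θ = χ`
  have hmain : classInner (conjFun (τ₁ ζ)) (τ₁ ζ) = 0 ∧ conjFun (τ₁ (conjFun ζ)) = τ₁ ζ := by
    rcases hcχS.inner_tri hχS with ⟨h1, -⟩ | ⟨h1, h2⟩ | h1
    · exfalso
      rw [h1] at hpair
      rcases hcθS.inner_tri hχS with ⟨h3, -⟩ | ⟨h3, -⟩ | h3 <;> rw [h3] at hpair <;> norm_num at hpair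
    · exfalso
      have h3 := congrFun h2 1
      obtain ⟨hne0, hre⟩ := sirr_one hχS
      have h4 : conjFun (τ₁ ζ) 1 = τ₁ ζ 1 := hre
      rw [h4] at h3
      have h5 : (-τ₁ ζ) 1 = -(τ₁ ζ 1) := rfl
      rw [h5] at h3
      apply hne0
      linear_combination (1 / 2 : ℂ) * h3
    · refine ⟨h1, ?_⟩
      rw [h1, add_zero] at hpair
      rcases hcθS.inner_tri hχS with ⟨-, h4⟩ | ⟨h3, -⟩ | h3
      · exact h4
      · rw [h3] at hpair; norm_num at hpair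
      · rw [h3] at hpair; norm_num at hpair
  obtain ⟨hcχχ, hcθ⟩ := hmain
  have hθeq : τ₁ (conjFun ζ) = conjFun (τ₁ ζ) := by
    rw [← hcθ, conjFun_conjFun']
  -- orthogonality to `1_G`
  have hS1 : SIrr G (fun _ : G => (1 : ℂ)) := by
    have := h.hη.irr_or_neg 1
    rw [h.hη.map_one] at this
    exact this
  have hχ1 : classInner (τ₁ ζ) (fun _ => 1) = 0 := by
    rcases hχS.inner_tri hS1 with ⟨-, h2⟩ | ⟨-, h2⟩ | h1
    · exfalso
      have : conjFun (τ₁ ζ) = τ₁ ζ := by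
        rw [h2]
        funext g
        simp [conjFun]
      rw [this, hχχ] at hcχχ
      exact one_ne_zero hcχχ
    · exfalso
      have : conjFun (τ₁ ζ) = τ₁ ζ := by
        rw [h2]
        funext g
        simp [conjFun]
      rw [this, hχχ] at hcχχ
      exact one_ne_zero hcχχ
    · exact h1
  refine ⟨hχS, hθeq, hχ1, ?_⟩
  -- orthogonality to the `η ω`
  intro ω
  have hSω : SIrr G (η ω) := h.hη.irr_or_neg ω
  have hWodd := W_odd h
  -- `χ - conj χ` vanishes on the hat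
  have hvan : ∀ w : ↥(W₁ ⊔ W₂), (w : G) ∉ W₁ → (w : G) ∉ W₂ →
      τ₁ ζ (w : G) = (starRingEnd ℂ) (τ₁ ζ (w : G)) := by
    intro w hw₁ hw₂
    have hcl : IsClassFunction ↥M (ζ - conjFun ζ) := by
      intro g x
      have a1 := calS_classFun h.hζ g x
      have a2 := calS_classFun hζc g x
      simp only [Pi.sub_apply, a1, a2]
    have hoff : ∀ m : ↥M, (m : G) ∉ ⁅M, M⁆ → (ζ - conjFun ζ) m = 0 := by
      intro m hm
      simp only [Pi.sub_apply, calS_off h.hζ m hm, calS_off hζc m hm, sub_zero]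
    have := tauM_vanish_W h hf (ζ - conjFun ζ) hcl hoff w hw₁ hw₂
    rw [hDχ, hθeq] at this
    have h2 : τ₁ ζ (w : G) - conjFun (τ₁ ζ) (w : G) = 0 := this
    exact sub_eq_zero.mp h2
  -- if `η ω = ± χ` then `ω = 1`
  have hω1 : (τ₁ ζ = η ω ∨ τ₁ ζ = -η ω) → False := by
    intro hcase
    have hreal : ∀ w : ↥(W₁ ⊔ W₂), (w : G) ∉ W₁ → (w : G) ∉ W₂ →
        η ω (w : G) = (starRingEnd ℂ) (η ω (w : G)) := by
      intro w hw₁ hw₂
      have := hvan w hw₁ hw₂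
      rcases hcase with hc | hc
      · rw [hc] at this
        exact this
      · rw [hc] at this
        simp only [Pi.neg_apply, map_neg, neg_inj] at this
        exact this
    have hone : ω = 1 := by
      apply wchar_eq_one_of_hat h.hW hWodd ω
      intro w hw₁ hw₂
      have e1 := hreal w hw₁ hw₂
      have e2 : η ω⁻¹ (w : G) = (starRingEnd ℂ) (η ω (w : G)) :=
        congrFun (Cfsg.Agent.Lib.Helper25.PFCyc.eta_inv h.hW hWodd η h.hη ω) (w : G)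
      rw [← e2, h.hη.eq_on ω w hw₁ hw₂, h.hη.eq_on ω⁻¹ w hw₁ hw₂] at e1
      have e3 : ω w = ω⁻¹ w := Units.ext e1
      rw [MonoidHom.inv_apply] at e3
      have e4 : (ω w) ^ 2 = 1 := by
        rw [pow_two]
        nth_rewrite 1 [e3]
        exact inv_mul_cancel _
      have d2 : orderOf (ω w) ∣ 2 := orderOf_dvd_of_pow_eq_one e4
      have dW : orderOf (ω w) ∣ Nat.card ↥(W₁ ⊔ W₂) :=
        (orderOf_map_dvd ω w).trans (orderOf_dvd_natCard w)
      have hco : Nat.Coprime 2 (Nat.card ↥(W₁ ⊔ W₂)) := by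
        rw [Nat.coprime_two_left]
        exact hWodd
      have := Nat.eq_one_of_dvd_coprimes hco d2 dW
      exact orderOf_eq_one_iff.mp this
    rw [hone, h.hη.map_one] at hcase
    rcases hcase with hc | hc
    · rw [hc] at hχ1
      rw [hS1.norm] at hχ1
      exact one_ne_zero hχ1
    · rw [hc, Cfsg.Agent.Lib.Helper26.classInner_neg_left, hS1.norm] at hχ1
      norm_num at hχ1
  rcases hχS.inner_tri hSω with ⟨-, h2⟩ | ⟨-, h2⟩ | h1
  · exact (hω1 (Or.inl h2)).elim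
  · exact (hω1 (Or.inr h2)).elim
  · exact h1

end Ctx

end Cfsg.Agent.Lib.Helper31.PFCyc
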