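import Mathlib
import Cfsg.Agent.Lib.Helper24.PFCycCtx
import Cfsg.Agent.Lib.Helper24.PFCycTau
import Cfsg.Agent.Lib.Helper31.PFCycChi
import Cfsg.Agent.Lib.Helper3.IrrBasis
import Cfsg.Agent.Lib.Helper75.IndNormal
import Cfsg.Agent.Lib.Helper51.PFCycMuInd
import Cfsg.Agent.Lib.Helper73.PF127Rho

/-!
# Peterfalvi section 10, M-side: module [A2-RHO] (helper31)

The Dade restriction of `χ = τ₁ ζ` agrees with `ζ` on `A(M) = M' ∖ {1}`.
-/

set_option autoImplicit false
set_option linter.unusedSectionVars false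

namespace Cfsg.Agent.Lib.Helper31.PFCyc

open Cfsg Cfsg.Agent.Lib.Helper4.PF Cfsg.Agent.Lib.Helper74.PF127 Cfsg.Agent.Lib.Helper24.PFCyc

universe u

section Gen

variable {L : Type u} [Group L] [Fintype L]

/-- inducing the restriction of a class function vanishing off `K` multiplies it by `|L : K|` -/
theorem indFun_res_of_vanish (K : Subgroup L) (β : L → ℂ)
    (hβ : IsClassFunction L β) (hK : ∀ l : L, l ∉ K → β l = 0) :
    indFun K (fun k : K => β k) = (K.index : ℂ) • β := by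
  funext g
  unfold indFun
  have h1 : ∀ x : L, extendByZero K (fun k : K => β k) (x⁻¹ * g * x) = β g := by
    intro x
    have hc := hβ g x⁻¹
    rw [inv_inv] at hc
    by_cases hx : x⁻¹ * g * x ∈ K
    · rw [Cfsg.Agent.Lib.Helper75.extendByZero_of_mem K _ hx]
      exact hc
    · rw [Cfsg.Agent.Lib.Helper75.extendByZero_of_not_mem K _ hx, ← hc, hK _ hx]
  simp only [h1, Finset.sum_const, Finset.card_univ, nsmul_eq_mul, Pi.smul_apply, smul_eq_mul]
  have hH : (Nat.card K : ℂ) ≠ 0 := by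
    have : Nat.card K ≠ 0 := Nat.card_pos.ne'
    exact_mod_cast this
  have hidx : (Nat.card K : ℂ) * (K.index : ℂ) = (Fintype.card L : ℂ) := by
    rw [← Nat.card_eq_fintype_card, ← K.card_mul_index]
    push_cast
    ring
  rw [← hidx]
  field_simp

end Gen

section Ctx

variable {G : Type u} [Group G] [Fintype G] {M W₁ U W₂ : Subgroup G} [Fintype M]
  {mu : WChar W₁ W₂ → (↥M → ℂ)} {dl : WChar W₁ W₂ → ℂ} {η : WChar W₁ W₂ → (G → ℂ)}
  {τ₁ : (↥M → ℂ) → (G → ℂ)} {ζ : ↥M → ℂ}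

/-- `μ_0 = Ind_K^M 1` is orthogonal to `ζ` -/
theorem mu0_inner_zeta (h : MCtx M W₁ U W₂ mu dl η τ₁ ζ) (hf : MFacts M W₁ W₂ mu dl η) :
    muSum mu 1 = indFun (KM M) (fun _ => 1) ∧ classInner (muSum mu 1) ζ = 0 := by
  classical
  have hKn := Cfsg.Agent.Lib.Helper51.PFCyc.KM_normal M
  have hM0 : muSum mu 1 = indFun (KM M) (fun _ => 1) := by
    have := (hf.mu_ind 1).2
    rw [this, hf.mu_one]
  have h1irr : IsIrrCharacter ↥(KM M) (fun _ => 1) := by
    have := (hf.mu_ind 1).1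
    rw [hf.mu_one] at this
    exact this
  refine ⟨hM0, ?_⟩
  obtain ⟨θ₀, hθ₀, hθ₀1, -, hζeq⟩ := h.hζ
  rw [hM0, hζeq]
  apply Cfsg.Agent.Lib.Helper75.classInner_indFun_indFun_eq_zero (KM M) hθ₀ h1irr
  intro g hg
  apply hθ₀1
  have := Cfsg.Agent.Lib.Helper75.conjFun_inv_conjFun (KM M) g θ₀
  rw [hg] at this
  rw [← this]
  rfl

open Cfsg.Agent.Lib.Helper25 Cfsg.Agent.Lib.Helper26 in
/-- the key pairing: `⟨τ β, χ⟩ = ⟨β, ζ⟩` for class functions `β` vanishing off `K ∖ {1}` -/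
theorem pair_eq (h : MCtx M W₁ U W₂ mu dl η τ₁ ζ) (hf : MFacts M W₁ W₂ mu dl η)
    (hc : classInner (tauM M (muSum mu 1 - ζ)) (τ₁ ζ) = -1)
    (β : ↥M → ℂ) (hβ : IsClassFunction ↥M β)
    (hβK : ∀ m : ↥M, (m : G) ∉ ⁅M, M⁆ → β m = 0) (hβ1 : β 1 = 0) :
    classInner (tauM M β) (τ₁ ζ) = classInner β ζ := by
  classical
  have hKn := Cfsg.Agent.Lib.Helper51.PFCyc.KM_normal M
  obtain ⟨hadd, hsmul, hinner, hgen⟩ := h.hτ₁
  have hζS : ζ ∈ zspan (calS M) := Submodule.subset_span h.hζ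
  -- the linear functional
  let Φ : (↥M → ℂ) →ₗ[ℂ] ℂ :=
    { toFun := fun β => classInner (tauM M β) (τ₁ ζ) - classInner β ζ
      map_add' := by
        intro a b
        simp only [tauM_add, Cfsg.Agent.Lib.Helper26.classInner_add_left]
        ring
      map_smul' := by
        intro c a
        simp only [tauM_smul, Cfsg.Agent.Lib.Helper26.classInner_smul_left, RingHom.id_apply,
          smul_eq_mul]
        ring }
  have hΦ : ∀ β, Φ β = classInner (tauM M β) (τ₁ ζ) - classInner β ζ := fun _ => rfl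
  suffices hs : Φ β = 0 by
    rw [hΦ] at hs
    exact sub_eq_zero.mp hs
  have hq : ((KM M).index : ℂ) = (Nat.card W₁ : ℂ) := by
    rw [Cfsg.Agent.Lib.Helper51.PFCyc.KM_index h.hP]
  have hq0 : (Nat.card W₁ : ℂ) ≠ 0 := by
    have : Nat.card W₁ ≠ 0 := Nat.card_pos.ne'
    exact_mod_cast this
  -- expansion of `β|K`
  have : Fintype (IrrCharacter ↥(KM M)) := Fintype.ofFinite _
  have hbcl : IsClassFunction ↥(KM M) (fun k : ↥(KM M) => β (k : ↥M)) :=
    Cfsg.Agent.Lib.Helper75.isClassFunction_res (KM M) hβ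
  have hexp := Cfsg.Agent.Lib.Helper3.classFunction_expansion _ hbcl
  have hb1 : ∑ θ : IrrCharacter ↥(KM M),
      classInner (fun k : ↥(KM M) => β (k : ↥M)) θ.1 * θ.1 1 = 0 := by
    have := congrFun hexp 1
    simp only [Finset.sum_apply, Pi.smul_apply, smul_eq_mul] at this
    rw [← this]
    exact hβ1
  have hind : (Nat.card W₁ : ℂ) • β = ∑ θ : IrrCharacter ↥(KM M),
      classInner (fun k : ↥(KM M) => β (k : ↥M)) θ.1 •
        (indFun (KM M) θ.1 - (θ.1 1) • ζ) := by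
    rw [← hq, ← indFun_res_of_vanish (KM M) β hβ
      (fun l hl => hβK l (fun hc => hl (Subgroup.mem_subgroupOf.mpr hc)))]
    conv_lhs => rw [hexp]
    rw [Cfsg.Agent.Lib.Helper75.indFun_sum]
    simp only [Cfsg.Agent.Lib.Helper75.indFun_smul, smul_sub, Finset.sum_sub_distrib]
    have : ∑ θ : IrrCharacter ↥(KM M),
        classInner (fun k : ↥(KM M) => β (k : ↥M)) θ.1 • ((θ.1 1) • ζ) = 0 := by
      simp only [smul_smul]
      rw [← Finset.sum_smul, hb1, zero_smul]
    rw [this, sub_zero]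
  -- each term is killed by `Φ`
  have hterm : ∀ θ : IrrCharacter ↥(KM M), Φ (indFun (KM M) θ.1 - (θ.1 1) • ζ) = 0 := by
    intro θ
    rw [hΦ]
    by_cases hθ1 : θ.1 = fun _ => 1
    · obtain ⟨hM0, horth⟩ := mu0_inner_zeta h hf
      rw [hθ1, one_smul, ← hM0, hc, Cfsg.Agent.Lib.Helper25.classInner_sub_left, horth,
        irr_norm' h.hζirr]
      ring
    · obtain ⟨n, hn, hdeg⟩ := (irrFacts ↥(KM M)).deg_pos θ.1 θ.2
      have hmem : indFun (KM M) θ.1 ∈ calS M := by
        refine ⟨θ.1, θ.2, hθ1, ?_, rfl⟩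
        intro a ha
        have : a = 1 := Subtype.ext (Subgroup.mem_bot.mp ha)
        rw [this]
      have hmemS : indFun (KM M) θ.1 ∈ zspan (calS M) := Submodule.subset_span hmem
      have hγeq : indFun (KM M) θ.1 - (θ.1 1) • ζ = indFun (KM M) θ.1 - (n : ℤ) • ζ := by
        rw [hdeg]
        funext m
        simp
      have hnζ : (n : ℤ) • ζ ∈ zspan (calS M) := Submodule.smul_mem _ _ hζS
      have hγS : indFun (KM M) θ.1 - (n : ℤ) • ζ ∈ zspan (calS M) :=
        Submodule.sub_mem _ hmemS hnζ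
      have hγ0 : indFun (KM M) θ.1 - (n : ℤ) • ζ ∈ zspanOn (calS M) {1}ᶜ := by
        refine ⟨hγS, ?_⟩
        intro x hx
        have hx1 : x = 1 := by simpa using hx
        rw [hx1]
        show indFun (KM M) θ.1 1 - ((n : ℤ) • ζ) 1 = 0
        rw [Cfsg.Agent.Lib.Helper75.indFun_one, hq, hdeg, Pi.smul_apply, h.hζ1]
        simp
        ring
      rw [hγeq, ← h.hext _ hγ0, hinner _ hγS _ hζS, sub_self]
  -- conclusion
  have h2 : Φ ((Nat.card W₁ : ℂ) • β) = 0 := by
    rw [hind, map_sum]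
    apply Finset.sum_eq_zero
    intro θ _
    rw [map_smul, hterm θ, smul_zero]
  rw [map_smul, smul_eq_mul] at h2
  rcases mul_eq_zero.mp h2 with h3 | h3
  · exact absurd h3 hq0
  · exact h3

open Cfsg.Agent.Lib.Helper25 Cfsg.Agent.Lib.Helper26 in
/-- MODULE [A2-RHO] -/
theorem rho_chi (h : MCtx M W₁ U W₂ mu dl η τ₁ ζ) (hf : MFacts M W₁ W₂ mu dl η)
    (hc : classInner (tauM M (muSum mu 1 - ζ)) (τ₁ ζ) = -1) :
    ∀ a : ↥M, (a : G) ∈ litA M → dadeAvg (supportR M) (τ₁ ζ) (a : G) = ζ a := by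
  classical
  obtain ⟨hadd, hsmul, hinner, hgen⟩ := h.hτ₁
  have hζS : ζ ∈ zspan (calS M) := Submodule.subset_span h.hζ
  have hχcl : IsClassFunction G (τ₁ ζ) := by
    obtain ⟨χ1, ψ1, h1, h2, e⟩ := hgen ζ hζS
    rw [e]
    intro g x
    have e1 := Cfsg.Agent.Lib.Helper25.isClassFunction_of_isCharacter h1 g x
    have e2 := Cfsg.Agent.Lib.Helper25.isClassFunction_of_isCharacter h2 g x
    simp only [Pi.sub_apply, e1, e2]
  have hψ0cl : IsClassFunction ↥M (dadeRes (litA0 M) M (supportR M) (τ₁ ζ)) :=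
    Cfsg.Agent.Lib.Helper73.PF127Rho.dadeRes_isClassFunction h.hD hχcl
  have hζcl : IsClassFunction ↥M ζ := calS_classFun h.hζ
  -- `A(M) = K ∖ {1}` is invariant under conjugation in `M`
  have hKn := Cfsg.Agent.Lib.Helper51.PFCyc.KM_normal M
  have hconj : ∀ m x : ↥M, (m : G) ∈ litA M → ((x * m * x⁻¹ : ↥M) : G) ∈ litA M := by
    intro m x hm
    rw [h.hA] at hm ⊢
    refine ⟨?_, ?_⟩
    · have hmK : m ∈ KM M := Subgroup.mem_subgroupOf.mpr hm.1
      exact Subgroup.mem_subgroupOf.mp (hKn.conj_mem m hmK x)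
    · intro h1
      apply hm.2
      have h2 : x * m * x⁻¹ = 1 := Subtype.ext h1
      have h3 : m = 1 := by
        have : m = x⁻¹ * (x * m * x⁻¹) * x := by group
        rw [this, h2]
        group
      rw [h3]
      rfl
  -- the difference, cut down to `A(M)`
  set δ : ↥M → ℂ := fun m =>
    if (m : G) ∈ litA M then dadeRes (litA0 M) M (supportR M) (τ₁ ζ) m - ζ m else 0 with hδ
  have hδcl : IsClassFunction ↥M δ := by
    intro m x
    by_cases hm : (m : G) ∈ litA M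
    · simp only [hδ, if_pos hm, if_pos (hconj m x hm), hψ0cl m x, hζcl m x]
    · have hm' : ((x * m * x⁻¹ : ↥M) : G) ∉ litA M := by
        intro hcm
        apply hm
        have := hconj _ x⁻¹ hcm
        have e : x⁻¹ * (x * m * x⁻¹) * x⁻¹⁻¹ = m := by group
        rwa [e] at this
      simp only [hδ, if_neg hm, if_neg hm']
  have hδK : ∀ m : ↥M, (m : G) ∉ ⁅M, M⁆ → δ m = 0 := by
    intro m hm
    have : (m : G) ∉ litA M := by
      rw [h.hA]
      exact fun hcm => hm hcm.1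
    simp only [hδ, if_neg this]
  have hδ1 : δ 1 = 0 := by
    have : ((1 : ↥M) : G) ∉ litA M := by
      rw [h.hA]
      exact fun hcm => hcm.2 rfl
    simp only [hδ, if_neg this]
  have hpair := pair_eq h hf hc δ hδcl hδK hδ1
  have hδA0 : ∀ m : ↥M, (m : G) ∉ litA0 M → δ m = 0 := off_litA0 h δ hδK hδ1
  rw [tauM_adjoint h hδcl hδA0 hχcl] at hpair
  have hzero : classInner δ δ = 0 := by
    have e : classInner δ δ =
        classInner δ (dadeRes (litA0 M) M (supportR M) (τ₁ ζ) - ζ) := by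
      unfold classInner
      congr 1
      apply Finset.sum_congr rfl
      intro m _
      by_cases hm : (m : G) ∈ litA M
      · simp only [hδ, if_pos hm, Pi.sub_apply]
      · simp only [hδ, if_neg hm, zero_mul]
    rw [e, Cfsg.Agent.Lib.Helper25.classInner_sub_right, hpair, sub_self]
  have hδ0 := Cfsg.Agent.Lib.Helper26.classInner_self_eq_zero hzero
  intro a ha
  have hfin := congrFun hδ0 a
  simp only [hδ, if_pos ha, Pi.zero_apply] at hfin
  have ha0 : (a : G) ∈ litA0 M := Or.inl ha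
  rw [dadeRes_of_mem _ _ _ _ _ ha0] at hfin
  exact sub_eq_zero.mp hfin

end Ctx

end Cfsg.Agent.Lib.Helper31.PFCyc
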