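/-
helper31 shared library, part 3: `O_{p'}(C_G(x))`, `Δ_G(B)`, `k`-balance with respect to `A`,
and a combinatorial lemma on elementary abelian groups (a subgroup of index `≥ p²` is avoided by a
noncyclic subgroup). All declarations live in `Cfsg.Agent.Lib.Helper31`.
-/
import Mathlib
import Cfsg.Prelude.Def_Local
import Cfsg.Prelude.Def_EvenTechniques
import Cfsg.Agent.Lib.Helper1.Fitting

set_option autoImplicit false

namespace Cfsg.Agent.Lib.Helper31

open Cfsg

/-! ### Elementary abelian groups -/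

/-- In a group where `y ^ p = 1`, if `y ^ n ∈ S` with `n` prime to `p` then `y ∈ S`. -/
theorem mem_of_zpow_mem_of_coprime {C : Type*} [Group C] {p : ℕ} (hp : p.Prime) {S : Subgroup C}
    {y : C} (hy : y ^ p = 1) {n : ℤ} (hn : ¬ (p : ℤ) ∣ n) (h : y ^ n ∈ S) : y ∈ S := by
  have hcop : IsCoprime n (p : ℤ) := by
    have := (Nat.prime_iff_prime_int.mp hp)
    exact (Prime.coprime_iff_not_dvd this).mpr hn |>.symm
  obtain ⟨u, v, huv⟩ := hcop
  have : y = (y ^ n) ^ u * (y ^ (p : ℤ)) ^ v := by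
    rw [← zpow_mul, ← zpow_mul, ← zpow_add]
    have : n * u + (p : ℤ) * v = 1 := by linarith
    rw [this, zpow_one]
  rw [this]
  have hyp : y ^ (p : ℤ) = 1 := by exact_mod_cast hy
  rw [hyp, one_zpow, mul_one]
  exact S.zpow_mem h u

open scoped IsMulCommutative in
/-- In a finite elementary abelian `p`-group, a subgroup `D` of index at least `p²` is avoided by a
noncyclic subgroup. -/
theorem exists_noncyclic_disjoint {C : Type*} [Group C] [IsMulCommutative C] [Finite C] {p : ℕ}
    [hp : Fact p.Prime]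
    (hC : ∀ c : C, c ^ p = 1) (D : Subgroup C) (hD : p ^ 2 * Nat.card D ≤ Nat.card C) :
    ∃ F : Subgroup C, ¬ IsCyclic F ∧ F ⊓ D = ⊥ := by
  have hp1 : 1 < p := hp.out.one_lt
  have hDpos : 0 < Nat.card D := Nat.card_pos
  -- choose x
  have hp4 : 4 ≤ p ^ 2 := by nlinarith
  have hDlt : Nat.card D < Nat.card C := by
    calc Nat.card D < 4 * Nat.card D := by omega
      _ ≤ p ^ 2 * Nat.card D := Nat.mul_le_mul_right _ hp4
      _ ≤ Nat.card C := hD
  have hx : ∃ x : C, x ∉ D := by
    by_contra h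
    push Not at h
    have : D = ⊤ := by
      rw [eq_top_iff]; intro x _; exact h x
    rw [this, Subgroup.card_top] at hDlt
    exact lt_irrefl _ hDlt
  obtain ⟨x, hxD⟩ := hx
  have hx1 : x ≠ 1 := fun h => hxD (h ▸ D.one_mem)
  have hordx : orderOf x = p := by
    have := orderOf_dvd_of_pow_eq_one (hC x)
    rcases (Nat.dvd_prime hp.out).mp this with h | h
    · exact absurd (orderOf_eq_one_iff.mp h) hx1
    · exact h
  -- D₁ = D ⊔ zpowers x has order at most p * |D|
  have hD1 : Nat.card (D ⊔ Subgroup.zpowers x : Subgroup C) ≤ Nat.card D * p := by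
    have := Cfsg.Agent.Lib.Helper1.card_sup_dvd_mul_of_normal_left D (Subgroup.zpowers x)
    rw [Nat.card_zpowers, hordx] at this
    exact Nat.le_of_dvd (by positivity) this
  have hy : ∃ y : C, y ∉ (D ⊔ Subgroup.zpowers x : Subgroup C) := by
    by_contra h
    push Not at h
    have : (D ⊔ Subgroup.zpowers x : Subgroup C) = ⊤ := by
      rw [eq_top_iff]; intro y _; exact h y
    rw [this, Subgroup.card_top] at hD1
    have h2 : Nat.card D * p < p ^ 2 * Nat.card D := by
      have : p < p ^ 2 := by nlinarith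
      calc Nat.card D * p = p * Nat.card D := Nat.mul_comm _ _
        _ < p ^ 2 * Nat.card D := Nat.mul_lt_mul_of_pos_right this hDpos
    omega
  obtain ⟨y, hyD⟩ := hy
  refine ⟨Subgroup.closure {x, y}, ?_, ?_⟩
  · -- not cyclic
    intro hcyc
    obtain ⟨g, hg⟩ := hcyc.exists_zpow_surjective
    have hxmem : x ∈ Subgroup.closure ({x, y} : Set C) := Subgroup.subset_closure (by simp)
    have hymem : y ∈ Subgroup.closure ({x, y} : Set C) := Subgroup.subset_closure (by simp)
    obtain ⟨a, ha⟩ := hg ⟨x, hxmem⟩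
    obtain ⟨b, hb⟩ := hg ⟨y, hymem⟩
    have ha' : (g : C) ^ a = x := by simpa using congrArg Subtype.val ha
    have hb' : (g : C) ^ b = y := by simpa using congrArg Subtype.val hb
    have hgC : (g : C) ^ p = 1 := hC _
    -- p ∤ a since x ≠ 1
    have hpa : ¬ (p : ℤ) ∣ a := by
      rintro ⟨c, rfl⟩
      apply hx1
      rw [← ha', zpow_mul]
      have : (g : C) ^ (p : ℤ) = 1 := by exact_mod_cast hgC
      rw [this, one_zpow]
    have hgx : (g : C) ∈ Subgroup.zpowers x :=
      mem_of_zpow_mem_of_coprime hp.out hgC hpa (by rw [ha']; exact Subgroup.mem_zpowers x)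
    apply hyD
    rw [← hb']
    exact Subgroup.zpow_mem _ (Subgroup.mem_sup_right hgx) b
  · -- disjoint from D
    rw [eq_bot_iff]
    rintro z ⟨hzF, hzD⟩
    rw [Subgroup.mem_bot]
    obtain ⟨m, n, rfl⟩ := Subgroup.mem_closure_pair.mp hzF
    have hn : (p : ℤ) ∣ n := by
      by_contra hn
      apply hyD
      apply mem_of_zpow_mem_of_coprime hp.out (hC y) hn
      have : y ^ n = (x ^ m * y ^ n) * (x ^ m)⁻¹ := by
        rw [mul_comm (x ^ m) (y ^ n), mul_assoc, mul_inv_cancel, mul_one]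
      rw [this]
      exact Subgroup.mul_mem _ (Subgroup.mem_sup_left hzD)
        (Subgroup.inv_mem _ (Subgroup.mem_sup_right (Subgroup.zpow_mem _ (Subgroup.mem_zpowers x) m)))
    obtain ⟨c, rfl⟩ := hn
    have hyn : y ^ ((p : ℤ) * c) = 1 := by
      rw [zpow_mul]
      have : y ^ (p : ℤ) = 1 := by exact_mod_cast hC y
      rw [this, one_zpow]
    rw [hyn, mul_one] at hzD ⊢
    have hm : (p : ℤ) ∣ m := by
      by_contra hm
      exact hxD (mem_of_zpow_mem_of_coprime hp.out (hC x) hm hzD)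
    obtain ⟨d, rfl⟩ := hm
    rw [zpow_mul]
    have : x ^ (p : ℤ) = 1 := by exact_mod_cast hC x
    rw [this, one_zpow]

variable {G : Type*} [Group G]

/-- Ambient form: an elementary abelian `p`-subgroup `E`, `D ≤ E` of index at least `p²`: some
noncyclic `F ≤ E` meets `D` trivially. -/
theorem exists_noncyclic_disjoint_sub [Finite G] {p : ℕ} [Fact p.Prime] {E D : Subgroup G}
    (hE : IsElementaryAbelian p E) (hDE : D ≤ E) (hD : p ^ 2 * Nat.card D ≤ Nat.card E) :
    ∃ F : Subgroup G, F ≤ E ∧ ¬ IsCyclic F ∧ F ⊓ D = ⊥ := by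
  have hcomm : IsMulCommutative E := hE.1
  have hC : ∀ c : E, c ^ p = 1 := fun c => Subtype.ext (by simpa using hE.2 c c.2)
  have hcard : Nat.card (D.subgroupOf E) = Nat.card D :=
    Nat.card_congr (Subgroup.subgroupOfEquivOfLe hDE).toEquiv
  obtain ⟨F', hF'c, hF'D⟩ := exists_noncyclic_disjoint hC (D.subgroupOf E) (by rw [hcard]; exact hD)
  refine ⟨F'.map E.subtype, Subgroup.map_subtype_le _, ?_, ?_⟩
  · intro hcyc
    apply hF'c
    exact ((F'.equivMapOfInjective E.subtype E.subtype_injective).isCyclic).mpr hcyc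
  · rw [eq_bot_iff]
    rintro z ⟨⟨z', hz', rfl⟩, hzD⟩
    have : z' ∈ F' ⊓ D.subgroupOf E := ⟨hz', Subgroup.mem_subgroupOf.mpr hzD⟩
    rw [hF'D, Subgroup.mem_bot] at this
    rw [this]
    simp

/-- A cyclic elementary abelian `p`-group has order at most `p`. -/
theorem card_le_of_isCyclic_of_elementaryAbelian [Finite G] {p : ℕ} [hp : Fact p.Prime]
    {E : Subgroup G} (hE : IsElementaryAbelian p E) (hc : IsCyclic E) : Nat.card E ≤ p := by
  obtain ⟨g, hg⟩ := hc.exists_zpow_surjective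
  have h1 : orderOf g = Nat.card E :=
    orderOf_eq_card_of_forall_mem_zpowers (fun x => by
      obtain ⟨n, hn⟩ := hg x
      exact ⟨n, hn⟩)
  rw [← h1]
  have hgp : g ^ p = 1 := Subtype.ext (by simpa using hE.2 g g.2)
  exact Nat.le_of_dvd hp.out.pos (orderOf_dvd_of_pow_eq_one hgp)

theorem isPGroup_of_elementaryAbelian {p : ℕ} {E : Subgroup G} (hE : IsElementaryAbelian p E) :
    IsPGroup p E := by
  intro g
  exact ⟨1, Subtype.ext (by simpa using hE.2 g g.2)⟩

theorem elementaryAbelian_of_le {p : ℕ} {E D : Subgroup G} (hE : IsElementaryAbelian p E)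
    (hDE : D ≤ E) : IsElementaryAbelian p D := by
  have := hE.1
  refine ⟨⟨⟨fun a b => ?_⟩⟩, fun a ha => hE.2 a (hDE ha)⟩
  have h := mul_comm' (⟨a, hDE a.2⟩ : E) ⟨b, hDE b.2⟩
  exact Subtype.ext (by simpa using congrArg Subtype.val h)

/-! ### `O_{p'}(C_G(x))` and `Δ_G(B)` -/

theorem centralizerPPrimeCore_le (p : ℕ) (x : G) :
    centralizerPPrimeCore p x ≤ Subgroup.centralizer ({x} : Set G) :=
  Subgroup.map_subtype_le _

theorem card_centralizerPPrimeCore_coprime [Finite G] (p : ℕ) (x : G) :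
    (Nat.card (centralizerPPrimeCore p x)).Coprime p := by
  unfold centralizerPPrimeCore
  rw [Subgroup.card_map_of_injective (Subgroup.subtype_injective _)]
  exact Cfsg.Agent.Lib.Helper1.pPrimeCore_card_coprime p

/-- Elements commuting with `x` normalize `O_{p'}(C_G(x))`. -/
theorem conj_mem_centralizerPPrimeCore {p : ℕ} {x b y : G} (hb : b * x = x * b)
    (hy : y ∈ centralizerPPrimeCore p x) : b * y * b⁻¹ ∈ centralizerPPrimeCore p x := by
  obtain ⟨y', hy', rfl⟩ := hy
  have hbC : b ∈ Subgroup.centralizer ({x} : Set G) := by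
    rw [Subgroup.mem_centralizer_iff]
    intro h hh
    rw [Set.mem_singleton_iff] at hh
    rw [hh]; exact hb.symm
  have hn : (pPrimeCore p ↥(Subgroup.centralizer ({x} : Set G))).Normal :=
    Cfsg.Agent.Lib.Helper1.pPrimeCore_normal p
  exact ⟨⟨b, hbC⟩ * y' * ⟨b, hbC⟩⁻¹, hn.conj_mem y' hy' ⟨b, hbC⟩, by simp⟩

theorem signalizerDelta_le {p : ℕ} {B : Subgroup G} {b : G} (hb : b ∈ B) (hb1 : b ≠ 1) :
    signalizerDelta p B ≤ centralizerPPrimeCore p b :=
  iInf_le (fun a : {a : G // a ∈ B ∧ a ≠ 1} => centralizerPPrimeCore p (a : G)) ⟨b, hb, hb1⟩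

theorem signalizerDelta_anti {p : ℕ} {B B' : Subgroup G} (h : B ≤ B') :
    signalizerDelta p B' ≤ signalizerDelta p B :=
  le_iInf fun a => signalizerDelta_le (h a.2.1) a.2.2

theorem mem_signalizerDelta_iff {p : ℕ} {B : Subgroup G} {y : G} :
    y ∈ signalizerDelta p B ↔ ∀ b ∈ B, b ≠ 1 → y ∈ centralizerPPrimeCore p b := by
  unfold signalizerDelta
  rw [Subgroup.mem_iInf]
  constructor
  · intro h b hb hb1
    exact h ⟨b, hb, hb1⟩
  · intro h a
    exact h a.1 a.2.1 a.2.2

theorem conj_mem_signalizerDelta {p : ℕ} {B : Subgroup G} {b y : G}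
    (hb : ∀ x ∈ B, b * x = x * b) (hy : y ∈ signalizerDelta p B) :
    b * y * b⁻¹ ∈ signalizerDelta p B := by
  rw [mem_signalizerDelta_iff] at hy ⊢
  intro x hx hx1
  exact conj_mem_centralizerPPrimeCore (hb x hx) (hy x hx hx1)

theorem signalizerDelta_le_centralizer (p : ℕ) (B : Subgroup G) :
    signalizerDelta p B ≤ Subgroup.centralizer (B : Set G) := by
  intro y hy
  rw [Subgroup.mem_centralizer_iff]
  intro b hb
  by_cases hb1 : b = 1
  · rw [hb1]; simp
  · have := centralizerPPrimeCore_le p b (signalizerDelta_le hb hb1 hy)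
    rw [Subgroup.mem_centralizer_iff] at this
    exact this b rfl

theorem card_signalizerDelta_coprime [Finite G] {p : ℕ} {B : Subgroup G} (hB : B ≠ ⊥) :
    (Nat.card (signalizerDelta p B)).Coprime p := by
  obtain ⟨b', hb1'⟩ := (Subgroup.ne_bot_iff_exists_ne_one).mp hB
  have hb : (b' : G) ∈ B := b'.2
  have hb1 : (b' : G) ≠ 1 := fun h => hb1' (Subtype.ext h)
  exact Nat.Coprime.coprime_dvd_left (Subgroup.card_dvd_of_le (signalizerDelta_le hb hb1))
    (card_centralizerPPrimeCore_coprime p (b' : G))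

/-- A subgroup of order at least `p ^ k` with `k ≥ 1` is nontrivial. -/
theorem ne_bot_of_pow_le_card [Finite G] {p k : ℕ} [hp : Fact p.Prime] (hk : 1 ≤ k)
    {B : Subgroup G} (hB : p ^ k ≤ Nat.card B) : B ≠ ⊥ := by
  intro h
  rw [h, Subgroup.card_bot] at hB
  have : 2 ≤ p ^ k := by
    calc 2 ≤ p := hp.out.two_le
      _ = p ^ 1 := (pow_one p).symm
      _ ≤ p ^ k := Nat.pow_le_pow_right hp.out.pos hk
  omega

/-- `Δ_G(B) ∩ C_G(D) ≤ Δ_G(D)` under `k`-balance with respect to `A`. -/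
theorem signalizerDelta_inf_centralizer_le {p k : ℕ} {A B D : Subgroup G}
    (hbal : IsKBalancedWrt p k A) (hBA : B ≤ A) (hB : IsElementaryAbelian p B)
    (hBk : p ^ k ≤ Nat.card B) (hDA : D ≤ A) :
    signalizerDelta p B ⊓ Subgroup.centralizer (D : Set G) ≤ signalizerDelta p D := by
  intro y hy
  have hy1 : y ∈ signalizerDelta p B := hy.1
  have hy2 : y ∈ Subgroup.centralizer (D : Set G) := hy.2
  rw [mem_signalizerDelta_iff]
  intro d hd hd1
  apply hbal B hBA hB hBk d (hDA hd) hd1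
  refine Subgroup.mem_inf.mpr ⟨hy1, ?_⟩
  rw [Subgroup.mem_centralizer_iff] at hy2 ⊢
  intro h hh
  rw [Set.mem_singleton_iff] at hh
  rw [hh]
  exact hy2 d hd

end Cfsg.Agent.Lib.Helper31
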