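/-
helper31 shared library: groups of characteristic `p` (`F*(H) = O_p(H)`, equivalently
`C_H(O_p(H)) ≤ O_p(H)`) and their `p`-local subgroups, in AMBIENT form (subgroups of one group `G`).

Main results (all in `Cfsg.Agent.Lib.Helper31`):
* `generalizedFittingSubgroup_eq_pCore_iff` : `F*(H) = O_p(H) ↔ C_H(O_p(H)) ≤ O_p(H)` (finite `H`);
* `CharP p L` : ambient predicate, `charP_iff_forall` its elementwise form;
* `charP_of_AxB` : general `A × B` criterion; corollaries `charP_inf_normalizer`,
  `charP_inf_centralizer` (`N_M(V)`, `C_M(V)` have characteristic `p` for a `p`-subgroup `V` of `M`);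
* `charP_of_normal_charP` (extension), `charP_of_normal_of_charP` (normal subgroups inherit);
* `charP_normalizer_step`, `charP_normalizer_of_le` : if `A ≤ B` are `p`-subgroups and `N_G(A)` has
  characteristic `p`, so have `N_G(B)` and `C_G(B)`.
-/
import Mathlib
import Cfsg.Prelude.Def_Local
import Cfsg.Prelude.Def_CaseTheorems
import Cfsg.Agent.Lib.Helper22.FStar
import Cfsg.Agent.Lib.Helper49.CharP2

set_option autoImplicit false

namespace Cfsg.Agent.Lib.Helper31

open Cfsg
open Cfsg.Agent.Lib.Helper49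
open scoped commutatorElement

/-! ### `F*(H) = O_p(H)` versus `C_H(O_p(H)) ≤ O_p(H)` -/

section Abstract

variable {H : Type*} [Group H]

theorem pCore_le_fittingSubgroup (p : ℕ) [Fact p.Prime] [Finite H] :
    pCore p H ≤ fittingSubgroup H :=
  Cfsg.Agent.Lib.Helper1.le_fittingSubgroup (pCore_normal p H)
    (Cfsg.Agent.Lib.Helper1.pCore_isPGroup p).isNilpotent

/-- `O_q(H)` centralizes `O_p(H)` for primes `p ≠ q`. -/
theorem pCore_le_centralizer_pCore_of_ne {p q : ℕ} [Fact p.Prime] [Fact q.Prime] (hpq : q ≠ p) :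
    pCore q H ≤ Subgroup.centralizer (pCore p H : Set H) := by
  intro x hx
  rw [Subgroup.mem_centralizer_iff]
  intro y hy
  have hd : Disjoint (pCore q H) (pCore p H) :=
    IsPGroup.disjoint_of_ne q p hpq _ _ (Cfsg.Agent.Lib.Helper1.pCore_isPGroup q)
      (Cfsg.Agent.Lib.Helper1.pCore_isPGroup p)
  exact (Subgroup.commute_of_normal_of_disjoint _ _ (pCore_normal q H) (pCore_normal p H) hd
    x y hx hy).eq.symm

theorem generalizedFittingSubgroup_eq_pCore_of_centralizer_le {p : ℕ} [Fact p.Prime] [Finite H]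
    (h : Subgroup.centralizer (pCore p H : Set H) ≤ pCore p H) :
    generalizedFittingSubgroup H = pCore p H := by
  apply le_antisymm
  · apply sup_le
    · have h1 : ⁅layer H, fittingSubgroup H⁆ = ⊥ :=
        Cfsg.Agent.Lib.Helper22.layer_commutator_fittingSubgroup
      rw [Subgroup.commutator_eq_bot_iff_le_centralizer] at h1
      exact (h1.trans (Subgroup.centralizer_le (pCore_le_fittingSubgroup p))).trans h
    · rw [Cfsg.Agent.Lib.Helper1.fittingSubgroup_eq_iSup_pCore]
      refine iSup_le fun q => ?_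
      by_cases hq : (q : ℕ) = p
      · rw [hq]
      · have : Fact (q : ℕ).Prime := ⟨q.2⟩
        have h2 : pCore (q : ℕ) H ≤ pCore p H := (pCore_le_centralizer_pCore_of_ne hq).trans h
        have hd : Disjoint (pCore (q : ℕ) H) (pCore p H) :=
          IsPGroup.disjoint_of_ne (q : ℕ) p hq _ _ (Cfsg.Agent.Lib.Helper1.pCore_isPGroup (q : ℕ))
            (Cfsg.Agent.Lib.Helper1.pCore_isPGroup p)
        have : pCore (q : ℕ) H = ⊥ := by
          rw [eq_bot_iff]
          exact hd le_rfl h2
        rw [this]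
        exact bot_le
  · exact (pCore_le_fittingSubgroup p).trans le_sup_right

theorem centralizer_le_of_generalizedFittingSubgroup_eq_pCore {p : ℕ} [Finite H]
    (h : generalizedFittingSubgroup H = pCore p H) :
    Subgroup.centralizer (pCore p H : Set H) ≤ pCore p H := by
  have := Cfsg.Agent.Lib.Helper22.centralizer_generalizedFittingSubgroup_le (G := H)
  rwa [h] at this

/-- For a finite group, `F*(H) = O_p(H)` if and only if `C_H(O_p(H)) ≤ O_p(H)`. -/
theorem generalizedFittingSubgroup_eq_pCore_iff {p : ℕ} [Fact p.Prime] [Finite H] :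
    generalizedFittingSubgroup H = pCore p H ↔
      Subgroup.centralizer (pCore p H : Set H) ≤ pCore p H :=
  ⟨centralizer_le_of_generalizedFittingSubgroup_eq_pCore,
    generalizedFittingSubgroup_eq_pCore_of_centralizer_le⟩

end Abstract


/-! ### Ambient form -/

section Ambient

variable {G : Type*} [Group G]

/-- The subgroup `L` of `G` has characteristic `p`: `C_L(O_p(L)) ≤ O_p(L)`. -/
def CharP (p : ℕ) (L : Subgroup G) : Prop :=
  Subgroup.centralizer (pCore p L : Set L) ≤ pCore p L

theorem charP_iff_generalizedFittingSubgroup_eq {p : ℕ} [Fact p.Prime] [Finite G]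
    {L : Subgroup G} : CharP p L ↔ generalizedFittingSubgroup L = pCore p L :=
  generalizedFittingSubgroup_eq_pCore_iff.symm

/-- Elementwise form of characteristic `p`: the `p'`-elements of `C_L(O_p(L))` are trivial. -/
theorem charP_iff_forall {p : ℕ} [Fact p.Prime] [Finite G] {L : Subgroup G} :
    CharP p L ↔ ∀ x ∈ L, x ∈ Subgroup.centralizer ((pCoreIn p L : Subgroup G) : Set G) →
      (orderOf x).Coprime p → x = 1 := by
  constructor
  · intro hL x hxL hxc hcop
    have h1 : (⟨x, hxL⟩ : L) = 1 := by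
      apply eq_one_of_coprime_of_mem_centralizer_pCore hL
      · rwa [Subgroup.orderOf_mk]
      · exact (mem_centralizer_pCore_iff _).mpr hxc
    simpa using congrArg Subtype.val h1
  · exact charP_subgroup_of_forall L

theorem isPGroup_pCoreIn (p : ℕ) [Fact p.Prime] [Finite G] (L : Subgroup G) :
    IsPGroup p (pCoreIn p L) :=
  (isPGroup_pCore p L).map L.subtype

/-- `O_p(M) ∩ H ≤ O_p(H)` for `H ≤ M`. -/
theorem pCoreIn_inf_le {p : ℕ} [Fact p.Prime] [Finite G] {H M : Subgroup G} (hHM : H ≤ M) :
    pCoreIn p M ⊓ H ≤ pCoreIn p H := by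
  apply le_pCoreIn_of_normalized inf_le_right
  · intro h hh
    exact mem_normalizer_inf (le_normalizer_pCoreIn p M (hHM hh)) (Subgroup.le_normalizer hh)
  · exact (isPGroup_pCoreIn p M).to_le inf_le_left

/-- A `p'`-element `x` of a group `M` of characteristic `p` which commutes with all its commutators
with `O_p(M)` is trivial. -/
theorem eq_one_of_charP_of_commute_comm {p : ℕ} [Fact p.Prime] [Finite G] {M : Subgroup G}
    (hM : CharP p M) {x : G} (hxM : x ∈ M) (hcop : (orderOf x).Coprime p)
    (h : ∀ r ∈ pCoreIn p M, Commute x (x * r * x⁻¹ * r⁻¹)) : x = 1 := by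
  apply charP_iff_forall.mp hM x hxM _ hcop
  rw [Subgroup.mem_centralizer_iff]
  intro r hr
  have hn := le_normalizer_pCoreIn p M hxM
  have hz : x * r * x⁻¹ * r⁻¹ ∈ pCoreIn p M :=
    (pCoreIn p M).mul_mem ((Subgroup.mem_normalizer_iff.mp hn r).mp hr) ((pCoreIn p M).inv_mem hr)
  obtain ⟨k, hk⟩ := pow_eq_one_of_mem_pCoreIn hz
  exact (commute_of_coprime_of_commute_comm hcop (h r hr) hk).eq.symm

/-- **General `A × B` criterion.** Let `M` have characteristic `p`, `V` a `p`-subgroup of `M`, `H ≤ M`
containing `C_{O_p(M)}(V)`, such that every `p'`-element of `C_H(O_p(H))` centralizes `V`. Then `H` has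
characteristic `p`. -/
theorem charP_of_AxB {p : ℕ} [Fact p.Prime] [Finite G] {M H V : Subgroup G} (hM : CharP p M)
    (hVM : V ≤ M) (hV : IsPGroup p V) (hHM : H ≤ M)
    (hCQ : pCoreIn p M ⊓ Subgroup.centralizer (V : Set G) ≤ H)
    (hcV : ∀ x ∈ H, x ∈ Subgroup.centralizer ((pCoreIn p H : Subgroup G) : Set G) →
      (orderOf x).Coprime p → x ∈ Subgroup.centralizer (V : Set G)) :
    CharP p H := by
  rw [charP_iff_forall]
  intro x hxH hxc hcop
  have hVn : V ≤ Subgroup.normalizer ((pCoreIn p M : Subgroup G) : Set G) :=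
    hVM.trans (le_normalizer_pCoreIn p M)
  have hT : IsPGroup p (V ⊔ pCoreIn p M : Subgroup G) :=
    IsPGroup.to_sup_of_normal_right' hV (isPGroup_pCoreIn p M) hVn
  have hxV := hcV x hxH hxc hcop
  have hxQ : ∀ q ∈ V, Commute x q := fun q hq =>
    ((Subgroup.mem_centralizer_iff.mp hxV) q hq).symm
  have key := commute_of_AxB (T := V ⊔ pCoreIn p M) (R := pCoreIn p M) (Q := V) hT le_sup_right
    le_sup_left hVn (le_normalizer_pCoreIn p M (hHM hxH)) hcop hxQ
    (fun r hr hrq => by
      have hrH : r ∈ H := hCQ ⟨hr, by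
        show r ∈ Subgroup.centralizer (V : Set G)
        rw [Subgroup.mem_centralizer_iff]
        intro q hq
        exact (hrq q hq).eq.symm⟩
      have : r ∈ pCoreIn p H := pCoreIn_inf_le hHM ⟨hr, hrH⟩
      exact ((Subgroup.mem_centralizer_iff.mp hxc) r this).symm)
  apply charP_iff_forall.mp hM x (hHM hxH) _ hcop
  rw [Subgroup.mem_centralizer_iff]
  intro r hr
  exact (key r hr).eq.symm

/-- `N_M(V)` has characteristic `p` when `M` has and `V` is a `p`-subgroup of `M`. -/
theorem charP_inf_normalizer {p : ℕ} [Fact p.Prime] [Finite G] {M V : Subgroup G} (hM : CharP p M)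
    (hVM : V ≤ M) (hV : IsPGroup p V) : CharP p (M ⊓ Subgroup.normalizer (V : Set G)) := by
  apply charP_of_AxB hM hVM hV inf_le_left
  · exact inf_le_inf (pCoreIn_le p M) (Subgroup.centralizer_le_normalizer _)
  · intro x _ hxc _
    have hVH : V ≤ pCoreIn p (M ⊓ Subgroup.normalizer (V : Set G)) :=
      le_pCoreIn_of_normalized (le_inf hVM Subgroup.le_normalizer) inf_le_right hV
    exact Subgroup.centralizer_le hVH hxc

/-- `C_M(V)` has characteristic `p` when `M` has and `V` is a `p`-subgroup of `M`. -/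
theorem charP_inf_centralizer {p : ℕ} [Fact p.Prime] [Finite G] {M V : Subgroup G} (hM : CharP p M)
    (hVM : V ≤ M) (hV : IsPGroup p V) : CharP p (M ⊓ Subgroup.centralizer (V : Set G)) := by
  apply charP_of_AxB hM hVM hV inf_le_left
  · exact inf_le_inf (pCoreIn_le p M) le_rfl
  · intro x hx _ _
    exact hx.2

/-- If `N` normalizes `C` then it normalizes `O_p(C)`. -/
theorem le_normalizer_pCoreIn_of_le_normalizer {p : ℕ} [Fact p.Prime] [Finite G] {C N : Subgroup G}
    (hN : N ≤ Subgroup.normalizer (C : Set G)) :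
    N ≤ Subgroup.normalizer ((pCoreIn p C : Subgroup G) : Set G) := by
  rw [Subgroup.le_normalizer_iff]
  intro g hg z hz
  have hgC := hN hg
  -- the conjugate of `O_p(C)` by `g`
  set P' : Subgroup G := (pCoreIn p C).map (MulAut.conj g).toMonoidHom with hP'
  have hmem : ∀ w, w ∈ P' ↔ g⁻¹ * w * g ∈ pCoreIn p C := by
    intro w
    constructor
    · rintro ⟨y, hy, rfl⟩
      simpa [mul_assoc] using hy
    · intro hw
      exact ⟨g⁻¹ * w * g, hw, by simp [mul_assoc]⟩
  have hconjC : ∀ c, c ∈ C → g⁻¹ * c * g ∈ C := by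
    intro c hc
    have := (Subgroup.mem_normalizer_iff.mp (Subgroup.inv_mem _ hgC) c).mp hc
    simpa using this
  have h1 : P' ≤ C := by
    rintro _ ⟨y, hy, rfl⟩
    exact (Subgroup.mem_normalizer_iff.mp hgC y).mp (pCoreIn_le p C hy)
  have h2 : C ≤ Subgroup.normalizer ((P' : Subgroup G) : Set G) := by
    rw [Subgroup.le_normalizer_iff]
    intro c hc w hw
    rw [hmem] at hw ⊢
    have hc' := le_normalizer_pCoreIn p C (hconjC c hc)
    have := (Subgroup.mem_normalizer_iff.mp hc' _).mp hw
    have e : g⁻¹ * (c * w * c⁻¹) * g = g⁻¹ * c * g * (g⁻¹ * w * g) * (g⁻¹ * c * g)⁻¹ := by group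
    rw [e]
    exact this
  have h3 : IsPGroup p P' := (isPGroup_pCoreIn p C).map _
  have := le_pCoreIn_of_normalized h1 h2 h3
  exact this ⟨z, hz, rfl⟩

/-- **Extension.** If `C ⊴ N` has characteristic `p` and every `p'`-element of `C_N(O_p(N))` lies in
`C`, then `N` has characteristic `p`. -/
theorem charP_of_normal_charP {p : ℕ} [Fact p.Prime] [Finite G] {C N : Subgroup G}
    (hCN : C ≤ N) (hN : N ≤ Subgroup.normalizer (C : Set G)) (hC : CharP p C)
    (h : ∀ x ∈ N, x ∈ Subgroup.centralizer ((pCoreIn p N : Subgroup G) : Set G) →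
      (orderOf x).Coprime p → x ∈ C) : CharP p N := by
  rw [charP_iff_forall]
  intro x hxN hxc hcop
  have hxC := h x hxN hxc hcop
  have hle : pCoreIn p C ≤ pCoreIn p N :=
    le_pCoreIn_of_normalized ((pCoreIn_le p C).trans hCN)
      (le_normalizer_pCoreIn_of_le_normalizer hN) (isPGroup_pCoreIn p C)
  exact charP_iff_forall.mp hC x hxC (Subgroup.centralizer_le hle hxc) hcop

/-- **Normal subgroups inherit characteristic `p`.** -/
theorem charP_of_normal_of_charP {p : ℕ} [Fact p.Prime] [Finite G] {C N : Subgroup G}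
    (hCN : C ≤ N) (hN : N ≤ Subgroup.normalizer (C : Set G)) (hNp : CharP p N) : CharP p C := by
  rw [charP_iff_forall]
  intro x hxC hxc hcop
  apply eq_one_of_charP_of_commute_comm hNp (hCN hxC) hcop
  intro r hr
  have hrN : r ∈ N := pCoreIn_le p N hr
  have h1 : x * r * x⁻¹ * r⁻¹ ∈ pCoreIn p N := by
    have hn := le_normalizer_pCoreIn p N (hCN hxC)
    exact (pCoreIn p N).mul_mem ((Subgroup.mem_normalizer_iff.mp hn r).mp hr)
      ((pCoreIn p N).inv_mem hr)
  have h2 : x * r * x⁻¹ * r⁻¹ ∈ C := by
    have : r * x⁻¹ * r⁻¹ ∈ C :=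
      (Subgroup.mem_normalizer_iff.mp (hN hrN) _).mp (C.inv_mem hxC)
    have e : x * r * x⁻¹ * r⁻¹ = x * (r * x⁻¹ * r⁻¹) := by group
    rw [e]
    exact C.mul_mem hxC this
  have h3 : x * r * x⁻¹ * r⁻¹ ∈ pCoreIn p C := pCoreIn_inf_le hCN ⟨h1, h2⟩
  exact ((Subgroup.mem_centralizer_iff.mp hxc) _ h3).symm

/-- `C_G(B)` has characteristic `p` if `N_G(B)` has. -/
theorem charP_centralizer_of_charP_normalizer {p : ℕ} [Fact p.Prime] [Finite G] {B : Subgroup G}
    (h : CharP p (Subgroup.normalizer (B : Set G))) : CharP p (Subgroup.centralizer (B : Set G)) :=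
  charP_of_normal_of_charP (Subgroup.centralizer_le_normalizer _)
    (normalizer_le_normalizer_centralizer B) h

/-- `N_G(B)` has characteristic `p` if `C_G(B)` has, for a `p`-subgroup `B`. -/
theorem charP_normalizer_of_charP_centralizer {p : ℕ} [Fact p.Prime] [Finite G] {B : Subgroup G}
    (hB : IsPGroup p B) (h : CharP p (Subgroup.centralizer (B : Set G))) :
    CharP p (Subgroup.normalizer (B : Set G)) := by
  apply charP_of_normal_charP (Subgroup.centralizer_le_normalizer _)
    (normalizer_le_normalizer_centralizer B) h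
  intro x _ hxc _
  have hB' : B ≤ pCoreIn p (Subgroup.normalizer (B : Set G)) :=
    le_pCoreIn_of_normalized Subgroup.le_normalizer le_rfl hB
  exact Subgroup.centralizer_le hB' hxc

/-- **Chain step.** `C ⊴ B` a `p`-group and `N_G(C)` of characteristic `p`: then `N_G(B)` and `C_G(B)`
have characteristic `p`. -/
theorem charP_normalizer_step {p : ℕ} [Fact p.Prime] [Finite G] {C B : Subgroup G}
    (hCB : C ≤ B) (hBn : B ≤ Subgroup.normalizer (C : Set G)) (hB : IsPGroup p B)
    (hC : CharP p (Subgroup.normalizer (C : Set G))) :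
    CharP p (Subgroup.normalizer (B : Set G)) ∧ CharP p (Subgroup.centralizer (B : Set G)) := by
  have h1 : CharP p (Subgroup.centralizer (B : Set G)) := by
    have := charP_inf_centralizer hC hBn hB
    have e : Subgroup.normalizer (C : Set G) ⊓ Subgroup.centralizer (B : Set G)
        = Subgroup.centralizer (B : Set G) := by
      apply inf_eq_right.mpr
      exact (Subgroup.centralizer_le hCB).trans (Subgroup.centralizer_le_normalizer _)
    rwa [e] at this
  exact ⟨charP_normalizer_of_charP_centralizer hB h1, h1⟩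

/-- Normalizers grow in `p`-groups (ambient form). -/
theorem lt_inf_normalizer_of_lt {p : ℕ} [Fact p.Prime] [Finite G] {A B : Subgroup G}
    (hB : IsPGroup p B) (hAB : A < B) : A < B ⊓ Subgroup.normalizer (A : Set G) := by
  have hnil : Group.IsNilpotent B := hB.isNilpotent
  have hnc := Group.normalizerCondition_of_isNilpotent (G := B)
  have hlt : A.subgroupOf B < ⊤ := by
    rw [lt_top_iff_ne_top, Ne, Subgroup.subgroupOf_eq_top]
    exact not_le_of_gt hAB
  have h2 := hnc _ hlt
  rw [← Subgroup.subgroupOf_normalizer_eq hAB.le] at h2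
  refine lt_of_le_of_ne (le_inf hAB.le Subgroup.le_normalizer) ?_
  intro heq
  apply h2.ne
  ext b
  rw [Subgroup.mem_subgroupOf, Subgroup.mem_subgroupOf]
  constructor
  · intro hb; exact Subgroup.le_normalizer hb
  · intro hb
    rw [heq]
    exact ⟨b.2, hb⟩

/-- **Chain.** If `A ≤ B` are `p`-subgroups and `N_G(A)` has characteristic `p`, so have `N_G(B)`
and `C_G(B)`. -/
theorem charP_normalizer_of_le {p : ℕ} [Fact p.Prime] [Finite G] {B : Subgroup G}
    (hB : IsPGroup p B) :
    ∀ (n : ℕ) (A : Subgroup G), A ≤ B → Nat.card B - Nat.card A = n →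
      CharP p (Subgroup.normalizer (A : Set G)) →
      CharP p (Subgroup.normalizer (B : Set G)) ∧ CharP p (Subgroup.centralizer (B : Set G)) := by
  intro n
  induction n using Nat.strong_induction_on with
  | _ n ih =>
    intro A hAB hn hA
    by_cases hEq : A = B
    · subst hEq
      exact ⟨hA, charP_centralizer_of_charP_normalizer hA⟩
    · have hlt : A < B := lt_of_le_of_ne hAB hEq
      have hlt' := lt_inf_normalizer_of_lt hB hlt
      set A' := B ⊓ Subgroup.normalizer (A : Set G) with hA'
      have hA'p : IsPGroup p A' := hB.to_le inf_le_left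
      have hstep := charP_normalizer_step hlt'.le inf_le_right hA'p hA
      have hcard : Nat.card A < Nat.card A' := by
        by_contra hcon
        exact hlt'.ne (Subgroup.eq_of_le_of_card_ge hlt'.le (not_lt.mp hcon))
      have hcard' : Nat.card A' ≤ Nat.card B := Subgroup.card_le_of_le inf_le_left
      exact ih (Nat.card B - Nat.card A') (by omega) A' inf_le_left rfl hstep.1

/-- If `A ≤ B` are `p`-subgroups and `N_G(A)` has characteristic `p`, so has `N_G(B)`. -/
theorem charP_normalizer_of_le_of_charP {p : ℕ} [Fact p.Prime] [Finite G] {A B : Subgroup G}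
    (hB : IsPGroup p B) (hAB : A ≤ B) (hA : CharP p (Subgroup.normalizer (A : Set G))) :
    CharP p (Subgroup.normalizer (B : Set G)) :=
  (charP_normalizer_of_le hB _ A hAB rfl hA).1

/-- If `A ≤ B` are `p`-subgroups and `N_G(A)` has characteristic `p`, so has `C_G(B)`. -/
theorem charP_centralizer_of_le_of_charP {p : ℕ} [Fact p.Prime] [Finite G] {A B : Subgroup G}
    (hB : IsPGroup p B) (hAB : A ≤ B) (hA : CharP p (Subgroup.normalizer (A : Set G))) :
    CharP p (Subgroup.centralizer (B : Set G)) :=
  (charP_normalizer_of_le hB _ A hAB rfl hA).2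

end Ambient

end Cfsg.Agent.Lib.Helper31
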