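/-
helper31 shared library: `O_{p'}` of a `p`-local subgroup (towards `L_{p'}`-balance).
If `O_{p'}(G) = 1`, `R` is a `p`-subgroup and `W` is a `p'`-subgroup of `N_G(R)` normalized by
`N_G(R)`, then `W` centralizes `O_p(G)` and normalizes every component of `G`.
All declarations live in `Cfsg.Agent.Lib.Helper31`.
-/
import Mathlib
import Cfsg.Prelude.Def_Local
import Cfsg.Agent.Lib.Helper49.CharP
import Cfsg.Agent.Lib.Helper97.CoprimeQuot
import Cfsg.Agent.Lib.Helper22.Layer
import Cfsg.Agent.Lib.Helper22.PPrimeCore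
import Cfsg.Agent.Lib.Helper22.PConstrained
import Cfsg.Agent.Lib.Helper33.SylIn
import Cfsg.Agent.Lib.Helper34.NormalPComplement
import Cfsg.Agent.Lib.Helper31.CharPLocals

set_option autoImplicit false

namespace Cfsg.Agent.Lib.Helper31

open Cfsg

section PPrimeLocal

variable {G : Type*} [Group G]

/-- An element of `A ⊓ B = ⊥`. -/
theorem eq_one_of_mem_of_mem_of_inf_eq_bot {A B : Subgroup G} (h : A ⊓ B = ⊥) {x : G}
    (hA : x ∈ A) (hB : x ∈ B) : x = 1 := by
  have : x ∈ A ⊓ B := ⟨hA, hB⟩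
  rw [h] at this
  exact Subgroup.mem_bot.mp this

/-- Elements of `R` and of a `p'`-subgroup `W ≤ N(R)` normalized by `N(R)` commute. -/
theorem commute_of_coprime_local {p : ℕ} [Fact p.Prime] [Finite G] {R W : Subgroup G}
    (hR : IsPGroup p R) (hWR : W ≤ Subgroup.normalizer (R : Set G))
    (hRW : Subgroup.normalizer (R : Set G) ≤ Subgroup.normalizer (W : Set G))
    (hW : (Nat.card W).Coprime p) {w r : G} (hw : w ∈ W) (hr : r ∈ R) : Commute w r := by
  have hbot : R ⊓ W = ⊥ := Cfsg.Agent.Lib.Helper97.inf_eq_bot_of_isPGroup_of_coprime hR hW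
  have h1 : w * r * w⁻¹ * r⁻¹ ∈ R :=
    R.mul_mem ((Subgroup.mem_normalizer_iff.mp (hWR hw) r).mp hr) (R.inv_mem hr)
  have h2 : w * r * w⁻¹ * r⁻¹ ∈ W := by
    have : r * w⁻¹ * r⁻¹ ∈ W :=
      (Subgroup.mem_normalizer_iff.mp (hRW (Subgroup.le_normalizer hr)) w⁻¹).mp (W.inv_mem hw)
    have h3 := W.mul_mem hw this
    have : w * (r * w⁻¹ * r⁻¹) = w * r * w⁻¹ * r⁻¹ := by group
    rwa [this] at h3
  have h3 := eq_one_of_mem_of_mem_of_inf_eq_bot hbot h1 h2
  show w * r = r * w
  have : w * r = (w * r * w⁻¹ * r⁻¹) * (r * w) := by group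
  rw [this, h3, one_mul]

/-- `W` (a `p'`-subgroup of `N(R)` normalized by `N(R)`, `R` a `p`-group) centralizes `O_p(G)`. -/
theorem le_centralizer_pCore_of_coprime_local {p : ℕ} [Fact p.Prime] [Finite G]
    {R W : Subgroup G} (hR : IsPGroup p R) (hWR : W ≤ Subgroup.normalizer (R : Set G))
    (hRW : Subgroup.normalizer (R : Set G) ≤ Subgroup.normalizer (W : Set G))
    (hW : (Nat.card W).Coprime p) : W ≤ Subgroup.centralizer (pCore p G : Set G) := by
  have hQn : (pCore p G).Normal := Cfsg.Agent.Lib.Helper1.pCore_normal p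
  have hQ : IsPGroup p (pCore p G) := Cfsg.Agent.Lib.Helper1.pCore_isPGroup p
  have hT : IsPGroup p (pCore p G ⊔ R : Subgroup G) := IsPGroup.to_sup_of_normal_left hQ hR
  have hbot : pCore p G ⊓ W = ⊥ := Cfsg.Agent.Lib.Helper97.inf_eq_bot_of_isPGroup_of_coprime hQ hW
  intro w hw
  have hord : (orderOf w).Coprime p :=
    Nat.Coprime.coprime_dvd_left (Subgroup.orderOf_dvd_natCard W hw) hW
  have key := Cfsg.Agent.Lib.Helper49.commute_of_AxB (T := pCore p G ⊔ R) (R := pCore p G) (Q := R)
    hT le_sup_left le_sup_right (by rw [Subgroup.normalizer_eq_top]; exact le_top)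
    (x := w) (by rw [Subgroup.normalizer_eq_top]; exact Subgroup.mem_top w) hord
    (fun q hq => commute_of_coprime_local hR hWR hRW hW hw hq)
    (by
      intro r hr hrc
      -- `r ∈ C_Q(R) ≤ N(R) ≤ N(W)`
      have hrN : r ∈ Subgroup.normalizer (R : Set G) := by
        apply Subgroup.centralizer_le_normalizer
        rw [Subgroup.mem_centralizer_iff]
        intro q hq
        exact ((hrc q hq).eq).symm
      have hrW := hRW hrN
      have h1 : w * r * w⁻¹ * r⁻¹ ∈ pCore p G :=
        (pCore p G).mul_mem (hQn.conj_mem r hr w) ((pCore p G).inv_mem hr)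
      have h2 : w * r * w⁻¹ * r⁻¹ ∈ W := by
        have : r * w⁻¹ * r⁻¹ ∈ W :=
          (Subgroup.mem_normalizer_iff.mp hrW w⁻¹).mp (W.inv_mem hw)
        have h3 := W.mul_mem hw this
        have : w * (r * w⁻¹ * r⁻¹) = w * r * w⁻¹ * r⁻¹ := by group
        rwa [this] at h3
      have h3 := eq_one_of_mem_of_mem_of_inf_eq_bot hbot h1 h2
      show w * r = r * w
      have : w * r = (w * r * w⁻¹ * r⁻¹) * (r * w) := by group
      rw [this, h3, one_mul])
  rw [Subgroup.mem_centralizer_iff]
  intro q hq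
  exact ((key q hq).eq).symm

/-! ### Small facts on `p`-elements -/

/-- A product of commuting `p`-elements is a `p`-element. -/
theorem mul_pow_prime_pow_eq_one {p : ℕ} {a b : G} (hab : Commute a b) {i j : ℕ}
    (ha : a ^ p ^ i = 1) (hb : b ^ p ^ j = 1) : (a * b) ^ p ^ (i + j) = 1 := by
  rw [hab.mul_pow, pow_add, pow_mul, ha, one_pow, mul_comm (p ^ i) (p ^ j), pow_mul, hb, one_pow,
    one_mul]

/-- A `p`-element of a `p'`-subgroup is trivial. -/
theorem eq_one_of_mem_of_pow_prime_pow_eq_one {p : ℕ} [Fact p.Prime] [Finite G] {W : Subgroup G}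
    (hW : (Nat.card W).Coprime p) {c : G} (hc : c ∈ W) {k : ℕ} (hk : c ^ p ^ k = 1) : c = 1 := by
  have h1 : orderOf c ∣ p ^ k := orderOf_dvd_of_pow_eq_one hk
  have h2 : orderOf c ∣ Nat.card W := Subgroup.orderOf_dvd_natCard W hc
  have h3 : (Nat.card W).Coprime (p ^ k) := Nat.Coprime.pow_right k hW
  have h4 : orderOf c = 1 := Nat.eq_one_of_dvd_coprimes h3 h2 h1
  exact orderOf_eq_one_iff.mp h4

/-- A finite perfect group with a central Sylow `p`-subgroup has order prime to `p`. -/
theorem card_coprime_of_isPerfect_of_sylow_le_center {p : ℕ} [Fact p.Prime] {K : Type*} [Group K]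
    [Finite K] [hK : Group.IsPerfect K] (P : Sylow p K)
    (hP : (P : Subgroup K) ≤ Subgroup.center K) : (Nat.card K).Coprime p := by
  have hp : p.Prime := Fact.out
  obtain ⟨N, hNn, hN⟩ :=
    Cfsg.Agent.Lib.Helper34.exists_normal_complement_of_sylow_le_center P hP
  have hidx : N.index = Nat.card (P : Subgroup K) := hN.symm.index_eq_card
  obtain ⟨n, hn⟩ := P.isPGroup'.exists_card_eq
  have hq : IsPGroup p (K ⧸ N) :=
    IsPGroup.of_card (n := n) (by rw [← Subgroup.index_eq_card, hidx, hn])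
  have hnil : Group.IsNilpotent (K ⧸ N) := hq.isNilpotent
  have hsub : Subsingleton (K ⧸ N) := by
    by_contra hns
    rw [not_subsingleton_iff_nontrivial] at hns
    exact Group.IsPerfect.not_isNilpotent (G := K ⧸ N) hnil
  have hcard : Nat.card (P : Subgroup K) = 1 := by
    rw [← hidx, Subgroup.index_eq_card]
    exact Nat.card_eq_one_iff_unique.mpr ⟨hsub, ⟨1⟩⟩
  have h5 : ¬ p ∣ Nat.card K := by
    intro hdvd
    have := P.not_dvd_index
    rw [← Subgroup.card_mul_index (P : Subgroup K), hcard, one_mul] at hdvd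
    exact this hdvd
  exact ((Nat.Prime.coprime_iff_not_dvd hp).mpr h5).symm

/-! ### The join of the `R`-conjugates of a subgroup -/

open Cfsg.Agent.Lib.Helper33 in
/-- The join of the `R`-conjugates of `K`. -/
def orbSup (R K : Subgroup G) : Subgroup G := ⨆ r : R, cj (r : G) K

open Cfsg.Agent.Lib.Helper33 in
theorem cj_le_orbSup {R K : Subgroup G} {r : G} (hr : r ∈ R) : cj r K ≤ orbSup R K :=
  le_iSup (fun r : R => cj (r : G) K) ⟨r, hr⟩

open Cfsg.Agent.Lib.Helper33 in
theorem le_orbSup (R K : Subgroup G) : K ≤ orbSup R K := by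
  have := cj_le_orbSup (K := K) R.one_mem
  rwa [cj_one] at this

open Cfsg.Agent.Lib.Helper33 in
theorem cj_orbSup (g : G) (R K : Subgroup G) :
    cj g (orbSup R K) = ⨆ r : R, cj (g * (r : G)) K := by
  unfold orbSup
  rw [cj_def, Subgroup.map_iSup]
  refine iSup_congr fun r => ?_
  rw [← cj_def, ← cj_mul]

open Cfsg.Agent.Lib.Helper33 in
theorem cj_orbSup_of_mem {R K : Subgroup G} {r : G} (hr : r ∈ R) :
    cj r (orbSup R K) = orbSup R K := by
  rw [cj_orbSup]
  apply le_antisymm
  · refine iSup_le fun r' => ?_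
    exact cj_le_orbSup (R.mul_mem hr r'.2)
  · refine iSup_le fun r' => ?_
    have h1 : ((r' : G)) = r * (r⁻¹ * (r' : G)) := by group
    have h2 : r⁻¹ * (r' : G) ∈ R := R.mul_mem (R.inv_mem hr) r'.2
    rw [h1]
    exact le_iSup (fun r'' : R => cj (r * (r'' : G)) K) ⟨r⁻¹ * (r' : G), h2⟩

theorem le_normalizer_orbSup (R K : Subgroup G) :
    R ≤ Subgroup.normalizer (orbSup R K : Set G) := by
  intro r hr
  rw [Cfsg.Agent.Lib.Helper33.mem_normalizer_iff_cj_eq]
  exact cj_orbSup_of_mem hr

open Cfsg.Agent.Lib.Helper33 in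
/-- If commuting elements `w` (a `p'`-element) and `r` (a `p`-element) move `K` to the same
conjugate, then both normalize `K`. -/
theorem cj_eq_self_of_cj_eq_cj_of_commute {p : ℕ} [Fact p.Prime] [Finite G] {K : Subgroup G}
    {w r : G} (hwr : Commute w r) (hw : (orderOf w).Coprime p) {k : ℕ} (hr : r ^ p ^ k = 1)
    (h : cj w K = cj r K) : cj w K = K := by
  have hpow : ∀ i : ℕ, cj (w ^ i) K = cj (r ^ i) K := by
    intro i
    induction i with
    | zero => simp
    | succ i ih =>
      calc cj (w ^ (i + 1)) K = cj (w ^ i) (cj w K) := by rw [pow_succ, cj_mul]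
        _ = cj (w ^ i * r) K := by rw [h, cj_mul]
        _ = cj (r * w ^ i) K := by rw [(hwr.pow_left i).eq]
        _ = cj r (cj (r ^ i) K) := by rw [cj_mul, ih]
        _ = cj (r ^ (i + 1)) K := by rw [← cj_mul, pow_succ']
  have h1 := hpow (orderOf w)
  rw [pow_orderOf_eq_one, cj_one] at h1
  have h2 : r ^ orderOf w ∈ Subgroup.normalizer (K : Set G) :=
    mem_normalizer_iff_cj_eq.mpr h1.symm
  have h3 : (orderOf w).Coprime (orderOf r) := by
    have : orderOf r ∣ p ^ k := orderOf_dvd_of_pow_eq_one hr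
    exact Nat.Coprime.coprime_dvd_right this (Nat.Coprime.pow_right k hw)
  obtain ⟨m, hm⟩ := exists_pow_eq_self_of_coprime h3
  have h4 : r ∈ Subgroup.normalizer (K : Set G) := by
    rw [← hm]
    exact Subgroup.pow_mem _ h2 m
  rw [h, mem_normalizer_iff_cj_eq.mp h4]

open Cfsg.Agent.Lib.Helper33 Cfsg.Agent.Lib.Helper22 in
/-- If `w` centralizes `R` and moves the component `K` outside its `R`-orbit, then the joins of the
`R`-orbits of `K` and of `K^w` commute. -/
theorem commutator_orbSup_cj_eq_bot [Finite G] {R K : Subgroup G} (hK : IsComponent K) {w : G}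
    (hcomm : ∀ r ∈ R, Commute w r) (h2 : ∀ r ∈ R, cj w K ≠ cj r K) :
    ⁅orbSup R K, cj w (orbSup R K)⁆ = ⊥ := by
  rw [Subgroup.commutator_eq_bot_iff_le_centralizer]
  refine iSup_le fun r => ?_
  rw [← Subgroup.commutator_eq_bot_iff_le_centralizer, Subgroup.commutator_comm,
    Subgroup.commutator_eq_bot_iff_le_centralizer, cj_orbSup]
  refine iSup_le fun r' => ?_
  rw [← Subgroup.commutator_eq_bot_iff_le_centralizer]
  have hc1 : IsComponent (cj (w * (r' : G)) K) := component_conj hK _
  have hc2 : IsComponent (cj (r : G) K) := component_conj hK _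
  apply component_commutator_eq_bot_of_ne hc1 hc2
  intro h
  apply h2 ((r' : G)⁻¹ * (r : G)) (R.mul_mem (R.inv_mem r'.2) r.2)
  have h3 : w = (r' : G)⁻¹ * (w * (r' : G)) := by
    rw [(hcomm _ r'.2).eq]; group
  calc cj w K = cj ((r' : G)⁻¹ * (w * (r' : G))) K := by rw [← h3]
    _ = cj (r' : G)⁻¹ (cj (r : G) K) := by rw [cj_mul, h]
    _ = cj ((r' : G)⁻¹ * (r : G)) K := by rw [cj_mul]

open Cfsg.Agent.Lib.Helper33 Cfsg.Agent.Lib.Helper22 in
/-- Claim (P): in the situation above (with `O_{p'}(G) = 1`), a `p`-element of `N(R)` lying in the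
join of the `R`-orbit of `K` lies in `O_p(G)`. -/
theorem mem_pCore_of_mem_orbSup {p : ℕ} [Fact p.Prime] [Finite G] (hG : pPrimeCore p G = ⊥)
    {R W K : Subgroup G} (hRW : Subgroup.normalizer (R : Set G) ≤ Subgroup.normalizer (W : Set G))
    (hW : (Nat.card W).Coprime p) (hK : IsComponent K) {w : G} (hw : w ∈ W)
    (hcomm : ∀ r ∈ R, Commute w r) (h2 : ∀ r ∈ R, cj w K ≠ cj r K) {l : G}
    (hl : l ∈ orbSup R K) (hlN : l ∈ Subgroup.normalizer (R : Set G)) {k : ℕ}
    (hlk : l ^ p ^ k = 1) : l ∈ pCore p G := by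
  have hLw := commutator_orbSup_cj_eq_bot hK hcomm h2
  rw [Subgroup.commutator_eq_bot_iff_le_centralizer] at hLw
  -- `c = l⁻¹ (w l w⁻¹)` is a `p`-element of `W`
  have hwl : w * l * w⁻¹ ∈ cj w (orbSup R K) := conj_mem_cj hl
  have hc1 : Commute l⁻¹ (w * l * w⁻¹) := by
    have := hLw ((orbSup R K).inv_mem hl)
    rw [Subgroup.mem_centralizer_iff] at this
    exact (this _ hwl).symm
  have hcW : l⁻¹ * (w * l * w⁻¹) ∈ W := by
    have h3 : l⁻¹ * w * l⁻¹⁻¹ ∈ W :=
      (Subgroup.mem_normalizer_iff.mp (hRW (inv_mem hlN)) w).mp hw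
    have h4 := W.mul_mem h3 (W.inv_mem hw)
    have : l⁻¹ * w * l⁻¹⁻¹ * w⁻¹ = l⁻¹ * (w * l * w⁻¹) := by group
    rwa [this] at h4
  have hck : (l⁻¹ * (w * l * w⁻¹)) ^ p ^ (k + k) = 1 := by
    apply mul_pow_prime_pow_eq_one hc1
    · rw [inv_pow, hlk, inv_one]
    · rw [← MulAut.conj_apply, ← map_pow, hlk, map_one]
  have hc := eq_one_of_mem_of_pow_prime_pow_eq_one hW hcW hck
  have hlw : l = w * l * w⁻¹ := by
    have : l * (l⁻¹ * (w * l * w⁻¹)) = w * l * w⁻¹ := by group
    rw [hc, mul_one] at this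
    exact this
  have hl' : l ∈ cj w (orbSup R K) := by rw [hlw]; exact hwl
  -- `l` centralizes every component
  have hcent : layer G ≤ Subgroup.centralizer ({l} : Set G) := by
    apply sSup_le
    intro K' hK'
    by_cases hex : ∃ r ∈ R, K' = cj r K
    · obtain ⟨r, hr, rfl⟩ := hex
      intro x hx
      rw [Subgroup.mem_centralizer_iff]
      intro y hy
      rw [Set.mem_singleton_iff] at hy
      subst hy
      have := hLw (cj_le_orbSup hr hx)
      rw [Subgroup.mem_centralizer_iff] at this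
      exact this _ hl'
    · push Not at hex
      have h5 : orbSup R K ≤ Subgroup.centralizer (K' : Set G) := by
        refine iSup_le fun r => ?_
        rw [← Subgroup.commutator_eq_bot_iff_le_centralizer]
        exact component_commutator_eq_bot_of_ne (component_conj hK _) hK'
          (fun h => hex _ r.2 h.symm)
      intro x hx
      rw [Subgroup.mem_centralizer_iff]
      intro y hy
      rw [Set.mem_singleton_iff] at hy
      subst hy
      have := h5 hl
      rw [Subgroup.mem_centralizer_iff] at this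
      exact (this _ hx).symm
  have hlE : l ∈ layer G := by
    have hle : orbSup R K ≤ layer G :=
      iSup_le fun r => component_le_layer (component_conj hK _)
    exact hle hl
  have hlC : l ∈ Subgroup.centralizer (layer G : Set G) := by
    rw [Subgroup.mem_centralizer_iff]
    intro y hy
    have := hcent hy
    rw [Subgroup.mem_centralizer_iff] at this
    exact (this l rfl).symm
  have := mem_fittingSubgroup_of_mem_layer_of_centralizes hlE hlC
  rwa [fittingSubgroup_eq_pCore_of_pPrimeCore_eq_bot p hG] at this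

open Cfsg.Agent.Lib.Helper33 in
/-- If the `p`-elements of `L ⊓ N(R)` all lie in `R` (`R` a `p`-group normalizing `L`), then `R` is a
Sylow `p`-subgroup of `L R`. -/
theorem sylIn_sup_of_forall_mem {p : ℕ} [Fact p.Prime] [Finite G] {R L : Subgroup G}
    (hR : IsPGroup p R) (hRL : R ≤ Subgroup.normalizer (L : Set G))
    (hP : ∀ l ∈ L, l ∈ Subgroup.normalizer (R : Set G) → ∀ k : ℕ, l ^ p ^ k = 1 → l ∈ R) :
    SylIn p R (L ⊔ R) := by
  obtain ⟨T, hT⟩ := (hR.comap_subtype (K := L ⊔ R)).exists_le_sylow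
  have hS : SylIn p ((T : Subgroup ↥(L ⊔ R)).map (L ⊔ R).subtype) (L ⊔ R) := sylIn_of_sylow T
  set T₀ := (T : Subgroup ↥(L ⊔ R)).map (L ⊔ R).subtype with hT₀
  have hRT : R ≤ T₀ := by
    intro r hr
    exact ⟨⟨r, Subgroup.mem_sup_right hr⟩, hT hr, rfl⟩
  have hEq : R = T₀ := by
    by_contra hne
    have hlt : R < T₀ := lt_of_le_of_ne hRT hne
    have hlt' := lt_inf_normalizer_of_lt hS.isPGroup hlt
    obtain ⟨y, hy, hyR⟩ := SetLike.exists_of_lt hlt'
    have hyM : y ∈ L ⊔ R := hS.le hy.1
    have hyM' : y ∈ ((L ⊔ R : Subgroup G) : Set G) := hyM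
    rw [Subgroup.coe_mul_of_right_le_normalizer_left L R hRL, Set.mem_mul] at hyM'
    obtain ⟨l, hl, r, hr, rfl⟩ := hyM'
    have hlT : l ∈ T₀ := by
      have := T₀.mul_mem hy.1 (T₀.inv_mem (hRT hr))
      rwa [mul_inv_cancel_right] at this
    have hlN : l ∈ Subgroup.normalizer (R : Set G) := by
      have := (Subgroup.normalizer (R : Set G)).mul_mem hy.2
        (inv_mem (Subgroup.le_normalizer hr))
      rwa [mul_inv_cancel_right] at this
    obtain ⟨k, hk⟩ := hS.isPGroup ⟨l, hlT⟩
    have hk' : l ^ p ^ k = 1 := by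
      have := congrArg Subtype.val hk
      simpa using this
    exact hyR (R.mul_mem (hP l hl hlN k hk') hr)
  rw [← hEq] at hS
  exact hS

open Cfsg.Agent.Lib.Helper33 Cfsg.Agent.Lib.Helper22 in
/-- Main step: if `O_{p'}(G) = 1`, `O_p(G) ≤ R` and `W` is a `p'`-subgroup of `N(R)` normalized by
`N(R)`, then `W` normalizes every component of `G`. -/
theorem le_normalizer_component_of_coprime_local_aux {p : ℕ} [Fact p.Prime] [Finite G]
    (hG : pPrimeCore p G = ⊥) {R W : Subgroup G} (hR : IsPGroup p R) (hQR : pCore p G ≤ R)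
    (hWR : W ≤ Subgroup.normalizer (R : Set G))
    (hRW : Subgroup.normalizer (R : Set G) ≤ Subgroup.normalizer (W : Set G))
    (hW : (Nat.card W).Coprime p) {K : Subgroup G} (hK : IsComponent K) :
    W ≤ Subgroup.normalizer (K : Set G) := by
  intro w hw
  rw [mem_normalizer_iff_cj_eq]
  by_contra hne
  have hcomm : ∀ r ∈ R, Commute w r := fun r hr => commute_of_coprime_local hR hWR hRW hW hw hr
  have hord : (orderOf w).Coprime p :=
    Nat.Coprime.coprime_dvd_left (Subgroup.orderOf_dvd_natCard W hw) hW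
  by_cases h2 : ∃ r ∈ R, cj w K = cj r K
  · obtain ⟨r, hr, h⟩ := h2
    obtain ⟨k, hk⟩ := hR ⟨r, hr⟩
    have hk' : r ^ p ^ k = 1 := by
      have := congrArg Subtype.val hk
      simpa using this
    exact hne (cj_eq_self_of_cj_eq_cj_of_commute (hcomm r hr) hord hk' h)
  · push Not at h2
    have hP : ∀ l ∈ orbSup R K, l ∈ Subgroup.normalizer (R : Set G) → ∀ k : ℕ, l ^ p ^ k = 1 →
        l ∈ pCore p G := fun l hl hlN k hlk =>
      mem_pCore_of_mem_orbSup hG hRW hW hK hw hcomm h2 hl hlN hlk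
    have hRL := le_normalizer_orbSup R K
    have hS : SylIn p R (orbSup R K ⊔ R) :=
      sylIn_sup_of_forall_mem hR hRL (fun l hl hlN k hlk => hQR (hP l hl hlN k hlk))
    have hQn : (pCore p G).Normal := Cfsg.Agent.Lib.Helper1.pCore_normal p
    -- every `p`-element of `L` lies in `O_p(G)`
    have hE : ∀ x ∈ orbSup R K, ∀ k : ℕ, x ^ p ^ k = 1 → x ∈ pCore p G := by
      intro x hx k hxk
      have hzp : IsPGroup p (Subgroup.zpowers x) := by
        rw [IsPGroup.iff_card, Nat.card_zpowers]
        obtain ⟨j, -, hj⟩ := (Nat.dvd_prime_pow (Fact.out : p.Prime)).mp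
          (orderOf_dvd_of_pow_eq_one hxk)
        exact ⟨j, hj⟩
      have hzle : Subgroup.zpowers x ≤ orbSup R K ⊔ R :=
        (Subgroup.zpowers_le.mpr hx).trans le_sup_left
      obtain ⟨h, hh, hle⟩ := hS.exists_cj_le hzle hzp
      have h1 : h * x * h⁻¹ ∈ R := hle (conj_mem_cj (Subgroup.mem_zpowers x))
      have hhN : h ∈ Subgroup.normalizer (orbSup R K : Set G) :=
        (sup_le Subgroup.le_normalizer hRL) hh
      have h2' : h * x * h⁻¹ ∈ orbSup R K := (Subgroup.mem_normalizer_iff.mp hhN x).mp hx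
      have h3 : (h * x * h⁻¹) ^ p ^ k = 1 := by
        rw [← MulAut.conj_apply, ← map_pow, hxk, map_one]
      have h4 := hP _ h2' (Subgroup.le_normalizer h1) k h3
      have h5 := hQn.conj_mem _ h4 h⁻¹
      have : h⁻¹ * (h * x * h⁻¹) * h⁻¹⁻¹ = x := by group
      rwa [this] at h5
    -- so a Sylow `p`-subgroup of `K` is central, and `K` is a `p'`-group
    have hQsol : Group.IsSolvable (pCore p G) := by
      have := (Cfsg.Agent.Lib.Helper1.pCore_isPGroup (G := G) p).isNilpotent
      infer_instance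
    have hKQ : ⁅K, pCore p G⁆ = ⊥ :=
      component_commutator_eq_bot_of_isSolvable hK hQn.isSubnormal hQsol
    rw [Subgroup.commutator_eq_bot_iff_le_centralizer] at hKQ
    have : Group.IsPerfect K := hK.2.1
    obtain ⟨P⟩ : Nonempty (Sylow p K) := inferInstance
    have hPc : (P : Subgroup K) ≤ Subgroup.center K := by
      intro x hx
      obtain ⟨k, hk⟩ := P.isPGroup' ⟨x, hx⟩
      have hk' : (x : G) ^ p ^ k = 1 := by
        have := congrArg Subtype.val (congrArg Subtype.val hk)
        simpa using this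
      have hxQ : (x : G) ∈ pCore p G := hE _ (le_orbSup R K x.2) k hk'
      rw [Subgroup.mem_center_iff]
      intro y
      have := hKQ y.2
      rw [Subgroup.mem_centralizer_iff] at this
      exact Subtype.ext (this _ hxQ).symm
    have hcop := card_coprime_of_isPerfect_of_sylow_le_center P hPc
    have hle := le_pPrimeCore_of_isSubnormal_of_coprime p hK.1 hcop
    rw [hG, le_bot_iff] at hle
    exact component_ne_bot hK hle

/-- A characteristic subgroup of `H` is normalized by `N_G(H)`. -/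
theorem normalizer_le_normalizer_map_subtype_of_characteristic {H : Subgroup G} (S : Subgroup ↥H)
    [hS : S.Characteristic] :
    Subgroup.normalizer (H : Set G) ≤
      Subgroup.normalizer ((S.map H.subtype : Subgroup G) : Set G) := by
  have key : ∀ g ∈ Subgroup.normalizer (H : Set G), ∀ y ∈ S.map H.subtype,
      g * y * g⁻¹ ∈ S.map H.subtype := by
    intro g hg y hy
    obtain ⟨x, hx, rfl⟩ := hy
    have hg' : g⁻¹ ∈ Subgroup.normalizer (H : Set G) := inv_mem hg
    let φ : ↥H ≃* ↥H :=
      { toFun := fun x => ⟨g * x * g⁻¹, (Subgroup.mem_normalizer_iff.mp hg x).mp x.2⟩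
        invFun := fun x => ⟨g⁻¹ * x * g, by
          have := (Subgroup.mem_normalizer_iff.mp hg' x).mp x.2
          simpa using this⟩
        left_inv := fun x => by
          apply Subtype.ext
          show g⁻¹ * (g * (x : G) * g⁻¹) * g = x
          group
        right_inv := fun x => by
          apply Subtype.ext
          show g * (g⁻¹ * (x : G) * g) * g⁻¹ = x
          group
        map_mul' := fun x y => by
          apply Subtype.ext
          show g * ((x : G) * (y : G)) * g⁻¹ = (g * x * g⁻¹) * (g * y * g⁻¹)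
          group }
    have h1 : S.map φ.toMonoidHom = S := Subgroup.characteristic_iff_map_eq.mp hS φ
    have h2 : φ x ∈ S := by
      rw [← h1]
      exact ⟨x, hx, rfl⟩
    exact ⟨φ x, h2, rfl⟩
  intro g hg
  rw [Subgroup.mem_normalizer_iff]
  intro y
  constructor
  · exact key g hg y
  · intro hy
    have := key g⁻¹ (inv_mem hg) _ hy
    have h3 : g⁻¹ * (g * y * g⁻¹) * g⁻¹⁻¹ = y := by group
    rwa [h3] at this

/-- **`O_{p'}` of a `p`-local normalizes the components.** If `O_{p'}(G) = 1`, `R` is a `p`-subgroup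
and `W` is a `p'`-subgroup of `N(R)` normalized by `N(R)` (for instance `W = O_{p'}(N(R))`), then
`W` normalizes every component of `G`. -/
theorem le_normalizer_component_of_coprime_local {p : ℕ} [Fact p.Prime] [Finite G]
    (hG : pPrimeCore p G = ⊥) {R W : Subgroup G} (hR : IsPGroup p R)
    (hWR : W ≤ Subgroup.normalizer (R : Set G))
    (hRW : Subgroup.normalizer (R : Set G) ≤ Subgroup.normalizer (W : Set G))
    (hW : (Nat.card W).Coprime p) {K : Subgroup G} (hK : IsComponent K) :
    W ≤ Subgroup.normalizer (K : Set G) := by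
  have hQn : (pCore p G).Normal := Cfsg.Agent.Lib.Helper1.pCore_normal p
  have hQ : IsPGroup p (pCore p G) := Cfsg.Agent.Lib.Helper1.pCore_isPGroup p
  set R' : Subgroup G := R ⊔ pCore p G with hR'
  have hR'p : IsPGroup p R' := IsPGroup.to_sup_of_normal_right hR hQ
  set C₁ : Subgroup G := Subgroup.centralizer (R' : Set G) with hC₁
  set W₁ : Subgroup G := (pPrimeCore p ↥C₁).map C₁.subtype with hW₁
  -- `W ≤ C₁`
  have hWC : W ≤ C₁ := by
    rw [hC₁, Subgroup.le_centralizer_iff]
    refine sup_le ?_ ?_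
    · intro r hr
      rw [Subgroup.mem_centralizer_iff]
      intro w hw
      exact (commute_of_coprime_local hR hWR hRW hW hw hr).eq
    · rw [← Subgroup.le_centralizer_iff]
      exact le_centralizer_pCore_of_coprime_local hR hWR hRW hW
  have hC₁R : C₁ ≤ Subgroup.normalizer (R : Set G) := by
    refine le_trans ?_ (Subgroup.centralizer_le_normalizer _)
    exact Subgroup.centralizer_le (SetLike.coe_subset_coe.mpr le_sup_left)
  -- `W ≤ W₁`
  have hWW₁ : W ≤ W₁ := by
    have hn : (W.subgroupOf C₁).Normal :=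
      Subgroup.normal_subgroupOf_of_le_normalizer (hC₁R.trans hRW)
    have hcard : (Nat.card (W.subgroupOf C₁)).Coprime p := by
      rw [Nat.card_congr (Subgroup.subgroupOfEquivOfLe hWC).toEquiv]
      exact hW
    have hle := Cfsg.Agent.Lib.Helper1.le_pPrimeCore hn hcard
    intro x hx
    exact ⟨⟨x, hWC hx⟩, hle hx, rfl⟩
  have hW₁R' : W₁ ≤ Subgroup.normalizer (R' : Set G) :=
    (Subgroup.map_subtype_le _).trans (Subgroup.centralizer_le_normalizer _)
  have hR'W₁ : Subgroup.normalizer (R' : Set G) ≤ Subgroup.normalizer (W₁ : Set G) := by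
    refine le_trans ?_ (normalizer_le_normalizer_map_subtype_of_characteristic _)
    exact Cfsg.Agent.Lib.Helper49.normalizer_le_normalizer_centralizer R'
  have hW₁c : (Nat.card W₁).Coprime p := by
    rw [hW₁, Nat.card_congr ((pPrimeCore p ↥C₁).equivMapOfInjective C₁.subtype
      C₁.subtype_injective).symm.toEquiv]
    exact Cfsg.Agent.Lib.Helper22.pPrimeCore_card_coprime p
  exact hWW₁.trans (le_normalizer_component_of_coprime_local_aux hG hR'p le_sup_right hW₁R' hR'W₁
    hW₁c hK)

end PPrimeLocal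

end Cfsg.Agent.Lib.Helper31
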