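/-
helper31 shared library: the "norm" (diagonal) product `l * l^x * ... * l^(x^(n-1))` and the
diagonal argument for a component moved by an element of order `p`.
All declarations live in `Cfsg.Agent.Lib.Helper31`.
-/
import Mathlib
import Cfsg.Prelude.Def_Local
import Cfsg.Agent.Lib.Helper21.Quasisimple
import Cfsg.Agent.Lib.Helper31.PPrimeLocal
import Cfsg.Agent.Lib.Helper31.Balance

set_option autoImplicit false

namespace Cfsg.Agent.Lib.Helper31

open Cfsg
open scoped commutatorElement

section NormProduct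

variable {G : Type*} [Group G]

/-- `nprod x n l = ∏_{i<n} x^i l x^{-i}` (in increasing order of `i`). -/
def nprod (x : G) : ℕ → G → G
  | 0, _ => 1
  | n + 1, l => nprod x n l * (x ^ n * l * (x ^ n)⁻¹)

@[simp] theorem nprod_zero (x l : G) : nprod x 0 l = 1 := rfl

theorem nprod_succ (x l : G) (n : ℕ) :
    nprod x (n + 1) l = nprod x n l * (x ^ n * l * (x ^ n)⁻¹) := rfl

theorem nprod_one_right (x : G) (n : ℕ) : nprod x n 1 = 1 := by
  induction n with
  | zero => rfl
  | succ n ih => rw [nprod_succ, ih]; simp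

/-- The shifted recursion. -/
theorem nprod_succ' (x l : G) (n : ℕ) :
    nprod x (n + 1) l = l * (x * nprod x n l * x⁻¹) := by
  induction n with
  | zero => simp [nprod_succ]
  | succ n ih =>
    have h1 : x ^ (n + 1) * l * (x ^ (n + 1))⁻¹ = x * (x ^ n * l * (x ^ n)⁻¹) * x⁻¹ := by
      rw [pow_succ']; group
    calc nprod x (n + 1 + 1) l = nprod x (n + 1) l * (x ^ (n + 1) * l * (x ^ (n + 1))⁻¹) :=
          nprod_succ x l (n + 1)
      _ = l * (x * nprod x n l * x⁻¹) * (x * (x ^ n * l * (x ^ n)⁻¹) * x⁻¹) := by rw [ih, h1]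
      _ = l * (x * (nprod x n l * (x ^ n * l * (x ^ n)⁻¹)) * x⁻¹) := by group
      _ = l * (x * nprod x (n + 1) l * x⁻¹) := by rw [← nprod_succ]

/-- Conjugation by an element commuting with `x`. -/
theorem conj_nprod {x w : G} (hwx : Commute w x) (l : G) (n : ℕ) :
    w * nprod x n l * w⁻¹ = nprod x n (w * l * w⁻¹) := by
  induction n with
  | zero => simp
  | succ n ih =>
    rw [nprod_succ, nprod_succ, ← ih]
    have h1 : w * x ^ n = x ^ n * w := (hwx.pow_right n).eq
    have h2 : (x ^ n)⁻¹ * w⁻¹ = w⁻¹ * (x ^ n)⁻¹ := by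
      rw [← mul_inv_rev, ← mul_inv_rev, h1]
    calc w * (nprod x n l * (x ^ n * l * (x ^ n)⁻¹)) * w⁻¹
        = w * nprod x n l * w⁻¹ * (w * x ^ n * l * ((x ^ n)⁻¹ * w⁻¹)) := by group
      _ = w * nprod x n l * w⁻¹ * (x ^ n * w * l * (w⁻¹ * (x ^ n)⁻¹)) := by rw [h1, h2]
      _ = w * nprod x n l * w⁻¹ * (x ^ n * (w * l * w⁻¹) * (x ^ n)⁻¹) := by group

/-- An element commuting with all factors commutes with the product. -/
theorem commute_nprod {x g l : G} {n : ℕ}
    (h : ∀ i < n, Commute g (x ^ i * l * (x ^ i)⁻¹)) : Commute g (nprod x n l) := by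
  induction n with
  | zero => exact Commute.one_right g
  | succ n ih =>
    rw [nprod_succ]
    exact (ih fun i hi => h i (Nat.lt_succ_of_lt hi)).mul_right (h n (Nat.lt_succ_self n))

/-- Multiplicativity, when the later factors of `l` commute with the earlier factors of `l'`. -/
theorem nprod_mul {x l l' : G} {n : ℕ}
    (h : ∀ j < n, ∀ i < j, Commute (x ^ j * l * (x ^ j)⁻¹) (x ^ i * l' * (x ^ i)⁻¹)) :
    nprod x n (l * l') = nprod x n l * nprod x n l' := by
  induction n with
  | zero => simp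
  | succ n ih =>
    rw [nprod_succ, nprod_succ, nprod_succ,
      ih fun j hj i hi => h j (Nat.lt_succ_of_lt hj) i hi]
    have hc : Commute (x ^ n * l * (x ^ n)⁻¹) (nprod x n l') :=
      commute_nprod fun i hi => h n (Nat.lt_succ_self n) i hi
    have h1 : x ^ n * (l * l') * (x ^ n)⁻¹ = (x ^ n * l * (x ^ n)⁻¹) * (x ^ n * l' * (x ^ n)⁻¹) := by
      group
    rw [h1]
    calc nprod x n l * nprod x n l' * ((x ^ n * l * (x ^ n)⁻¹) * (x ^ n * l' * (x ^ n)⁻¹))
        = nprod x n l * (nprod x n l' * (x ^ n * l * (x ^ n)⁻¹)) * (x ^ n * l' * (x ^ n)⁻¹) := by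
          group
      _ = nprod x n l * ((x ^ n * l * (x ^ n)⁻¹) * nprod x n l') * (x ^ n * l' * (x ^ n)⁻¹) := by
          rw [hc.eq]
      _ = nprod x n l * (x ^ n * l * (x ^ n)⁻¹) * (nprod x n l' * (x ^ n * l' * (x ^ n)⁻¹)) := by
          group

end NormProduct

section DiagonalComponent

variable {G : Type*} [Group G]

/-- `L` normalizes `⁅L, A⁆`. -/
theorem le_normalizer_commutator_left (L A : Subgroup G) :
    L ≤ Subgroup.normalizer ((⁅L, A⁆ : Subgroup G) : Set G) := by
  rw [Subgroup.commutator_def, Subgroup.le_normalizer_closure_iff]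
  rintro l hl _ ⟨l', hl', a, ha, rfl⟩
  rw [← Subgroup.commutator_def]
  have h1 : l * ⁅l', a⁆ * l⁻¹ = ⁅l * l', a⁆ * ⁅l, a⁆⁻¹ := by
    simp only [commutatorElement_def]; group
  rw [h1]
  exact Subgroup.mul_mem _ (Subgroup.commutator_mem_commutator (L.mul_mem hl hl') ha)
    (Subgroup.inv_mem _ (Subgroup.commutator_mem_commutator hl ha))

/-- `⁅L, A⁆ ≤ L` when `A` normalizes `L`. -/
theorem commutator_le_of_le_normalizer {L A : Subgroup G}
    (hA : A ≤ Subgroup.normalizer (L : Set G)) : ⁅L, A⁆ ≤ L := by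
  rw [Subgroup.commutator_le]
  intro l hl a ha
  have h1 : a * l⁻¹ * a⁻¹ ∈ L := (Subgroup.mem_normalizer_iff.mp (hA ha) l⁻¹).mp (L.inv_mem hl)
  have h2 : ⁅l, a⁆ = l * (a * l⁻¹ * a⁻¹) := by
    simp only [commutatorElement_def]; group
  rw [h2]
  exact L.mul_mem hl h1

/-- For a component `L` and a subgroup `A` normalizing it: `⁅L, A⁆ = L` or `⁅L, A⁆ = 1`. -/
theorem commutator_eq_self_or_eq_bot_of_le_normalizer {L A : Subgroup G} (hL : IsComponent L)
    (hA : A ≤ Subgroup.normalizer (L : Set G)) : ⁅L, A⁆ = L ∨ ⁅L, A⁆ = ⊥ := by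
  have hle : ⁅L, A⁆ ≤ L := commutator_le_of_le_normalizer hA
  have hn : ((⁅L, A⁆ : Subgroup G).subgroupOf L).Normal :=
    (Subgroup.normal_subgroupOf_iff_le_normalizer hle).mpr (le_normalizer_commutator_left L A)
  rcases Cfsg.Agent.Lib.Helper22.quasisimple_normal_le_center_or_eq_top hL.2
    ((⁅L, A⁆ : Subgroup G).subgroupOf L) with h | h
  · right
    have hperf : ⁅L, L⁆ = L := Cfsg.Agent.Lib.Helper22.component_commutator_self hL
    apply Cfsg.Agent.Lib.Helper21.commutator_eq_bot_of_perfect hperf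
    rw [Subgroup.commutator_comm A L, Subgroup.commutator_eq_bot_iff_le_centralizer]
    intro y hy
    have hy' : (⟨y, hle hy⟩ : L) ∈ (⁅L, A⁆ : Subgroup G).subgroupOf L := hy
    have hc := h hy'
    rw [Subgroup.mem_center_iff] at hc
    rw [Subgroup.mem_centralizer_iff]
    intro l hl
    have := congrArg Subtype.val (hc ⟨l, hl⟩)
    simpa using this
  · left
    apply le_antisymm hle
    intro l hl
    have : (⟨l, hl⟩ : L) ∈ (⁅L, A⁆ : Subgroup G).subgroupOf L := by rw [h]; exact Subgroup.mem_top _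
    exact this

/-- In a group with `O_{p'}(G) = 1`, a component has a `p`-element which is not central in it. -/
theorem component_false_of_pElements_central {p : ℕ} [Fact p.Prime] [Finite G]
    (hG : pPrimeCore p G = ⊥) {L : Subgroup G} (hL : IsComponent L)
    (h : ∀ l ∈ L, ∀ k : ℕ, l ^ p ^ k = 1 → l ∈ Subgroup.centralizer (L : Set G)) : False := by
  have : Group.IsPerfect L := hL.2.1
  obtain ⟨P⟩ : Nonempty (Sylow p L) := inferInstance
  have hPc : (P : Subgroup L) ≤ Subgroup.center L := by
    intro y hy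
    obtain ⟨k, hk⟩ := P.isPGroup' ⟨y, hy⟩
    have hk' : (y : G) ^ p ^ k = 1 := by
      have := congrArg Subtype.val (congrArg Subtype.val hk)
      simpa using this
    have hyc := h _ y.2 k hk'
    rw [Subgroup.mem_center_iff]
    intro z
    rw [Subgroup.mem_centralizer_iff] at hyc
    exact Subtype.ext (hyc _ z.2)
  have hcop := card_coprime_of_isPerfect_of_sylow_le_center P hPc
  have hle := Cfsg.Agent.Lib.Helper22.le_pPrimeCore_of_isSubnormal_of_coprime p hL.1 hcop
  rw [hG, le_bot_iff] at hle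
  exact Cfsg.Agent.Lib.Helper22.component_ne_bot hL hle

open Cfsg.Agent.Lib.Helper33 Cfsg.Agent.Lib.Helper22 in
/-- **Diagonal argument.** Let `O_{p'}(G) = 1`, `x^p = 1`, and let `L` be a component of `G` not
normalized by `x`. If `W` is a `p'`-subgroup centralizing `x`, normalized by `C_G(x)` and normalizing
`L`, then `W` centralizes `L`. -/
theorem commutator_eq_bot_of_not_mem_normalizer {p : ℕ} [Fact p.Prime] [Finite G]
    (hG : pPrimeCore p G = ⊥) {x : G} (hx : x ^ p = 1) {L : Subgroup G} (hL : IsComponent L)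
    (hxL : x ∉ Subgroup.normalizer (L : Set G)) {W : Subgroup G} (hWc : (Nat.card W).Coprime p)
    (hWx : ∀ w ∈ W, Commute w x)
    (hxW : ∀ g : G, Commute g x → g ∈ Subgroup.normalizer (W : Set G))
    (hWL : W ≤ Subgroup.normalizer (L : Set G)) : ⁅L, W⁆ = ⊥ := by
  have hp : p.Prime := Fact.out
  rcases commutator_eq_self_or_eq_bot_of_le_normalizer hL hWL with hLW | hLW
  swap
  · exact hLW
  exfalso
  -- the powers `x^j`, `0 < j < p`, do not normalize `L`
  have hord : orderOf x = p := by
    rcases (Nat.dvd_prime hp).mp (orderOf_dvd_of_pow_eq_one hx) with h1 | h1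
    · exfalso
      rw [orderOf_eq_one_iff] at h1
      rw [h1] at hxL
      exact hxL (Subgroup.one_mem _)
    · exact h1
  have hpow : ∀ j : ℕ, 0 < j → j < p → x ^ j ∉ Subgroup.normalizer (L : Set G) := by
    intro j hj0 hjp hmem
    have hcop : j.Coprime (orderOf x) := by
      rw [hord]
      exact ((Nat.Prime.coprime_iff_not_dvd hp).mpr (Nat.not_dvd_of_pos_of_lt hj0 hjp)).symm
    obtain ⟨m, hm⟩ := exists_pow_eq_self_of_coprime hcop
    apply hxL
    rw [← hm]
    exact Subgroup.pow_mem _ hmem m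
  -- distinct conjugates commute
  have hcomm : ∀ j < p, ∀ i < j, ∀ l ∈ L, ∀ l' ∈ L,
      Commute (x ^ j * l * (x ^ j)⁻¹) (x ^ i * l' * (x ^ i)⁻¹) := by
    intro j hj i hi l hl l' hl'
    have hne : cj (x ^ j) L ≠ cj (x ^ i) L := by
      intro heq
      have h1 : x ^ j = x ^ i * x ^ (j - i) := by rw [← pow_add]; congr 1; omega
      rw [h1, cj_mul] at heq
      have h2 := cj_injective _ heq
      exact hpow (j - i) (by omega) (by omega) (mem_normalizer_iff_cj_eq.mpr h2)
    have h3 := component_commutator_eq_bot_of_ne (component_conj hL (x ^ j))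
      (component_conj hL (x ^ i)) hne
    rw [Subgroup.commutator_eq_bot_iff_le_centralizer] at h3
    have h4 := h3 (conj_mem_cj (g := x ^ j) hl)
    rw [Subgroup.mem_centralizer_iff] at h4
    exact (h4 _ (conj_mem_cj (g := x ^ i) hl')).symm
  -- multiplicativity of the norm product on `L`
  have hmul : ∀ l ∈ L, ∀ l' ∈ L, nprod x p (l * l') = nprod x p l * nprod x p l' := by
    intro l hl l' hl'
    exact nprod_mul fun j hj i hi => hcomm j hj i hi l hl l' hl'
  have hinv : ∀ l ∈ L, nprod x p l⁻¹ = (nprod x p l)⁻¹ := by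
    intro l hl
    have := hmul l hl l⁻¹ (L.inv_mem hl)
    rw [mul_inv_cancel, nprod_one_right] at this
    exact eq_inv_of_mul_eq_one_right this.symm
  have hpowm : ∀ l ∈ L, ∀ n : ℕ, nprod x p (l ^ n) = nprod x p l ^ n := by
    intro l hl n
    induction n with
    | zero => simp [nprod_one_right]
    | succ n ih => rw [pow_succ, hmul _ (L.pow_mem hl n) _ hl, ih, pow_succ]
  -- `nprod x p l = l * m` with `m` centralizing `L`
  obtain ⟨q, hq⟩ : ∃ q, p = q + 1 := ⟨p - 1, by have := hp.pos; omega⟩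
  have hdec : ∀ l : G, nprod x p l = l * (x * nprod x q l * x⁻¹) := by
    intro l; rw [hq]; exact nprod_succ' x l q
  have hmc : ∀ l ∈ L, ∀ l' ∈ L, Commute l' (x * nprod x q l * x⁻¹) := by
    intro l hl l' hl'
    have h1 : Commute (x⁻¹ * l' * x) (nprod x q l) := by
      apply commute_nprod
      intro i hi
      have h2 := hcomm (i + 1) (by omega) 0 (Nat.succ_pos i) l hl l' hl'
      simp only [pow_zero, one_mul, inv_one, mul_one] at h2
      have h3 : x ^ i * l * (x ^ i)⁻¹ = x⁻¹ * (x ^ (i + 1) * l * (x ^ (i + 1))⁻¹) * x := by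
        rw [pow_succ']; group
      rw [h3]
      show x⁻¹ * l' * x * (x⁻¹ * (x ^ (i + 1) * l * (x ^ (i + 1))⁻¹) * x) =
        x⁻¹ * (x ^ (i + 1) * l * (x ^ (i + 1))⁻¹) * x * (x⁻¹ * l' * x)
      have h4 := h2.eq
      calc x⁻¹ * l' * x * (x⁻¹ * (x ^ (i + 1) * l * (x ^ (i + 1))⁻¹) * x)
          = x⁻¹ * (l' * (x ^ (i + 1) * l * (x ^ (i + 1))⁻¹)) * x := by group
        _ = x⁻¹ * ((x ^ (i + 1) * l * (x ^ (i + 1))⁻¹) * l') * x := by rw [h4]
        _ = x⁻¹ * (x ^ (i + 1) * l * (x ^ (i + 1))⁻¹) * x * (x⁻¹ * l' * x) := by group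
    show l' * (x * nprod x q l * x⁻¹) = x * nprod x q l * x⁻¹ * l'
    have h5 := h1.eq
    calc l' * (x * nprod x q l * x⁻¹) = x * ((x⁻¹ * l' * x) * nprod x q l) * x⁻¹ := by group
      _ = x * (nprod x q l * (x⁻¹ * l' * x)) * x⁻¹ := by rw [h5]
      _ = x * nprod x q l * x⁻¹ * l' := by group
  -- the norm product commutes with `x`
  have hcx : ∀ l ∈ L, Commute (nprod x p l) x := by
    intro l hl
    have h1 : nprod x (p + 1) l = l * (x * nprod x p l * x⁻¹) := nprod_succ' x l p
    have h2 : nprod x (p + 1) l = nprod x p l * l := by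
      rw [nprod_succ, hx]; simp
    have h3 : nprod x p l * l = l * nprod x p l := by
      rw [hdec l]
      have := (hmc l hl l hl).eq
      calc l * (x * nprod x q l * x⁻¹) * l = l * ((x * nprod x q l * x⁻¹) * l) := by group
        _ = l * (l * (x * nprod x q l * x⁻¹)) := by rw [this]
    have h4 : x * nprod x p l * x⁻¹ = nprod x p l := by
      have : l * (x * nprod x p l * x⁻¹) = l * nprod x p l := by rw [← h1, h2, h3]
      exact mul_left_cancel this
    show nprod x p l * x = x * nprod x p l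
    calc nprod x p l * x = (x * nprod x p l * x⁻¹) * x := by rw [h4]
      _ = x * nprod x p l := by group
  -- the subgroup of `L` whose norm products lie in `W`
  let S : Subgroup G :=
    { carrier := {l | l ∈ L ∧ nprod x p l ∈ W}
      mul_mem' := by
        rintro a b ⟨ha, ha'⟩ ⟨hb, hb'⟩
        exact ⟨L.mul_mem ha hb, by rw [hmul a ha b hb]; exact W.mul_mem ha' hb'⟩
      one_mem' := ⟨L.one_mem, by rw [nprod_one_right]; exact W.one_mem⟩
      inv_mem' := by
        rintro a ⟨ha, ha'⟩
        exact ⟨L.inv_mem ha, by rw [hinv a ha]; exact W.inv_mem ha'⟩ }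
  have hS : ⁅L, W⁆ ≤ S := by
    rw [Subgroup.commutator_le]
    intro l hl w hw
    have h1 : w * l⁻¹ * w⁻¹ ∈ L :=
      (Subgroup.mem_normalizer_iff.mp (hWL hw) l⁻¹).mp (L.inv_mem hl)
    have h2 : ⁅l, w⁆ = l * (w * l⁻¹ * w⁻¹) := by
      simp only [commutatorElement_def]; group
    refine ⟨by rw [h2]; exact L.mul_mem hl h1, ?_⟩
    rw [h2, hmul l hl _ h1, ← conj_nprod (hWx w hw), hinv l hl]
    have h3 : nprod x p l ∈ Subgroup.normalizer (W : Set G) := hxW _ (hcx l hl)
    have h4 : nprod x p l * w * (nprod x p l)⁻¹ ∈ W :=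
      (Subgroup.mem_normalizer_iff.mp h3 w).mp hw
    have h5 : nprod x p l * (w * (nprod x p l)⁻¹ * w⁻¹) =
        nprod x p l * w * (nprod x p l)⁻¹ * w⁻¹ := by group
    rw [h5]
    exact W.mul_mem h4 (W.inv_mem hw)
  rw [hLW] at hS
  -- so every `p`-element of `L` is central
  apply component_false_of_pElements_central hG hL
  intro l hl k hlk
  have h1 : nprod x p l ∈ W := (hS hl).2
  have h2 : nprod x p l ^ p ^ k = 1 := by
    rw [← hpowm l hl, hlk, nprod_one_right]
  have h3 := eq_one_of_mem_of_pow_prime_pow_eq_one hWc h1 h2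
  rw [hdec l] at h3
  have h4 : l = (x * nprod x q l * x⁻¹)⁻¹ := eq_inv_of_mul_eq_one_left h3
  rw [Subgroup.mem_centralizer_iff]
  intro l' hl'
  rw [h4]
  exact ((hmc l hl l' hl').inv_right).eq

end DiagonalComponent

section CentralizerPPrimeCore

variable {G : Type*} [Group G]

theorem centralizer_singleton_eq_centralizer_zpowers (x : G) :
    Subgroup.centralizer ({x} : Set G) = Subgroup.centralizer (Subgroup.zpowers x : Set G) := by
  ext y
  rw [Subgroup.mem_centralizer_iff, Subgroup.mem_centralizer_iff]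
  constructor
  · intro h z hz
    obtain ⟨n, rfl⟩ := Subgroup.mem_zpowers_iff.mp hz
    have h1 : Commute x y := h x rfl
    exact (h1.zpow_left n).eq
  · intro h z hz
    rw [Set.mem_singleton_iff] at hz
    subst hz
    exact h z (Subgroup.mem_zpowers z)

theorem commute_of_mem_centralizerPPrimeCore {p : ℕ} {x w : G}
    (hw : w ∈ centralizerPPrimeCore p x) : Commute w x := by
  have := centralizerPPrimeCore_le p x hw
  rw [Subgroup.mem_centralizer_iff] at this
  exact (this x rfl).symm

theorem centralizerPPrimeCore_le_normalizer_zpowers (p : ℕ) (x : G) :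
    centralizerPPrimeCore p x ≤ Subgroup.normalizer (Subgroup.zpowers x : Set G) := by
  refine (centralizerPPrimeCore_le p x).trans ?_
  rw [centralizer_singleton_eq_centralizer_zpowers]
  exact Subgroup.centralizer_le_normalizer _

theorem normalizer_centralizer_le_normalizer_centralizerPPrimeCore (p : ℕ) (x : G) :
    Subgroup.normalizer ((Subgroup.centralizer ({x} : Set G) : Subgroup G) : Set G) ≤
      Subgroup.normalizer ((centralizerPPrimeCore p x : Subgroup G) : Set G) :=
  normalizer_le_normalizer_map_subtype_of_characteristic _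

theorem normalizer_zpowers_le_normalizer_centralizerPPrimeCore (p : ℕ) (x : G) :
    Subgroup.normalizer (Subgroup.zpowers x : Set G) ≤
      Subgroup.normalizer ((centralizerPPrimeCore p x : Subgroup G) : Set G) := by
  refine le_trans ?_ (normalizer_centralizer_le_normalizer_centralizerPPrimeCore p x)
  rw [centralizer_singleton_eq_centralizer_zpowers]
  exact Cfsg.Agent.Lib.Helper49.normalizer_le_normalizer_centralizer _

theorem mem_normalizer_centralizerPPrimeCore_of_commute {p : ℕ} {x g : G} (hg : Commute g x) :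
    g ∈ Subgroup.normalizer ((centralizerPPrimeCore p x : Subgroup G) : Set G) := by
  apply normalizer_centralizer_le_normalizer_centralizerPPrimeCore p x
  apply Subgroup.le_normalizer
  rw [Subgroup.mem_centralizer_iff]
  intro z hz
  rw [Set.mem_singleton_iff] at hz
  subst hz
  exact hg.eq.symm

theorem isPGroup_zpowers_of_pow_eq_one {p : ℕ} [hp : Fact p.Prime] {x : G} (hx : x ^ p = 1) :
    IsPGroup p (Subgroup.zpowers x) := by
  rcases (Nat.dvd_prime hp.out).mp (orderOf_dvd_of_pow_eq_one hx) with h | h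
  · exact IsPGroup.of_card (n := 0) (by rw [Nat.card_zpowers, h, pow_zero])
  · exact IsPGroup.of_card (n := 1) (by rw [Nat.card_zpowers, h, pow_one])

/-- `O_{p'}(C_G(x))` normalizes every component of `G` when `O_{p'}(G) = 1` and `x^p = 1`. -/
theorem centralizerPPrimeCore_le_normalizer_component {p : ℕ} [Fact p.Prime] [Finite G]
    (hG : pPrimeCore p G = ⊥) {x : G} (hx : x ^ p = 1) {K : Subgroup G} (hK : IsComponent K) :
    centralizerPPrimeCore p x ≤ Subgroup.normalizer (K : Set G) :=
  le_normalizer_component_of_coprime_local hG (isPGroup_zpowers_of_pow_eq_one hx)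
    (centralizerPPrimeCore_le_normalizer_zpowers p x)
    (normalizer_zpowers_le_normalizer_centralizerPPrimeCore p x)
    (card_centralizerPPrimeCore_coprime p x) hK

/-- `O_{p'}(C_G(x))` centralizes `O_p(G)` when `x^p = 1`. -/
theorem centralizerPPrimeCore_le_centralizer_pCore {p : ℕ} [Fact p.Prime] [Finite G]
    {x : G} (hx : x ^ p = 1) :
    centralizerPPrimeCore p x ≤ Subgroup.centralizer (pCore p G : Set G) :=
  le_centralizer_pCore_of_coprime_local (isPGroup_zpowers_of_pow_eq_one hx)
    (centralizerPPrimeCore_le_normalizer_zpowers p x)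
    (normalizer_zpowers_le_normalizer_centralizerPPrimeCore p x)
    (card_centralizerPPrimeCore_coprime p x)

open Cfsg.Agent.Lib.Helper22 in
/-- If `x` centralizes the component `L` (and `O_{p'}(G) = 1`) then `O_{p'}(C_G(x))` centralizes
`L`. -/
theorem commutator_centralizerPPrimeCore_eq_bot_of_le_centralizer {p : ℕ} [Fact p.Prime]
    [Finite G] (hG : pPrimeCore p G = ⊥) {x : G} {L : Subgroup G} (hL : IsComponent L)
    (hLC : L ≤ Subgroup.centralizer ({x} : Set G)) : ⁅L, centralizerPPrimeCore p x⁆ = ⊥ := by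
  have hcomp := component_subgroupOf hL hLC
  have hn : (pPrimeCore p ↥(Subgroup.centralizer ({x} : Set G))).Normal :=
    Cfsg.Agent.Lib.Helper1.pPrimeCore_normal p
  rcases component_le_or_commutator_eq_bot hcomp hn.isSubnormal with h1 | h1
  · exfalso
    have hc1 : (Nat.card (L.subgroupOf (Subgroup.centralizer ({x} : Set G)))).Coprime p :=
      Nat.Coprime.coprime_dvd_left (Subgroup.card_dvd_of_le h1)
        (Cfsg.Agent.Lib.Helper22.pPrimeCore_card_coprime p)
    rw [Nat.card_congr (Subgroup.subgroupOfEquivOfLe hLC).toEquiv] at hc1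
    have hle := le_pPrimeCore_of_isSubnormal_of_coprime p hL.1 hc1
    rw [hG, le_bot_iff] at hle
    exact component_ne_bot hL hle
  · have := congrArg (Subgroup.map (Subgroup.centralizer ({x} : Set G)).subtype) h1
    rw [Subgroup.map_commutator, Subgroup.map_subgroupOf_eq_of_le hLC, Subgroup.map_bot] at this
    exact this

end CentralizerPPrimeCore

end Cfsg.Agent.Lib.Helper31
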