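/-
helper31 shared library: from balance of the automizers of the components to balance of a group
with `O_{p'}(G) = 1`.
All declarations live in `Cfsg.Agent.Lib.Helper31`.
-/
import Mathlib
import Cfsg.Prelude.Def_Local
import Cfsg.Prelude.Def_Balance
import Cfsg.Agent.Lib.Helper31.Diagonal
import Cfsg.Agent.Lib.Helper34.PComponent

set_option autoImplicit false

namespace Cfsg.Agent.Lib.Helper31

open Cfsg
open scoped commutatorElement

section BalanceLocal

variable {G : Type*} [Group G]

/-- Enlarging `R` to `R O_p(G)`: a `p'`-subgroup `W` of `N(R)` normalized by `N(R)` lies in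
`W₁ = O_{p'}(C_G(R O_p(G)))`, which is normalized by `N(R O_p(G))`. -/
theorem exists_enlarged_local {p : ℕ} [Fact p.Prime] [Finite G] {R W : Subgroup G}
    (hR : IsPGroup p R) (hWR : W ≤ Subgroup.normalizer (R : Set G))
    (hRW : Subgroup.normalizer (R : Set G) ≤ Subgroup.normalizer (W : Set G))
    (hW : (Nat.card W).Coprime p) :
    ∃ W₁ : Subgroup G, W ≤ W₁ ∧
      W₁ ≤ Subgroup.centralizer ((R ⊔ pCore p G : Subgroup G) : Set G) ∧
      Subgroup.normalizer ((R ⊔ pCore p G : Subgroup G) : Set G) ≤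
        Subgroup.normalizer (W₁ : Set G) ∧ (Nat.card W₁).Coprime p := by
  set R' : Subgroup G := R ⊔ pCore p G with hR'
  set C₁ : Subgroup G := Subgroup.centralizer (R' : Set G) with hC₁
  refine ⟨(pPrimeCore p ↥C₁).map C₁.subtype, ?_, Subgroup.map_subtype_le _, ?_, ?_⟩
  · have hWC : W ≤ C₁ := by
      rw [hC₁, Subgroup.le_centralizer_iff]
      refine sup_le ?_ ?_
      · intro r hr
        rw [Subgroup.mem_centralizer_iff]
        intro w hw
        exact (commute_of_coprime_local hR hWR hRW hW hw hr).eq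
      · rw [← Subgroup.le_centralizer_iff]
        exact le_centralizer_pCore_of_coprime_local hR hWR hRW hW
    have hC₁R : C₁ ≤ Subgroup.normalizer (R : Set G) := by
      refine le_trans ?_ (Subgroup.centralizer_le_normalizer _)
      exact Subgroup.centralizer_le (SetLike.coe_subset_coe.mpr le_sup_left)
    have hn : (W.subgroupOf C₁).Normal :=
      Subgroup.normal_subgroupOf_of_le_normalizer (hC₁R.trans hRW)
    have hcard : (Nat.card (W.subgroupOf C₁)).Coprime p := by
      rw [Nat.card_congr (Subgroup.subgroupOfEquivOfLe hWC).toEquiv]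
      exact hW
    have hle := Cfsg.Agent.Lib.Helper1.le_pPrimeCore hn hcard
    intro x hx
    exact ⟨⟨x, hWC hx⟩, hle hx, rfl⟩
  · refine le_trans ?_ (normalizer_le_normalizer_map_subtype_of_characteristic _)
    exact Cfsg.Agent.Lib.Helper49.normalizer_le_normalizer_centralizer R'
  · rw [Subgroup.card_map_of_injective (Subgroup.subtype_injective _)]
    exact Cfsg.Agent.Lib.Helper22.pPrimeCore_card_coprime p

open Cfsg.Agent.Lib.Helper22 in
/-- The centre of a component lies in `O_p(G)` when `O_{p'}(G) = 1`. -/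
theorem component_inf_centralizer_le_pCore {p : ℕ} [Fact p.Prime] [Finite G]
    (hG : pPrimeCore p G = ⊥) {L : Subgroup G} (hL : IsComponent L) :
    L ⊓ Subgroup.centralizer (L : Set G) ≤ pCore p G := by
  intro z hz
  have hz1 : z ∈ L := hz.1
  have hz2 : z ∈ Subgroup.centralizer (L : Set G) := hz.2
  rw [Subgroup.mem_centralizer_iff] at hz2
  have hzE : z ∈ layer G := component_le_layer hL hz1
  have hzC : z ∈ Subgroup.centralizer (layer G : Set G) := by
    have hcent : layer G ≤ Subgroup.centralizer ({z} : Set G) := by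
      apply sSup_le
      intro K hK
      by_cases hKL : K = L
      · rw [hKL]
        intro y hy
        rw [Subgroup.mem_centralizer_iff]
        intro t ht
        rw [Set.mem_singleton_iff] at ht
        rw [ht]
        exact (hz2 y hy).symm
      · have h1 := component_commutator_eq_bot_of_ne hK hL hKL
        rw [Subgroup.commutator_eq_bot_iff_le_centralizer] at h1
        intro y hy
        rw [Subgroup.mem_centralizer_iff]
        intro t ht
        rw [Set.mem_singleton_iff] at ht
        rw [ht]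
        have := h1 hy
        rw [Subgroup.mem_centralizer_iff] at this
        exact this z hz1
    rw [Subgroup.mem_centralizer_iff]
    intro y hy
    have := hcent hy
    rw [Subgroup.mem_centralizer_iff] at this
    exact (this z rfl).symm
  have := mem_fittingSubgroup_of_mem_layer_of_centralizes hzE hzC
  rwa [fittingSubgroup_eq_pCore_of_pPrimeCore_eq_bot p hG] at this

open Cfsg.Agent.Lib.Helper22 in
/-- A `p'`-subgroup centralizing `O_p(G)` and every component is trivial when `O_{p'}(G) = 1`. -/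
theorem eq_bot_of_centralizes_pCore_and_components {p : ℕ} [Fact p.Prime] [Finite G]
    (hG : pPrimeCore p G = ⊥) {W : Subgroup G} (hW : (Nat.card W).Coprime p)
    (hQ : W ≤ Subgroup.centralizer (pCore p G : Set G))
    (hE : ∀ K : Subgroup G, IsComponent K → ⁅K, W⁆ = ⊥) : W = ⊥ := by
  have hFQ : fittingSubgroup G = pCore p G := fittingSubgroup_eq_pCore_of_pPrimeCore_eq_bot p hG
  have hEW : layer G ≤ Subgroup.centralizer (W : Set G) := by
    apply sSup_le
    intro K hK
    rw [← Subgroup.commutator_eq_bot_iff_le_centralizer]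
    exact hE K hK
  have hWE : W ≤ Subgroup.centralizer (layer G : Set G) := Subgroup.le_centralizer_iff.mp hEW
  have hWF : W ≤ Subgroup.centralizer (generalizedFittingSubgroup G : Set G) := by
    rw [Subgroup.le_centralizer_iff]
    unfold generalizedFittingSubgroup
    refine sup_le hEW ?_
    rw [hFQ, ← Subgroup.le_centralizer_iff]
    exact hQ
  have hWFs : W ≤ generalizedFittingSubgroup G :=
    hWF.trans centralizer_generalizedFittingSubgroup_le
  have hWp : W ≤ pCore p G := by
    intro w hw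
    have hw1 := hWFs hw
    unfold generalizedFittingSubgroup at hw1
    have : (fittingSubgroup G).Normal := Cfsg.Agent.Lib.Helper29.fittingSubgroup_normal G
    obtain ⟨e, he, f, hf, rfl⟩ := Subgroup.mem_sup_of_normal_right.mp hw1
    -- `e = w f⁻¹` centralizes the layer
    have hEF := layer_commutator_fittingSubgroup (G := G)
    rw [Subgroup.commutator_eq_bot_iff_le_centralizer] at hEF
    have heC : e ∈ Subgroup.centralizer (layer G : Set G) := by
      have h1 : e * f ∈ Subgroup.centralizer (layer G : Set G) := hWE hw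
      have h2 : f ∈ Subgroup.centralizer (layer G : Set G) := by
        rw [Subgroup.mem_centralizer_iff]
        intro y hy
        have := hEF hy
        rw [Subgroup.mem_centralizer_iff] at this
        exact (this f hf).symm
      have h3 := Subgroup.mul_mem _ h1 (Subgroup.inv_mem _ h2)
      rwa [mul_inv_cancel_right] at h3
    have heF := mem_fittingSubgroup_of_mem_layer_of_centralizes he heC
    rw [← hFQ]
    exact Subgroup.mul_mem _ heF hf
  have hbot : pCore p G ⊓ W = ⊥ :=
    Cfsg.Agent.Lib.Helper97.inf_eq_bot_of_isPGroup_of_coprime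
      (Cfsg.Agent.Lib.Helper1.pCore_isPGroup p) hW
  rw [eq_bot_iff, ← hbot]
  exact le_inf hWp le_rfl

/-- **The automizer step.** Let `O_{p'}(G) = 1`, `x^p = 1`, and let `L` be a component normalized
but not centralized by `x`. If `H / C_H(L)` is balanced for `p` for every `H ≥ L` normalizing `L`,
then `O_{p'}(C_G(x))` centralizes `L`. -/
theorem commutator_centralizerPPrimeCore_eq_bot_of_balanced_quotient {p : ℕ} [Fact p.Prime]
    [Finite G] (hG : pPrimeCore p G = ⊥) {x : G} (hx : x ^ p = 1) {L : Subgroup G}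
    (hL : IsComponent L) (hxN : x ∈ Subgroup.normalizer (L : Set G))
    (hxC : x ∉ Subgroup.centralizer (L : Set G))
    (h : ∀ H : Subgroup G, L ≤ H → (L.subgroupOf H).Normal →
      ∀ [((Subgroup.centralizer (L : Set G)).subgroupOf H).Normal],
        IsBalancedFor p (↥H ⧸ (Subgroup.centralizer (L : Set G)).subgroupOf H)) :
    ⁅L, centralizerPPrimeCore p x⁆ = ⊥ := by
  have hp : p.Prime := Fact.out
  have hR : IsPGroup p (Subgroup.zpowers x) := isPGroup_zpowers_of_pow_eq_one hx
  have hQn : (pCore p G).Normal := Cfsg.Agent.Lib.Helper1.pCore_normal p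
  have hQ : IsPGroup p (pCore p G) := Cfsg.Agent.Lib.Helper1.pCore_isPGroup p
  obtain ⟨W₁, hWW₁, hW₁C, hNW₁, hW₁c⟩ := exists_enlarged_local hR
    (centralizerPPrimeCore_le_normalizer_zpowers p x)
    (normalizer_zpowers_le_normalizer_centralizerPPrimeCore p x)
    (card_centralizerPPrimeCore_coprime p x)
  set R' : Subgroup G := Subgroup.zpowers x ⊔ pCore p G with hR'
  have hR'p : IsPGroup p R' := IsPGroup.to_sup_of_normal_right hR hQ
  have hxR' : x ∈ R' := Subgroup.mem_sup_left (Subgroup.mem_zpowers x)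
  have hW₁x : ∀ w ∈ W₁, Commute w x := by
    intro w hw
    have := hW₁C hw
    rw [Subgroup.mem_centralizer_iff] at this
    exact (this x hxR').symm
  have hW₁L : W₁ ≤ Subgroup.normalizer (L : Set G) :=
    le_normalizer_component_of_coprime_local hG hR'p
      (hW₁C.trans (Subgroup.centralizer_le_normalizer _)) hNW₁ hW₁c hL
  -- the subgroup `A = W₁ ⟨x⟩` and `H = L A`
  set A : Subgroup G := W₁ ⊔ Subgroup.zpowers x with hA
  have hAL : A ≤ Subgroup.normalizer (L : Set G) :=
    sup_le hW₁L (Subgroup.zpowers_le.mpr hxN)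
  have hAx : ∀ a ∈ A, Commute a x := by
    have : A ≤ Subgroup.centralizer ({x} : Set G) := by
      refine sup_le ?_ ?_
      · intro w hw
        rw [Subgroup.mem_centralizer_iff]
        intro t ht
        rw [Set.mem_singleton_iff] at ht
        rw [ht]
        exact (hW₁x w hw).eq.symm
      · rw [Subgroup.zpowers_le, Subgroup.mem_centralizer_iff]
        intro t ht
        rw [Set.mem_singleton_iff] at ht
        rw [ht]
    intro a ha
    have := this ha
    rw [Subgroup.mem_centralizer_iff] at this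
    exact (this x rfl).symm
  have hAW₁ : A ≤ Subgroup.normalizer (W₁ : Set G) :=
    sup_le Subgroup.le_normalizer (Subgroup.zpowers_le.mpr (hNW₁ (Subgroup.le_normalizer hxR')))
  set H : Subgroup G := L ⊔ A with hH
  have hLH : L ≤ H := le_sup_left
  have hHL : H ≤ Subgroup.normalizer (L : Set G) := sup_le Subgroup.le_normalizer hAL
  have hxH : x ∈ H := Subgroup.mem_sup_right (Subgroup.mem_sup_right (Subgroup.mem_zpowers x))
  have hW₁H : W₁ ≤ H := le_sup_left.trans le_sup_right
  have hLn : (L.subgroupOf H).Normal := Subgroup.normal_subgroupOf_of_le_normalizer hHL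
  have hCn : ((Subgroup.centralizer (L : Set G)).subgroupOf H).Normal :=
    Subgroup.normal_subgroupOf_of_le_normalizer
      (hHL.trans (Cfsg.Agent.Lib.Helper49.normalizer_le_normalizer_centralizer L))
  have hbal := @h H hLH hLn hCn
  set CH : Subgroup ↥H := (Subgroup.centralizer (L : Set G)).subgroupOf H with hCH
  set xt : ↥H ⧸ CH := QuotientGroup.mk' CH ⟨x, hxH⟩ with hxt
  have hxt1 : xt ≠ 1 := by
    intro h1
    rw [hxt, QuotientGroup.mk'_apply, QuotientGroup.eq_one_iff] at h1
    exact hxC h1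
  have hxtp : xt ^ p = 1 := by
    rw [hxt, ← map_pow]
    have : (⟨x, hxH⟩ : ↥H) ^ p = 1 := Subtype.ext (by simpa using hx)
    rw [this, map_one]
  have hord : orderOf xt = p := orderOf_eq_prime hxtp hxt1
  have hb := hbal xt hord
  -- the image of `W₁`
  set Wt : Subgroup (↥H ⧸ CH) := (W₁.subgroupOf H).map (QuotientGroup.mk' CH) with hWt
  have hWtc : (Nat.card Wt).Coprime p := by
    have h1 : Nat.card Wt ∣ Nat.card (W₁.subgroupOf H) := Subgroup.card_map_dvd _ _
    rw [Nat.card_congr (Subgroup.subgroupOfEquivOfLe hW₁H).toEquiv] at h1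
    exact Nat.Coprime.coprime_dvd_left h1 hW₁c
  have hWtx : Wt ≤ Subgroup.centralizer ({xt} : Set (↥H ⧸ CH)) := by
    rintro _ ⟨w, hw, rfl⟩
    rw [Subgroup.mem_centralizer_iff]
    intro t ht
    rw [Set.mem_singleton_iff] at ht
    rw [ht, hxt, ← map_mul, ← map_mul]
    congr 1
    apply Subtype.ext
    have hw' : (w : G) ∈ W₁ := hw
    simpa using (hW₁x _ hw').eq.symm
  -- `C(xt)` normalizes `Wt`
  have hnorm : Subgroup.centralizer ({xt} : Set (↥H ⧸ CH)) ≤
      Subgroup.normalizer (Wt : Set (↥H ⧸ CH)) := by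
    intro c hc
    obtain ⟨g, rfl⟩ := QuotientGroup.mk'_surjective CH c
    rw [Subgroup.mem_centralizer_iff] at hc
    have hc1 := hc xt rfl
    rw [hxt, ← map_mul, ← map_mul] at hc1
    have hc2 : (g * ⟨x, hxH⟩ * g⁻¹ * (⟨x, hxH⟩ : ↥H)⁻¹) ∈ CH := by
      rw [← QuotientGroup.eq_one_iff, ← QuotientGroup.mk'_apply, map_mul, map_mul, map_inv,
        map_inv, ← hc1, map_mul]
      group
    have hc3 : (g : G) * x * (g : G)⁻¹ * x⁻¹ ∈ Subgroup.centralizer (L : Set G) := by
      have : ((g * ⟨x, hxH⟩ * g⁻¹ * (⟨x, hxH⟩ : ↥H)⁻¹ : ↥H) : G) ∈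
          Subgroup.centralizer (L : Set G) := hc2
      simpa using this
    -- decompose `g = l * a`
    have hgH : (g : G) ∈ ((L ⊔ A : Subgroup G) : Set G) := g.2
    rw [Subgroup.coe_mul_of_right_le_normalizer_left L A hAL, Set.mem_mul] at hgH
    obtain ⟨l, hl, a, ha, hla⟩ := hgH
    have hax := (hAx a ha).eq
    have hz : l * x * l⁻¹ * x⁻¹ = (g : G) * x * (g : G)⁻¹ * x⁻¹ := by
      rw [← hla]
      calc l * x * l⁻¹ * x⁻¹ = l * (x * a) * a⁻¹ * l⁻¹ * x⁻¹ := by group
        _ = l * (a * x) * a⁻¹ * l⁻¹ * x⁻¹ := by rw [hax]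
        _ = l * a * x * (l * a)⁻¹ * x⁻¹ := by group
    have hzL : l * x * l⁻¹ * x⁻¹ ∈ L := by
      have h1 : x * l⁻¹ * x⁻¹ ∈ L := (Subgroup.mem_normalizer_iff.mp hxN l⁻¹).mp (L.inv_mem hl)
      have h2 : l * x * l⁻¹ * x⁻¹ = l * (x * l⁻¹ * x⁻¹) := by group
      rw [h2]
      exact L.mul_mem hl h1
    have hzQ : l * x * l⁻¹ * x⁻¹ ∈ pCore p G :=
      component_inf_centralizer_le_pCore hG hL ⟨hzL, by rw [hz]; exact hc3⟩
    -- `l` normalizes `R'`
    have hlR' : l ∈ Subgroup.normalizer (R' : Set G) := by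
      apply Cfsg.Agent.Lib.Helper34.mem_normalizer_of_map_conj_le
      rw [hR', Subgroup.map_sup]
      refine sup_le ?_ ?_
      · rw [MonoidHom.map_zpowers, Subgroup.zpowers_le]
        have h3 : (MulAut.conj l).toMonoidHom x = (l * x * l⁻¹ * x⁻¹) * x := by
          simp [MulAut.conj_apply]
        rw [h3]
        exact Subgroup.mul_mem _ (Subgroup.mem_sup_right hzQ) hxR'
      · rintro _ ⟨q, hq, rfl⟩
        apply Subgroup.mem_sup_right
        simpa [MulAut.conj_apply] using hQn.conj_mem q hq l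
    have hgW₁ : (g : G) ∈ Subgroup.normalizer (W₁ : Set G) := by
      rw [← hla]
      exact Subgroup.mul_mem _ (hNW₁ hlR') (hAW₁ ha)
    have hg' : g ∈ Subgroup.normalizer ((W₁.subgroupOf H : Subgroup ↥H) : Set ↥H) := by
      rw [Subgroup.mem_normalizer_iff]
      intro y
      rw [Subgroup.mem_subgroupOf, Subgroup.mem_subgroupOf]
      have := Subgroup.mem_normalizer_iff.mp hgW₁ (y : G)
      simpa using this
    exact Subgroup.le_normalizer_map _ ⟨g, hg', rfl⟩
  -- hence `Wt ≤ O_{p'}(C(xt)) ≤ O_{p'}(H / C_H(L))`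
  have hWtle : Wt ≤ centralizerPPrimeCore p xt := by
    have hn : (Wt.subgroupOf (Subgroup.centralizer ({xt} : Set (↥H ⧸ CH)))).Normal :=
      Subgroup.normal_subgroupOf_of_le_normalizer hnorm
    have hcard : (Nat.card (Wt.subgroupOf (Subgroup.centralizer ({xt} : Set (↥H ⧸ CH))))).Coprime
        p := by
      rw [Nat.card_congr (Subgroup.subgroupOfEquivOfLe hWtx).toEquiv]
      exact hWtc
    have hle := Cfsg.Agent.Lib.Helper1.le_pPrimeCore hn hcard
    intro y hy
    exact ⟨⟨y, hWtx hy⟩, hle hy, rfl⟩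
  have hWtN : Wt ≤ pPrimeCore p (↥H ⧸ CH) := hWtle.trans hb
  -- conclude by the dichotomy for `⁅L, W₁⁆`
  have hfin : ⁅L, W₁⁆ = ⊥ := by
    rcases commutator_eq_self_or_eq_bot_of_le_normalizer hL hW₁L with hLW | hLW
    swap
    · exact hLW
    exfalso
    set Nt : Subgroup (↥H ⧸ CH) := pPrimeCore p (↥H ⧸ CH) with hNt
    have hNtn : Nt.Normal := Cfsg.Agent.Lib.Helper1.pPrimeCore_normal p
    have hNtc : (Nat.card Nt).Coprime p := Cfsg.Agent.Lib.Helper22.pPrimeCore_card_coprime p
    set N : Subgroup G := (Nt.comap (QuotientGroup.mk' CH)).map H.subtype with hN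
    have hW₁N : W₁ ≤ N := by
      intro w hw
      refine ⟨⟨w, hW₁H hw⟩, ?_, rfl⟩
      show (QuotientGroup.mk' CH) ⟨w, hW₁H hw⟩ ∈ Nt
      exact hWtN ⟨⟨w, hW₁H hw⟩, hw, rfl⟩
    have hLN : L ≤ Subgroup.normalizer (N : Set G) := by
      have h1 : (Nt.comap (QuotientGroup.mk' CH)).Normal := hNtn.comap _
      rw [Subgroup.le_normalizer_iff]
      rintro l hl _ ⟨n, hn, rfl⟩
      refine ⟨⟨l, hLH hl⟩ * n * (⟨l, hLH hl⟩ : ↥H)⁻¹, h1.conj_mem n hn _, ?_⟩
      simp
    have hLleN : L ≤ N := by
      calc L = ⁅L, W₁⁆ := hLW.symm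
        _ ≤ ⁅L, N⁆ := Subgroup.commutator_mono le_rfl hW₁N
        _ = ⁅N, L⁆ := Subgroup.commutator_comm _ _
        _ ≤ N := commutator_le_of_le_normalizer hLN
    apply component_false_of_pElements_central hG hL
    intro l hl k hlk
    obtain ⟨n, hn', hnl⟩ := hLleN hl
    have hn : (QuotientGroup.mk' CH) n ∈ Nt := hn'
    have h2 : (QuotientGroup.mk' CH n) ^ p ^ k = 1 := by
      rw [← map_pow]
      have : n ^ p ^ k = 1 := by
        apply Subtype.ext
        have : ((n : ↥H) : G) = l := hnl
        simp [this, hlk]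
      rw [this, map_one]
    have h3 := eq_one_of_mem_of_pow_prime_pow_eq_one hNtc hn h2
    rw [QuotientGroup.mk'_apply, QuotientGroup.eq_one_iff] at h3
    have h4 : ((n : ↥H) : G) ∈ Subgroup.centralizer (L : Set G) := h3
    have : ((n : ↥H) : G) = l := hnl
    rwa [this] at h4
  rw [eq_bot_iff, ← hfin]
  exact Subgroup.commutator_mono le_rfl hWW₁

end BalanceLocal

end Cfsg.Agent.Lib.Helper31
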