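/-
helper31 shared library: `L_{2'}`-balance (S1301), part C: Sylow helper lemmas in the ambient
group and the key step: if `O(G) = 1`, `z` is an involution centralizing a Sylow 2-subgroup of
the component `K`, then every 2-component of `C_G(z)` lies in `K C_G(K)` (this uses
Glauberman's theorem on `C_{Aut K}(P)`, which rests on the `Z*`-theorem).
All declarations live in `Cfsg.Agent.Lib.Helper31`.
-/
import Mathlib
import Cfsg.Prelude.Def_Local
import Cfsg.Agent.Lib.Helper31.LTwoBalanceB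
import Cfsg.Agent.Lib.Helper9.PGroupLemmas

set_option autoImplicit false

namespace Cfsg.Agent.Lib.Helper31

open Cfsg Cfsg.Agent.Lib.Helper72 Cfsg.Agent.Lib.Helper33
open scoped commutatorElement

universe u

section LTwoBalanceC

variable {G : Type u} [Group G]

theorem mem_normalizer_inf {A B : Subgroup G} {g : G}
    (hA : g ∈ Subgroup.normalizer (A : Set G)) (hB : g ∈ Subgroup.normalizer (B : Set G)) :
    g ∈ Subgroup.normalizer ((A ⊓ B : Subgroup G) : Set G) := by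
  rw [Subgroup.mem_normalizer_iff] at hA hB ⊢
  intro y
  rw [Subgroup.mem_inf, Subgroup.mem_inf, ← hA y, ← hB y]

/-- Every `p`-subgroup of `H` lies in a Sylow `p`-subgroup of `H`. -/
theorem exists_sylIn_ge {p : ℕ} [Fact p.Prime] [Finite G] {R H : Subgroup G} (hR : IsPGroup p R)
    (hRH : R ≤ H) : ∃ P : Subgroup G, SylIn p P H ∧ R ≤ P := by
  have hR' : IsPGroup p (R.subgroupOf H) := hR.of_equiv (Subgroup.subgroupOfEquivOfLe hRH).symm
  obtain ⟨S, hS⟩ := hR'.exists_le_sylow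
  refine ⟨(S : Subgroup ↥H).map H.subtype, sylIn_of_sylow S, ?_⟩
  intro r hr
  exact ⟨⟨r, hRH hr⟩, hS (by rw [Subgroup.mem_subgroupOf]; exact hr), rfl⟩

/-- The intersection of a Sylow subgroup with a normal subgroup is a Sylow subgroup. -/
theorem sylIn_inf_of_le_normalizer {p : ℕ} [Fact p.Prime] [Finite G] {T N M : Subgroup G}
    (hT : SylIn p T N) (hM : M ≤ N) (hNM : N ≤ Subgroup.normalizer (M : Set G)) :
    SylIn p (T ⊓ M) M := by
  obtain R : Sylow p M := Classical.arbitrary _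
  have hR : SylIn p ((R : Subgroup M).map M.subtype) M := sylIn_of_sylow R
  obtain ⟨n, hn, hle⟩ := hT.exists_cj_le (hR.le.trans hM) hR.isPGroup
  have h1 : SylIn p (cj n ((R : Subgroup M).map M.subtype)) (cj n M) := hR.cj n
  rw [mem_normalizer_iff_cj_eq.mp (hNM hn)] at h1
  have h2 : cj n ((R : Subgroup M).map M.subtype) ≤ T ⊓ M := le_inf hle h1.le
  have h3 := h1.eq_of_le inf_le_right (hT.isPGroup.to_le inf_le_left) h2
  rw [h3]
  exact h1

/-- A nontrivial subgroup `Q` of a `p`-group `P` normalized by `P` contains an element of order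
`p` centralizing `P`. -/
theorem exists_orderOf_eq_prime_mem_of_le_normalizer {p : ℕ} [Fact p.Prime] [Finite G]
    {P Q : Subgroup G} (hP : IsPGroup p P) (hQP : Q ≤ P)
    (hn : P ≤ Subgroup.normalizer (Q : Set G)) (hQ : Q ≠ ⊥) :
    ∃ z ∈ Q, orderOf z = p ∧ z ∈ Subgroup.centralizer (P : Set G) := by
  have hQn : (Q.subgroupOf P).Normal := Subgroup.normal_subgroupOf_of_le_normalizer hn
  have hQ' : Q.subgroupOf P ≠ ⊥ := by
    intro h
    apply hQ
    rw [eq_bot_iff]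
    intro q hq
    have : (⟨q, hQP hq⟩ : ↥P) ∈ Q.subgroupOf P := by rw [Subgroup.mem_subgroupOf]; exact hq
    rw [h, Subgroup.mem_bot] at this
    rw [Subgroup.mem_bot]
    exact congrArg Subtype.val this
  obtain ⟨z₀, hz₀Q, hz₀1, hz₀c⟩ :=
    Cfsg.Agent.Lib.Helper9.exists_ne_one_mem_center_of_normal hP (Q.subgroupOf P) hQ'
  obtain ⟨Z, hZ⟩ : ∃ Z : Subgroup ↥P, Z = Q.subgroupOf P ⊓ Subgroup.center ↥P := ⟨_, rfl⟩
  have hZnt : Nontrivial ↥Z := by
    rw [Subgroup.nontrivial_iff_ne_bot]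
    intro h
    have : z₀ ∈ Z := by rw [hZ]; exact ⟨hz₀Q, hz₀c⟩
    rw [h, Subgroup.mem_bot] at this
    exact hz₀1 this
  have hZp : IsPGroup p ↥Z := hP.to_subgroup Z
  have hdvd : p ∣ Nat.card ↥Z := by
    rcases hZp.card_eq_or_dvd with h | h
    · exfalso
      have := (Nat.card_eq_one_iff_unique.mp h).1
      exact not_subsingleton _ this
    · exact h
  obtain ⟨z, hz⟩ := exists_prime_orderOf_dvd_card' p hdvd
  have hzZ : (z : ↥P) ∈ Q.subgroupOf P ⊓ Subgroup.center ↥P := by rw [← hZ]; exact z.2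
  refine ⟨((z : ↥P) : G), ?_, ?_, ?_⟩
  · exact Subgroup.mem_subgroupOf.mp hzZ.1
  · rw [Subgroup.orderOf_coe, Subgroup.orderOf_coe, hz]
  · rw [Subgroup.mem_centralizer_iff]
    intro r hr
    have := Subgroup.mem_center_iff.mp hzZ.2 ⟨r, hr⟩
    exact congrArg Subtype.val this

theorem mem_centralizer_singleton_of_commute {z g : G} (h : g * z = z * g) :
    g ∈ Subgroup.centralizer ({z} : Set G) := by
  rw [Subgroup.mem_centralizer_iff]
  intro y hy
  rw [Set.mem_singleton_iff] at hy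
  subst hy
  exact h.symm

theorem commute_of_mem_centralizer_singleton {z g : G}
    (h : g ∈ Subgroup.centralizer ({z} : Set G)) : g * z = z * g := by
  rw [Subgroup.mem_centralizer_iff] at h
  exact (h z rfl).symm

open Cfsg.Agent.Lib.Helper29 Cfsg.Agent.Lib.Helper34 in
/-- **Key step of `L_{2'}`-balance.** Let `O(G) = 1`, `K` a component of `G`, `P` a Sylow
2-subgroup of `K` and `z` an involution centralizing `P`. Then every 2-component of `C_G(z)`
lies in `K C_G(K)`. -/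
theorem PCompIn.le_sup_centralizer_of_sylow_le_centralizer (hZ : ZStarStatement.{u}) [Finite G]
    (hG : pPrimeCore 2 G = ⊥) {z : G} (hz : orderOf z = 2) {K P J : Subgroup G}
    (hK : IsComponent K) (hP : SylIn 2 P K) (hzP : z ∈ Subgroup.centralizer (P : Set G))
    (hJ : PCompIn 2 J (Subgroup.centralizer ({z} : Set G))) :
    J ≤ K ⊔ Subgroup.centralizer (K : Set G) := by
  have : Fact (Nat.Prime 2) := ⟨Nat.prime_two⟩
  obtain ⟨G₁, hG₁⟩ : ∃ G₁ : Subgroup G, G₁ = Subgroup.centralizer ({z} : Set G) := ⟨_, rfl⟩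
  rw [← hG₁] at hJ
  have hz2 : z ^ 2 = 1 := by rw [← hz]; exact pow_orderOf_eq_one z
  have hR : IsPGroup 2 (Subgroup.zpowers z) := isPGroup_zpowers_of_pow_eq_one hz2
  have hJG₁ : J ≤ G₁ := hJ.le
  -- `J` normalizes `K`
  have hJK : J ≤ Subgroup.normalizer (K : Set G) := by
    have h1 : PCompIn 2 J (Subgroup.normalizer ((Subgroup.zpowers z : Subgroup G) : Set G)) := by
      rw [hG₁] at hJ
      exact hJ.normalizer_zpowers
    exact h1.le_normalizer_component hG hR hK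
  obtain ⟨D, hD⟩ : ∃ D : Subgroup G, D = K ⊓ G₁ := ⟨_, rfl⟩
  have hDsn : RelSN D G₁ := by
    rw [hD]; exact (relSN_top_of_isSubnormal hK.1).inf G₁ le_top
  rcases hJ.le_or_commutator_le hDsn with h | h
  · exact (h.trans (by rw [hD]; exact inf_le_left)).trans le_sup_left
  -- the case `[J, C_K(z)] ≤ O(C_G(z))`
  have hPG₁ : P ≤ G₁ := by
    intro v hv
    rw [hG₁]
    apply mem_centralizer_singleton_of_commute
    exact (Subgroup.mem_centralizer_iff.mp hzP) v hv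
  have hPD : P ≤ D := by rw [hD]; exact le_inf hP.le hPG₁
  obtain ⟨N₀, hN₀⟩ : ∃ N₀ : Subgroup G, N₀ = OIn 2 G₁ ⊓ K := ⟨_, rfl⟩
  have hN₀c : (Nat.card N₀).Coprime 2 := by
    rw [hN₀]
    exact Nat.Coprime.coprime_dvd_left (Subgroup.card_dvd_of_le inf_le_left) (card_OIn_coprime 2 G₁)
  have hG₁N₀ : G₁ ⊓ Subgroup.normalizer (K : Set G) ≤ Subgroup.normalizer (N₀ : Set G) := by
    intro g hg
    rw [hN₀]
    exact mem_normalizer_inf (le_normalizer_OIn 2 G₁ hg.1) hg.2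
  have hPN₀ : P ≤ Subgroup.normalizer (N₀ : Set G) :=
    (le_inf hPG₁ (hP.le.trans Subgroup.le_normalizer)).trans hG₁N₀
  have hJN₀ : J ≤ Subgroup.normalizer (N₀ : Set G) := (le_inf hJG₁ hJK).trans hG₁N₀
  have hcomm : ∀ j ∈ J, ∀ v ∈ P, j * v * j⁻¹ * v⁻¹ ∈ N₀ := by
    intro j hj v hv
    rw [hN₀]
    refine Subgroup.mem_inf.mpr ⟨?_, ?_⟩
    · exact h (Subgroup.commutator_mem_commutator hj (hPD hv))
    · have h1 : j * v * j⁻¹ ∈ K := (Subgroup.mem_normalizer_iff.mp (hJK hj) v).mp (hP.le hv)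
      exact K.mul_mem h1 (K.inv_mem (hP.le hv))
  obtain ⟨N, hN⟩ : ∃ N : Subgroup G, N = Subgroup.normalizer (K : Set G) := ⟨_, rfl⟩
  have hKN : K ≤ N := by rw [hN]; exact Subgroup.le_normalizer
  obtain ⟨CP, hCP⟩ : ∃ CP : Subgroup G, CP = N ⊓ Subgroup.centralizer (P : Set G) := ⟨_, rfl⟩
  have hCPN : CP ≤ Subgroup.normalizer (K : Set G) := by rw [hCP, hN]; exact inf_le_left
  -- Frattini: `J ⊆ K C_N(P)`
  have hdec : ∀ j ∈ J, ∃ k ∈ K, ∃ c ∈ CP, j = k * c := by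
    intro j hj
    obtain ⟨n, hn, hc⟩ := exists_mul_mem_centralizer_of_le_normalizer hP.isPGroup hN₀c hPN₀
      (hJN₀ hj) (hcomm j hj)
    have hnK : n ∈ K := by rw [hN₀] at hn; exact hn.2
    refine ⟨n⁻¹, K.inv_mem hnK, n * j, ?_, by group⟩
    rw [hCP]
    refine Subgroup.mem_inf.mpr ⟨?_, hc⟩
    rw [hN]
    exact Subgroup.mul_mem _ (Subgroup.le_normalizer hnK) (hJK hj)
  -- perfectness: `J ≤ K [C_N(P), C_N(P)]`
  have hperf : ⁅J, J⁆ = J := hJ.2.commutator_self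
  have hJM : J ≤ K ⊔ ⁅CP, CP⁆ := by
    rw [← hperf, Subgroup.commutator_le]
    intro a ha b hb
    obtain ⟨k₁, hk₁, c₁, hc₁, rfl⟩ := hdec a ha
    obtain ⟨k₂, hk₂, c₂, hc₂, rfl⟩ := hdec b hb
    have hnorm : ∀ g ∈ CP, ∀ k ∈ K, g * k * g⁻¹ ∈ K := fun g hg k hk =>
      (Subgroup.mem_normalizer_iff.mp (hCPN hg) k).mp hk
    have hd : c₁ * c₂ * c₁⁻¹ ∈ CP := CP.mul_mem (CP.mul_mem hc₁ hc₂) (CP.inv_mem hc₁)
    have he : ⁅c₁, c₂⁆ ∈ ⁅CP, CP⁆ := Subgroup.commutator_mem_commutator hc₁ hc₂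
    have he' : ⁅c₁, c₂⁆ ∈ CP := Subgroup.commutator_le_self _ he
    have key : ⁅k₁ * c₁, k₂ * c₂⁆ =
        k₁ * (c₁ * k₂ * c₁⁻¹) * ((c₁ * c₂ * c₁⁻¹) * k₁⁻¹ * (c₁ * c₂ * c₁⁻¹)⁻¹) *
          (⁅c₁, c₂⁆ * k₂⁻¹ * ⁅c₁, c₂⁆⁻¹) * ⁅c₁, c₂⁆ := by
      simp only [commutatorElement_def]
      group
    rw [key]
    refine Subgroup.mul_mem _ (Subgroup.mem_sup_left ?_) (Subgroup.mem_sup_right he)
    exact K.mul_mem (K.mul_mem (K.mul_mem hk₁ (hnorm c₁ hc₁ k₂ hk₂))
      (hnorm _ hd _ (K.inv_mem hk₁))) (hnorm _ he' _ (K.inv_mem hk₂))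
  -- 2-elements of `J`
  have hOK : OIn 2 K = ⊥ := OIn_eq_bot_of_relSN_of_pPrimeCore_eq_bot hK.1 hG
  obtain ⟨e, he1, he2⟩ := exists_twoPart_exponent (G := G)
  have hCCN : ⁅CP, CP⁆ ≤ Subgroup.normalizer (K : Set G) :=
    (Subgroup.commutator_le_self CP).trans hCPN
  rw [← hJ.2.opp_eq]
  unfold opp
  rw [Subgroup.closure_le]
  rintro j ⟨hj, hj2⟩
  have hjM : j ∈ ((K ⊔ ⁅CP, CP⁆ : Subgroup G) : Set G) := hJM hj
  rw [Subgroup.coe_mul_of_right_le_normalizer_left K ⁅CP, CP⁆ hCCN] at hjM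
  obtain ⟨k, hk, τ, hτ, hkτ⟩ := hjM
  obtain ⟨k', hk', hpow⟩ := exists_mul_pow_eq (K := K) (k := k) (c := τ) hk (hCCN hτ) e
  have hpow' : j = k' * τ ^ e := by
    have : k * τ = j := hkτ
    rw [this, he1 j hj2] at hpow
    exact hpow
  have hτe : τ ^ e ∈ ⁅CP, CP⁆ := Subgroup.pow_mem _ hτ e
  have hτc : τ ^ e ∈ Subgroup.centralizer (K : Set G) := by
    rw [hCP] at hτe
    exact mem_centralizer_of_mem_commutator_inf_centralizer_sylow hZ hKN (by rw [hN]) hOK hP hτe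
      (he2 τ)
  show j ∈ K ⊔ Subgroup.centralizer (K : Set G)
  rw [hpow']
  exact Subgroup.mul_mem _ (Subgroup.mem_sup_left hk') (Subgroup.mem_sup_right hτc)

end LTwoBalanceC

end Cfsg.Agent.Lib.Helper31
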