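/-
helper31 shared library: `L_{2'}`-balance (S1301), part D: passage to quotients by `O(G)` and
by a central 2-subgroup, and the theorem for centralizers of involutions: every 2-component of
`C_G(x)`, `x` an involution, lies in `L_{2'}(G)`.  The `Z*`-theorem enters as the explicit
hypothesis `ZStarStatement`.
All declarations live in `Cfsg.Agent.Lib.Helper31`.
-/
import Mathlib
import Cfsg.Prelude.Def_Local
import Cfsg.Agent.Lib.Helper31.LTwoBalanceC
import Cfsg.Agent.Lib.Helper31.BpInd

set_option autoImplicit false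

namespace Cfsg.Agent.Lib.Helper31

open Cfsg Cfsg.Agent.Lib.Helper72 Cfsg.Agent.Lib.Helper33
open scoped commutatorElement

universe u

section LTwoBalanceD

variable {G : Type u} [Group G]

open Cfsg.Agent.Lib.Helper22 Cfsg.Agent.Lib.Helper34 in
/-- If the image of `J = O^{p'}(J)` in `G / O_{p'}(G)` lies in the `p`-layer, then `J` lies in the
`p`-layer of `G`. -/
theorem le_pLayer_of_map_le_pLayer_quotient [Finite G] {p : ℕ} [Fact p.Prime] {J : Subgroup G}
    (hopp : opp p J = J)
    (h : J.map (QuotientGroup.mk' (pPrimeCore p G)) ≤ pLayer p (G ⧸ pPrimeCore p G)) :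
    J ≤ pLayer p G := by
  have hO' : pPrimeCore p (G ⧸ pPrimeCore p G) = ⊥ :=
    Cfsg.Agent.Lib.Helper97.pPrimeCore_quotient_pPrimeCore p
  have hOc : (Nat.card (pPrimeCore p G)).Coprime p :=
    Cfsg.Agent.Lib.Helper97.card_pPrimeCore_coprime p
  have h1 := h.trans (pLayer_le_layer_of_pPrimeCore_eq_bot hO')
  rw [← pLayer_map_eq_layer] at h1
  have hsup : J ≤ pLayer p G ⊔ pPrimeCore p G := by
    intro x hx
    obtain ⟨y, hy, hyx⟩ := h1 (Subgroup.mem_map_of_mem _ hx)
    have h2 : y⁻¹ * x ∈ pPrimeCore p G := by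
      rw [← QuotientGroup.eq]
      exact hyx
    have : x = y * (y⁻¹ * x) := by group
    rw [this]
    exact Subgroup.mul_mem _ (Subgroup.mem_sup_left hy) (Subgroup.mem_sup_right h2)
  have hLn : (pLayer p G).Normal := Cfsg.Agent.Lib.Helper23.pLayer_normal p G
  rw [← hopp]
  calc opp p J ≤ opp p (pLayer p G ⊔ pPrimeCore p G) := opp_mono p hsup
    _ = opp p (pLayer p G) := opp_sup_eq_of_isSubnormal hLn.isSubnormal hOc
    _ ≤ pLayer p G := opp_le p _

open Cfsg.Agent.Lib.Helper22 in
/-- When `O_{p'}(G) = 1` the layer lies in the `p`-layer. -/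
theorem layer_le_pLayer_of_pPrimeCore_eq_bot [Finite G] {p : ℕ} [Fact p.Prime]
    (hG : pPrimeCore p G = ⊥) : layer G ≤ pLayer p G := by
  have hinj : Function.Injective (QuotientGroup.mk' (pPrimeCore p G)) := by
    rw [← MonoidHom.ker_eq_bot_iff, QuotientGroup.ker_mk', hG]
  have h1 := layer_map_le_of_surjective (QuotientGroup.mk'_surjective (pPrimeCore p G))
  rw [← pLayer_map_eq_layer (p := p)] at h1
  exact (Subgroup.map_le_map_iff_of_injective hinj).mp h1

open Cfsg.Agent.Lib.Helper22 in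
/-- If `Z` is central and the image of `J` in `G / Z` lies in the layer, then `J ≤ K C_G(K)` for
every component `K` of `G`. -/
theorem le_sup_centralizer_of_map_le_layer_quotient_center [Finite G] {Z : Subgroup G}
    [hZn : Z.Normal] (hZc : Z ≤ Subgroup.center G) {J K : Subgroup G} (hK : IsComponent K)
    (h : J.map (QuotientGroup.mk' Z) ≤ layer (G ⧸ Z)) :
    J ≤ K ⊔ Subgroup.centralizer (K : Set G) := by
  obtain ⟨π, hπ⟩ : ∃ π : G →* G ⧸ Z, π = QuotientGroup.mk' Z := ⟨_, rfl⟩
  rw [← hπ] at h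
  have hπs : Function.Surjective π := by rw [hπ]; exact QuotientGroup.mk'_surjective Z
  have hπk : π.ker = Z := by rw [hπ]; exact QuotientGroup.ker_mk' Z
  have hKperf : ⁅K, K⁆ = K := Cfsg.Agent.Lib.Helper21.qs_commutator_eq_self hK.2
  have hZK : Z ≤ Subgroup.centralizer (K : Set G) :=
    hZc.trans (Subgroup.center_le_centralizer _)
  rcases component_map_of_surjective hK hπs with hbot | hKb
  · exfalso
    rw [Subgroup.map_eq_bot_iff, hπk] at hbot
    have h1 : ⁅K, K⁆ = ⊥ := by
      rw [Subgroup.commutator_eq_bot_iff_le_centralizer]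
      exact hbot.trans hZK
    rw [hKperf] at h1
    exact component_ne_bot hK h1
  · have hle := layer_le_sup_centralizer hKb
    obtain ⟨H, hH⟩ : ∃ H : Subgroup G,
        H = (Subgroup.centralizer ((K.map π : Subgroup (G ⧸ Z)) : Set (G ⧸ Z))).comap π := ⟨_, rfl⟩
    have hHK : H ≤ Subgroup.centralizer (K : Set G) := by
      have h1 : ⁅H, K⁆ ≤ Z := by
        rw [Subgroup.commutator_le]
        intro a ha k hk
        rw [← hπk, MonoidHom.mem_ker, map_commutatorElement, commutatorElement_eq_one_iff_commute]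
        rw [hH, Subgroup.mem_comap, Subgroup.mem_centralizer_iff] at ha
        exact (ha (π k) (Subgroup.mem_map_of_mem _ hk)).symm
      have h2 : ⁅⁅H, K⁆, K⁆ = ⊥ := by
        rw [Subgroup.commutator_eq_bot_iff_le_centralizer]
        exact h1.trans hZK
      have h3 := Cfsg.Agent.Lib.Helper21.commutator_eq_bot_of_perfect hKperf h2
      rw [Subgroup.commutator_comm, Subgroup.commutator_eq_bot_iff_le_centralizer] at h3
      exact h3
    intro j hj
    have hj1 : π j ∈ ((K.map π ⊔ Subgroup.centralizer ((K.map π : Subgroup (G ⧸ Z)) : Set (G ⧸ Z)) :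
        Subgroup (G ⧸ Z)) : Set (G ⧸ Z)) := hle (h (Subgroup.mem_map_of_mem _ hj))
    rw [Subgroup.coe_mul_of_right_le_normalizer_left _ _ (Subgroup.centralizer_le_normalizer _)]
      at hj1
    obtain ⟨kb, ⟨k, hk, rfl⟩, cb, hcb, hkc⟩ := hj1
    have hc : k⁻¹ * j ∈ H := by
      rw [hH, Subgroup.mem_comap, map_mul, map_inv]
      have e : (π k)⁻¹ * π j = cb := by
        have : π k * cb = π j := hkc
        rw [← this]; group
      rw [e]
      exact hcb
    have e : j = k * (k⁻¹ * j) := by group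
    rw [e]
    exact Subgroup.mul_mem _ (Subgroup.mem_sup_left hk) (Subgroup.mem_sup_right (hHK hc))

open Cfsg.Agent.Lib.Helper29 Cfsg.Agent.Lib.Helper22 in
/-- Let `O(G) = 1`, `K` a component, `M` the join of the `R`-conjugates of `K`, and `z` an
involution of `M` centralizing a Sylow 2-subgroup of `M`. Then every 2-component of `C_G(z)`
lies in `E(G)`. -/
theorem PCompIn.le_layer_of_mem_orbSup (hZ : ZStarStatement.{u}) [Finite G]
    (hG : pPrimeCore 2 G = ⊥) {K R : Subgroup G} (hK : IsComponent K) {z : G}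
    (hz : orderOf z = 2) (hzM : z ∈ orbSup R K) {Pm : Subgroup G} (hPm : SylIn 2 Pm (orbSup R K))
    (hzP : z ∈ Subgroup.centralizer (Pm : Set G)) {I : Subgroup G}
    (hI : PCompIn 2 I (Subgroup.centralizer ({z} : Set G))) : I ≤ layer G := by
  have : Fact (Nat.Prime 2) := ⟨Nat.prime_two⟩
  have hz2 : z ^ 2 = 1 := by rw [← hz]; exact pow_orderOf_eq_one z
  have hRz : IsPGroup 2 (Subgroup.zpowers z) := isPGroup_zpowers_of_pow_eq_one hz2
  have hIn : PCompIn 2 I (Subgroup.normalizer ((Subgroup.zpowers z : Subgroup G) : Set G)) :=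
    hI.normalizer_zpowers
  have hML : orbSup R K ≤ layer G :=
    iSup_le fun r => component_le_layer (Cfsg.Agent.Lib.Helper21.isComponent_map_conj hK _)
  apply le_layer_of_perfect_of_le_sup_centralizer hG hI.2.commutator_self
  · intro K' hK'
    by_cases hex : ∃ r ∈ R, K' = cj r K
    · obtain ⟨r, hr, rfl⟩ := hex
      have hKM : cj r K ≤ orbSup R K := cj_le_orbSup hr
      have hMn : orbSup R K ≤ Subgroup.normalizer ((cj r K : Subgroup G) : Set G) :=
        hML.trans (layer_le_normalizer_component hK')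
      have hP' : SylIn 2 (Pm ⊓ cj r K) (cj r K) := sylIn_inf_of_le_normalizer hPm hKM hMn
      have hzP' : z ∈ Subgroup.centralizer ((Pm ⊓ cj r K : Subgroup G) : Set G) :=
        Subgroup.centralizer_le (show ((Pm ⊓ cj r K : Subgroup G) : Set G) ⊆ (Pm : Set G) from
          fun _ hx => hx.1) hzP
      exact hI.le_sup_centralizer_of_sylow_le_centralizer hZ hG hz hK' hP' hzP'
    · push Not at hex
      have hMc : orbSup R K ≤ Subgroup.centralizer (K' : Set G) := by
        refine iSup_le fun r => ?_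
        rw [← Subgroup.commutator_eq_bot_iff_le_centralizer]
        exact component_commutator_eq_bot_of_ne
          (Cfsg.Agent.Lib.Helper21.isComponent_map_conj hK _) hK' (fun h => hex _ r.2 h.symm)
      have hzK' : z ∈ Subgroup.centralizer (K' : Set G) := hMc hzM
      have hK'G₁ : K' ≤ Subgroup.centralizer ({z} : Set G) := by
        intro k hk
        apply mem_centralizer_singleton_of_commute
        exact (Subgroup.mem_centralizer_iff.mp hzK') k hk
      have hK'sn : RelSN K' (Subgroup.centralizer ({z} : Set G)) :=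
        (relSN_top_of_isSubnormal hK'.1).restrict hK'G₁ le_top
      rcases hI.le_or_commutator_le hK'sn with h | h
      · exact h.trans le_sup_left
      · have hIK' : I ≤ Subgroup.normalizer (K' : Set G) :=
          hIn.le_normalizer_component hG hRz hK'
        have h1 : ⁅I, K'⁆ ≤ OIn 2 K' := by
          rw [OIn_eq_inf_of_relSN 2 hK'sn]
          refine le_inf h ?_
          rw [Subgroup.commutator_comm]
          exact commutator_le_of_le_normalizer hIK'
        rw [OIn_eq_bot_of_relSN_of_pPrimeCore_eq_bot hK'.1 hG, le_bot_iff,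
          Subgroup.commutator_eq_bot_iff_le_centralizer] at h1
        exact h1.trans le_sup_right
  · exact hIn.le_centralizer_pCore hRz

open Cfsg.Agent.Lib.Helper29 Cfsg.Agent.Lib.Helper22 Cfsg.Agent.Lib.Helper34 in
/-- **Inductive step** for involution centralizers: `O(G) = 1`, no central involutions, the
theorem known for all proper subgroups; then a 2-component of `C_G(x)` lies in `E(G)` as soon as
`G` has a component. -/
theorem le_layer_of_pCompIn_centralizer_of_lt (hZ : ZStarStatement.{u}) [Finite G]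
    (hG : pPrimeCore 2 G = ⊥)
    (IH : ∀ H : Subgroup G, H ≠ ⊤ → ∀ x' : ↥H, orderOf x' = 2 → ∀ J' : Subgroup ↥H,
      PCompIn 2 J' (Subgroup.centralizer ({x'} : Set ↥H)) → J' ≤ pLayer 2 ↥H)
    (hnc : ∀ z ∈ Subgroup.center G, orderOf z ≠ 2)
    {x : G} (hx : orderOf x = 2) {J : Subgroup G}
    (hJ : PCompIn 2 J (Subgroup.centralizer ({x} : Set G)))
    {K : Subgroup G} (hK : IsComponent K) : J ≤ layer G := by
  have : Fact (Nat.Prime 2) := ⟨Nat.prime_two⟩
  obtain ⟨C, hC⟩ : ∃ C : Subgroup G, C = Subgroup.centralizer ({x} : Set G) := ⟨_, rfl⟩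
  rw [← hC] at hJ
  obtain ⟨R, hR⟩ : ∃ R : Subgroup G, R = Subgroup.zpowers x := ⟨_, rfl⟩
  have hx2 : x ^ 2 = 1 := by rw [← hx]; exact pow_orderOf_eq_one x
  have hRp : IsPGroup 2 R := by rw [hR]; exact isPGroup_zpowers_of_pow_eq_one hx2
  have hxR : x ∈ R := by rw [hR]; exact Subgroup.mem_zpowers x
  obtain ⟨M, hM⟩ : ∃ M : Subgroup G, M = orbSup R K := ⟨_, rfl⟩
  have hMsn : M.IsSubnormal := by
    rw [hM]; exact Cfsg.Agent.Lib.Helper21.orbSup_isSubnormal R hK
  have hML : M ≤ layer G := by
    rw [hM]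
    exact iSup_le fun r => component_le_layer (Cfsg.Agent.Lib.Helper21.isComponent_map_conj hK _)
  have hRM : R ≤ Subgroup.normalizer (M : Set G) := by rw [hM]; exact le_normalizer_orbSup R K
  have hKM : K ≤ M := by rw [hM]; exact le_orbSup R K
  obtain ⟨Y, hY⟩ : ∃ Y : Subgroup G, Y = M ⊓ C := ⟨_, rfl⟩
  have hYsn : RelSN Y C := by
    rw [hY]; exact (relSN_top_of_isSubnormal hMsn).inf C le_top
  rcases hJ.le_or_commutator_le hYsn with h | h
  · exact (h.trans (by rw [hY]; exact inf_le_left)).trans hML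
  -- a Sylow 2-subgroup of `M⟨x⟩` containing `x`
  have hHM : M ⊔ R ≤ Subgroup.normalizer (M : Set G) := sup_le Subgroup.le_normalizer hRM
  obtain ⟨Ps, hPs, hRPs⟩ := exists_sylIn_ge hRp (le_sup_right : R ≤ M ⊔ R)
  have hPm : SylIn 2 (Ps ⊓ M) M := sylIn_inf_of_le_normalizer hPs le_sup_left hHM
  have hPmne : Ps ⊓ M ≠ ⊥ := by
    intro hbot
    have h1 := hPm.not_dvd
    rw [hbot, Subgroup.relIndex_bot_left] at h1
    have hKc : (Nat.card K).Coprime 2 := by
      rw [Nat.coprime_comm, Nat.Prime.coprime_iff_not_dvd Nat.prime_two]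
      intro h2
      exact h1 (h2.trans (Subgroup.card_dvd_of_le hKM))
    have h2 := le_pPrimeCore_of_isSubnormal_of_coprime 2 hK.1 hKc
    rw [hG, le_bot_iff] at h2
    exact component_ne_bot hK h2
  have hPsn : Ps ≤ Subgroup.normalizer ((Ps ⊓ M : Subgroup G) : Set G) := fun g hg =>
    mem_normalizer_inf (Subgroup.le_normalizer hg) (hHM (hPs.le hg))
  obtain ⟨z, hzPm, hz, hzc⟩ :=
    exists_orderOf_eq_prime_mem_of_le_normalizer hPs.isPGroup inf_le_left hPsn hPmne
  have hzM : z ∈ M := hzPm.2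
  have hxz : x * z = z * x := (Subgroup.mem_centralizer_iff.mp hzc) x (hRPs hxR)
  have hzC : z ∈ C := by
    rw [hC]; exact mem_centralizer_singleton_of_commute hxz.symm
  have hzY : z ∈ Y := by rw [hY]; exact ⟨hzM, hzC⟩
  have hz2 : z ^ 2 = 1 := by rw [← hz]; exact pow_orderOf_eq_one z
  -- the covering 2-component of `C_G(x) ∩ C_G(z)`
  have hCO : C ≤ Subgroup.normalizer ((OIn 2 C : Subgroup G) : Set G) := le_normalizer_OIn 2 C
  have hcomm : ∀ j ∈ J, ∀ v ∈ Subgroup.zpowers z, j * v * j⁻¹ * v⁻¹ ∈ OIn 2 C := fun j hj =>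
    commutator_mem_of_mem_zpowers (hCO hzC) (h (Subgroup.commutator_mem_commutator hj hzY))
  have hVp : IsPGroup 2 (Subgroup.zpowers z) := isPGroup_zpowers_of_pow_eq_one hz2
  obtain ⟨J₁, hJ₁, hcov⟩ := hJ.exists_cover (V := Subgroup.zpowers z)
    ((Subgroup.zpowers_le).mpr hzC) hVp hcomm
  obtain ⟨G₁, hG₁⟩ : ∃ G₁ : Subgroup G, G₁ = Subgroup.centralizer ({z} : Set G) := ⟨_, rfl⟩
  have hG₁' : Subgroup.centralizer ((Subgroup.zpowers z : Subgroup G) : Set G) = G₁ := by
    rw [hG₁, centralizer_singleton_eq_centralizer_zpowers]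
  rw [hG₁'] at hJ₁
  have hG₁top : G₁ ≠ ⊤ := by
    intro htop
    apply hnc z _ hz
    rw [Subgroup.mem_center_iff]
    intro g
    have hg : g ∈ G₁ := by rw [htop]; trivial
    rw [hG₁] at hg
    exact commute_of_mem_centralizer_singleton hg
  have hxG₁ : x ∈ G₁ := by
    rw [hG₁]; exact mem_centralizer_singleton_of_commute hxz
  have hJ₁G₁ : J₁ ≤ G₁ := hJ₁.le.trans inf_le_right
  have hJ₁' : PCompIn 2 (J₁.subgroupOf G₁)
      (Subgroup.centralizer ({(⟨x, hxG₁⟩ : ↥G₁)} : Set ↥G₁)) := by
    have h1 := hJ₁.subgroupOf hJ₁G₁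
    rw [Subgroup.inf_subgroupOf_right, hC, subgroupOf_centralizer_singleton hxG₁] at h1
    exact h1
  have hx' : orderOf (⟨x, hxG₁⟩ : ↥G₁) = 2 := by
    rw [← hx]; exact Subgroup.orderOf_mk x hxG₁
  have hIH := IH G₁ hG₁top _ hx' _ hJ₁'
  -- every 2-component of `C_G(z)` lies in `E(G)`
  have hzc' : z ∈ Subgroup.centralizer ((Ps ⊓ M : Subgroup G) : Set G) :=
    Subgroup.centralizer_le (show ((Ps ⊓ M : Subgroup G) : Set G) ⊆ (Ps : Set G) from
      fun _ hy => hy.1) hzc
  have hL₁ : (pLayer 2 ↥G₁).map G₁.subtype ≤ layer G := by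
    unfold pLayer
    rw [sSup_eq_iSup, Subgroup.map_iSup]
    refine iSup_le fun I => ?_
    rw [Subgroup.map_iSup]
    refine iSup_le fun hI => ?_
    have hI₀ : IsPComponent 2 I := hI
    have hI' : PCompIn 2 (I.map G₁.subtype) G₁ := isPComponent_iff_pCompIn_map_subtype.mp hI₀
    have hI'' : PCompIn 2 (I.map G₁.subtype) (Subgroup.centralizer ({z} : Set G)) := by
      rw [← hG₁]; exact hI'
    rw [hM] at hzM hPm hzc'
    exact hI''.le_layer_of_mem_orbSup hZ hG hK hz hzM hPm hzc'
  have hJ₁L : J₁ ≤ layer G := by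
    have h1 := Subgroup.map_mono (f := G₁.subtype) hIH
    rw [Subgroup.map_subgroupOf_eq_of_le hJ₁G₁] at h1
    exact h1.trans hL₁
  -- conclusion
  obtain ⟨EC, hEC⟩ : ∃ EC : Subgroup G, EC = layer G ⊓ C := ⟨_, rfl⟩
  have hJ₁EC : J₁ ≤ EC := by rw [hEC]; exact le_inf hJ₁L (hJ₁.le.trans inf_le_left)
  have hOEC : OIn 2 C ≤ Subgroup.normalizer (EC : Set G) := by
    intro g hg
    rw [hEC]
    apply mem_normalizer_inf
    · have hn : (layer G).Normal := layer_normal G
      rw [Subgroup.normalizer_eq_top]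
      trivial
    · exact Subgroup.le_normalizer (OIn_le 2 C hg)
  obtain ⟨e, he1, he2⟩ := exists_twoPart_exponent (G := G)
  rw [← hJ.2.opp_eq]
  unfold opp
  rw [Subgroup.closure_le]
  rintro j ⟨hj, hj2⟩
  have hjm : j ∈ ((EC ⊔ OIn 2 C : Subgroup G) : Set G) :=
    (sup_le_sup_right hJ₁EC (OIn 2 C)) (hcov hj)
  rw [Subgroup.coe_mul_of_right_le_normalizer_left EC (OIn 2 C) hOEC] at hjm
  obtain ⟨a, ha, o, ho, hao⟩ := hjm
  obtain ⟨a', ha', hpow⟩ := exists_mul_pow_eq (K := EC) (k := a) (c := o) ha (hOEC ho) e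
  have ho1 : o ^ e = 1 := by
    obtain ⟨n, hn⟩ := he2 o
    have h1 : orderOf (o ^ e) ∣ Nat.card (OIn 2 C) :=
      Subgroup.orderOf_dvd_natCard _ (Subgroup.pow_mem _ ho e)
    rw [hn] at h1
    have h2 : (2 ^ n).Coprime (Nat.card (OIn 2 C)) :=
      Nat.Coprime.pow_left n (card_OIn_coprime 2 C).symm
    have h3 : 2 ^ n = 1 := Nat.Coprime.eq_one_of_dvd h2 h1
    rw [h3] at hn
    exact orderOf_eq_one_iff.mp hn
  have hja : j = a' := by
    have h1 : a * o = j := hao
    rw [h1, he1 j hj2, ho1, mul_one] at hpow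
    exact hpow
  show j ∈ layer G
  rw [hja]
  rw [hEC] at ha'
  exact ha'.1

theorem orderOf_map_eq_two {G' : Type*} [Group G'] (f : G →* G') {x : G} (hx : orderOf x = 2)
    (h1 : f x ≠ 1) : orderOf (f x) = 2 := by
  have : Fact (Nat.Prime 2) := ⟨Nat.prime_two⟩
  apply orderOf_eq_prime _ h1
  rw [← map_pow, ← hx, pow_orderOf_eq_one, map_one]

theorem card_quotient_lt_of_ne_bot [Finite G] (V : Subgroup G) [V.Normal] (hV : V ≠ ⊥) :
    Nat.card (G ⧸ V) < Nat.card G := by
  rw [Subgroup.card_eq_card_quotient_mul_card_subgroup V]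
  have h1 : 1 < Nat.card V := (Subgroup.one_lt_card_iff_ne_bot V).mpr hV
  have h2 : 0 < Nat.card (G ⧸ V) := Nat.card_pos
  nlinarith

theorem card_subgroup_lt_of_ne_top [Finite G] (H : Subgroup G) (hH : H ≠ ⊤) :
    Nat.card ↥H < Nat.card G := by
  apply lt_of_le_of_ne (Subgroup.card_le_card_group H)
  intro h
  exact hH (Subgroup.eq_top_of_card_eq H h)

open Cfsg.Agent.Lib.Helper29 Cfsg.Agent.Lib.Helper22 Cfsg.Agent.Lib.Helper34 in
theorem le_pLayer_of_pCompIn_centralizer_aux (hZ : ZStarStatement.{u}) (n : ℕ) :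
    ∀ (G : Type u) [Group G] [Finite G], Nat.card G = n → ∀ x : G, orderOf x = 2 →
      ∀ J : Subgroup G, PCompIn 2 J (Subgroup.centralizer ({x} : Set G)) → J ≤ pLayer 2 G := by
  induction n using Nat.strong_induction_on with
  | _ n ih =>
  intro G _ _ hcard x hx J hJ
  have : Fact (Nat.Prime 2) := ⟨Nat.prime_two⟩
  have hperf : ⁅J, J⁆ = J := hJ.2.commutator_self
  have hx2 : x ^ 2 = 1 := by rw [← hx]; exact pow_orderOf_eq_one x
  have hRp : IsPGroup 2 (Subgroup.zpowers x) := isPGroup_zpowers_of_pow_eq_one hx2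
  by_cases hxZ : x ∈ Subgroup.center G
  · have htop : Subgroup.centralizer ({x} : Set G) = ⊤ := by
      rw [eq_top_iff]
      intro g _
      exact mem_centralizer_singleton_of_commute (Subgroup.mem_center_iff.mp hxZ g)
    rw [htop] at hJ
    exact pComponent_le_pLayer 2 (pCompIn_top_iff.mp hJ)
  by_cases hV : pPrimeCore 2 G = ⊥
  swap
  · -- case `O(G) ≠ 1`
    obtain ⟨V, hVdef⟩ : ∃ V : Subgroup G, V = pPrimeCore 2 G := ⟨_, rfl⟩
    have hVn : V.Normal := by rw [hVdef]; infer_instance
    have hVc : (Nat.card V).Coprime 2 := by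
      rw [hVdef]; exact Cfsg.Agent.Lib.Helper97.card_pPrimeCore_coprime 2
    have hV1 : V ≠ ⊥ := by rw [hVdef]; exact hV
    have hlt : Nat.card (G ⧸ V) < n := by rw [← hcard]; exact card_quotient_lt_of_ne_bot V hV1
    have hcent := Cfsg.Agent.Lib.Helper97.centralizer_map_mk_of_coprime
      (V := Subgroup.zpowers x) (N := V) hRp hVc
    rw [MonoidHom.map_zpowers, ← centralizer_singleton_eq_centralizer_zpowers,
      ← centralizer_singleton_eq_centralizer_zpowers] at hcent
    have hπx1 : (QuotientGroup.mk' V) x ≠ 1 := by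
      intro h
      have hxV : x ∈ V := (QuotientGroup.eq_one_iff x).mp h
      have h1 : orderOf x ∣ Nat.card V := Subgroup.orderOf_dvd_natCard V hxV
      rw [hx] at h1
      have h2 : Nat.Coprime 2 (Nat.card V) := hVc.symm
      rw [Nat.Prime.coprime_iff_not_dvd Nat.prime_two] at h2
      exact h2 h1
    have hπx : orderOf ((QuotientGroup.mk' V) x) = 2 := orderOf_map_eq_two _ hx hπx1
    rcases hJ.map (QuotientGroup.mk' V) with hbot | hJb
    · exfalso
      rw [Subgroup.map_eq_bot_iff, QuotientGroup.ker_mk'] at hbot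
      exact hJ.2.not_coprime (Nat.Coprime.coprime_dvd_left (Subgroup.card_dvd_of_le hbot) hVc)
    · rw [← hcent] at hJb
      have h1 := ih _ hlt (G ⧸ V) rfl _ hπx _ hJb
      subst hVdef
      exact le_pLayer_of_map_le_pLayer_quotient hJ.2.opp_eq h1
  · -- case `O(G) = 1`
    refine le_trans ?_ (layer_le_pLayer_of_pPrimeCore_eq_bot hV)
    apply le_layer_of_perfect_of_le_sup_centralizer hV hperf
    · intro K hK
      by_cases hz₀ : ∃ z₀ ∈ Subgroup.center G, orderOf z₀ = 2
      · -- a central involution: pass to the quotient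
        obtain ⟨z₀, hz₀c, hz₀⟩ := hz₀
        obtain ⟨Z, hZdef⟩ : ∃ Z : Subgroup G, Z = Subgroup.zpowers z₀ := ⟨_, rfl⟩
        have hZc : Z ≤ Subgroup.center G := by
          rw [hZdef, Subgroup.zpowers_le]; exact hz₀c
        have hZn : Z.Normal := normal_of_le_center hZc
        have hz₀2 : z₀ ^ 2 = 1 := by rw [← hz₀]; exact pow_orderOf_eq_one z₀
        have hZp : IsPGroup 2 Z := by rw [hZdef]; exact isPGroup_zpowers_of_pow_eq_one hz₀2
        have hZ1 : Z ≠ ⊥ := by
          rw [hZdef]
          intro h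
          have h1 : z₀ = 1 := Subgroup.zpowers_eq_bot.mp h
          rw [h1, orderOf_one] at hz₀
          omega
        have hlt : Nat.card (G ⧸ Z) < n := by
          rw [← hcard]; exact card_quotient_lt_of_ne_bot Z hZ1
        have hO' : pPrimeCore 2 (G ⧸ Z) = ⊥ :=
          pPrimeCore_quotient_eq_bot_of_le_center hZc hZp hV
        obtain ⟨π, hπ⟩ : ∃ π : G →* G ⧸ Z, π = QuotientGroup.mk' Z := ⟨_, rfl⟩
        have hπs : Function.Surjective π := by rw [hπ]; exact QuotientGroup.mk'_surjective Z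
        have hπk : π.ker = Z := by rw [hπ]; exact QuotientGroup.ker_mk' Z
        have hπx1 : π x ≠ 1 := by
          intro h
          have : x ∈ π.ker := h
          rw [hπk] at this
          exact hxZ (hZc this)
        have hπx : orderOf (π x) = 2 := orderOf_map_eq_two _ hx hπx1
        obtain ⟨C, hC⟩ : ∃ C : Subgroup G, C = Subgroup.centralizer ({x} : Set G) := ⟨_, rfl⟩
        obtain ⟨Cs, hCs⟩ : ∃ Cs : Subgroup G,
            Cs = (Subgroup.centralizer ({π x} : Set (G ⧸ Z))).comap π := ⟨_, rfl⟩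
        have hCCs : C ≤ Cs := by
          intro c hc
          rw [hCs, Subgroup.mem_comap]
          apply mem_centralizer_singleton_of_commute
          rw [hC] at hc
          rw [← map_mul, ← map_mul, commute_of_mem_centralizer_singleton hc]
        have hCsn : Cs ≤ Subgroup.normalizer (C : Set G) := by
          apply le_normalizer_of_forall_conj_mem
          intro g hg c hc
          rw [hCs, Subgroup.mem_comap] at hg
          have hgx : π g * π x = π x * π g := commute_of_mem_centralizer_singleton hg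
          rw [hC] at hc ⊢
          have hcx : c * x = x * c := commute_of_mem_centralizer_singleton hc
          apply mem_centralizer_singleton_of_commute
          obtain ⟨ζ, hζdef⟩ : ∃ ζ : G, ζ = x⁻¹ * g⁻¹ * x * g := ⟨_, rfl⟩
          have hζZ : ζ ∈ Z := by
            rw [← hπk, MonoidHom.mem_ker, hζdef, map_mul, map_mul, map_mul, map_inv, map_inv,
              mul_assoc _ (π x) (π g), ← hgx]
            group
          have hζc : ∀ y : G, y * ζ = ζ * y := Subgroup.mem_center_iff.mp (hZc hζZ)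
          have e1 : g⁻¹ * x * g = x * ζ := by rw [hζdef]; group
          calc g * c * g⁻¹ * x = g * c * (g⁻¹ * x * g) * g⁻¹ := by group
            _ = g * c * (x * ζ) * g⁻¹ := by rw [e1]
            _ = g * (c * x) * ζ * g⁻¹ := by group
            _ = g * (x * c) * ζ * g⁻¹ := by rw [hcx]
            _ = g * x * (c * ζ) * g⁻¹ := by group
            _ = g * x * (ζ * c) * g⁻¹ := by rw [hζc c]
            _ = g * (x * ζ) * c * g⁻¹ := by group
            _ = g * (g⁻¹ * x * g) * c * g⁻¹ := by rw [e1]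
            _ = x * (g * c * g⁻¹) := by group
        rw [← hC] at hJ
        have hJs : PCompIn 2 J Cs := hJ.trans (RelSN.of_normal hCCs hCsn)
        rcases hJs.map π with hbot | hJb
        · exfalso
          rw [Subgroup.map_eq_bot_iff, hπk] at hbot
          have h1 : ⁅J, J⁆ = ⊥ := by
            rw [Subgroup.commutator_eq_bot_iff_le_centralizer]
            exact (hbot.trans hZc).trans (Subgroup.center_le_centralizer _)
          rw [hperf] at h1
          exact hJ.2.ne_bot h1
        · have hCsmap : Cs.map π = Subgroup.centralizer ({π x} : Set (G ⧸ Z)) := by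
            rw [hCs, Subgroup.map_comap_eq_self_of_surjective hπs]
          rw [hCsmap] at hJb
          have h1 := ih _ hlt (G ⧸ Z) rfl _ hπx _ hJb
          have h2 := h1.trans (pLayer_le_layer_of_pPrimeCore_eq_bot hO')
          rw [hπ] at h2
          exact le_sup_centralizer_of_map_le_layer_quotient_center hZc hK h2
      · -- no central involution
        push Not at hz₀
        have IH' : ∀ H : Subgroup G, H ≠ ⊤ → ∀ x' : ↥H, orderOf x' = 2 → ∀ J' : Subgroup ↥H,
            PCompIn 2 J' (Subgroup.centralizer ({x'} : Set ↥H)) → J' ≤ pLayer 2 ↥H := by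
          intro H hH x' hx' J' hJ'
          have hlt : Nat.card ↥H < n := by rw [← hcard]; exact card_subgroup_lt_of_ne_top H hH
          exact ih _ hlt ↥H rfl x' hx' J' hJ'
        exact (le_layer_of_pCompIn_centralizer_of_lt hZ hV IH' hz₀ hx hJ hK).trans
          (layer_le_sup_centralizer hK)
    · exact hJ.normalizer_zpowers.le_centralizer_pCore hRp

/-- **`L_{2'}`-balance for involution centralizers**: every 2-component of `C_G(x)`, `x` an
involution, lies in `L_{2'}(G)`. -/
theorem PCompIn.le_pLayer_of_centralizer_involution (hZ : Cfsg.Agent.Lib.Helper29.ZStarStatement.{u})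
    [Finite G] {x : G} (hx : orderOf x = 2) {J : Subgroup G}
    (hJ : PCompIn 2 J (Subgroup.centralizer ({x} : Set G))) : J ≤ pLayer 2 G :=
  le_pLayer_of_pCompIn_centralizer_aux hZ (Nat.card G) G rfl x hx J hJ

end LTwoBalanceD

end Cfsg.Agent.Lib.Helper31
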