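/-
helper31 shared library: `L_{2'}`-balance (S1301), part E: the theorem for all 2-local
subgroups `N_G(R)` and `C_G(R)`, `R` a 2-subgroup, from the case of involution centralizers.
The `Z*`-theorem enters as the explicit hypothesis `ZStarStatement`.
All declarations live in `Cfsg.Agent.Lib.Helper31`.
-/
import Mathlib
import Cfsg.Prelude.Def_Local
import Cfsg.Agent.Lib.Helper31.LTwoBalanceD

set_option autoImplicit false

namespace Cfsg.Agent.Lib.Helper31

open Cfsg Cfsg.Agent.Lib.Helper72 Cfsg.Agent.Lib.Helper33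
open scoped commutatorElement

universe u

section LTwoBalanceE

variable {G : Type u} [Group G]

open Cfsg.Agent.Lib.Helper29 Cfsg.Agent.Lib.Helper22 Cfsg.Agent.Lib.Helper34 in
theorem le_pLayer_of_pCompIn_normalizer_aux (hZ : ZStarStatement.{u}) (n : ℕ) :
    ∀ (G : Type u) [Group G] [Finite G], Nat.card G = n → ∀ R J : Subgroup G, IsPGroup 2 R →
      PCompIn 2 J (Subgroup.normalizer (R : Set G)) → J ≤ pLayer 2 G := by
  induction n using Nat.strong_induction_on with
  | _ n ih =>
  intro G _ _ hcard R J hR hJ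
  have : Fact (Nat.Prime 2) := ⟨Nat.prime_two⟩
  have hperf : ⁅J, J⁆ = J := hJ.2.commutator_self
  by_cases hV : pPrimeCore 2 G = ⊥
  swap
  · -- case `O(G) ≠ 1`
    obtain ⟨V, hVdef⟩ : ∃ V : Subgroup G, V = pPrimeCore 2 G := ⟨_, rfl⟩
    have hVn : V.Normal := by rw [hVdef]; infer_instance
    have hVc : (Nat.card V).Coprime 2 := by
      rw [hVdef]; exact Cfsg.Agent.Lib.Helper97.card_pPrimeCore_coprime 2
    have hV1 : V ≠ ⊥ := by rw [hVdef]; exact hV
    have hlt : Nat.card (G ⧸ V) < n := by rw [← hcard]; exact card_quotient_lt_of_ne_bot V hV1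
    have hnorm := Cfsg.Agent.Lib.Helper97.normalizer_map_mk_of_coprime (N := V) hR hVc
    rcases hJ.map (QuotientGroup.mk' V) with hbot | hJb
    · exfalso
      rw [Subgroup.map_eq_bot_iff, QuotientGroup.ker_mk'] at hbot
      exact hJ.2.not_coprime (Nat.Coprime.coprime_dvd_left (Subgroup.card_dvd_of_le hbot) hVc)
    · rw [← hnorm] at hJb
      have h1 := ih _ hlt (G ⧸ V) rfl _ _ (hR.map _) hJb
      subst hVdef
      exact le_pLayer_of_map_le_pLayer_quotient hJ.2.opp_eq h1
  · -- case `O(G) = 1`
    by_cases hRZ : R ≤ Subgroup.center G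
    · rw [normalizer_eq_top_of_le_center hRZ] at hJ
      exact pComponent_le_pLayer 2 (pCompIn_top_iff.mp hJ)
    have hR1 : R ≠ ⊥ := by
      intro h
      apply hRZ
      rw [h]
      exact bot_le
    obtain ⟨x, hxR, hx, hxc⟩ := exists_orderOf_eq_prime_mem_centralizer hR hR1
    have hJR : J ≤ Subgroup.centralizer (R : Set G) := hJ.le_centralizer_of_normalizer hR
    have hx2 : x ^ 2 = 1 := by rw [← hx]; exact pow_orderOf_eq_one x
    by_cases hxZ : x ∈ Subgroup.center G
    · -- `x` central: pass to `G / ⟨x⟩`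
      refine le_trans ?_ (layer_le_pLayer_of_pPrimeCore_eq_bot hV)
      obtain ⟨Z, hZdef⟩ : ∃ Z : Subgroup G, Z = Subgroup.zpowers x := ⟨_, rfl⟩
      have hZc : Z ≤ Subgroup.center G := by
        rw [hZdef, Subgroup.zpowers_le]; exact hxZ
      have hZn : Z.Normal := normal_of_le_center hZc
      have hZR : Z ≤ R := by rw [hZdef, Subgroup.zpowers_le]; exact hxR
      have hZp : IsPGroup 2 Z := hR.to_le hZR
      have hZ1 : Z ≠ ⊥ := by
        rw [hZdef]
        intro h
        have h1 : x = 1 := Subgroup.zpowers_eq_bot.mp h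
        rw [h1, orderOf_one] at hx
        omega
      have hlt : Nat.card (G ⧸ Z) < n := by
        rw [← hcard]; exact card_quotient_lt_of_ne_bot Z hZ1
      have hO' : pPrimeCore 2 (G ⧸ Z) = ⊥ :=
        pPrimeCore_quotient_eq_bot_of_le_center hZc hZp hV
      have hnorm := normalizer_map_of_ker_le (f := QuotientGroup.mk' Z)
        (QuotientGroup.mk'_surjective Z) (R := R) (by rw [QuotientGroup.ker_mk']; exact hZR)
      rcases hJ.map (QuotientGroup.mk' Z) with hbot | hJb
      · exfalso
        rw [Subgroup.map_eq_bot_iff, QuotientGroup.ker_mk'] at hbot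
        have h1 : ⁅J, J⁆ = ⊥ := by
          rw [Subgroup.commutator_eq_bot_iff_le_centralizer]
          exact (hbot.trans hZc).trans (Subgroup.center_le_centralizer _)
        rw [hperf] at h1
        exact hJ.2.ne_bot h1
      · rw [← hnorm] at hJb
        have h1 := ih _ hlt (G ⧸ Z) rfl _ _ (hR.map _) hJb
        have h2 := h1.trans (pLayer_le_layer_of_pPrimeCore_eq_bot hO')
        apply le_layer_of_perfect_of_le_sup_centralizer hV hperf
        · intro K hK
          exact le_sup_centralizer_of_map_le_layer_quotient_center hZc hK h2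
        · exact hJ.le_centralizer_pCore hR
    · -- `x` not central: pass to `C_G(x)`
      obtain ⟨Gx, hGx⟩ : ∃ Gx : Subgroup G, Gx = Subgroup.centralizer ({x} : Set G) := ⟨_, rfl⟩
      have hGxtop : Gx ≠ ⊤ := by
        intro h
        apply hxZ
        rw [Subgroup.mem_center_iff]
        intro g
        have hg : g ∈ Gx := by rw [h]; trivial
        rw [hGx] at hg
        exact commute_of_mem_centralizer_singleton hg
      have hlt : Nat.card ↥Gx < n := by rw [← hcard]; exact card_subgroup_lt_of_ne_top Gx hGxtop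
      have hRGx : R ≤ Gx := by
        intro r hr
        rw [hGx]
        apply mem_centralizer_singleton_of_commute
        exact (Subgroup.mem_centralizer_iff.mp hxc) r hr
      have hJGx : J ≤ Gx := by
        intro k hk
        rw [hGx]
        apply mem_centralizer_singleton_of_commute
        exact ((Subgroup.mem_centralizer_iff.mp (hJR hk)) x hxR).symm
      have hR' : IsPGroup 2 (R.subgroupOf Gx) :=
        hR.of_equiv (Subgroup.subgroupOfEquivOfLe hRGx).symm
      have hJ' : PCompIn 2 (J.subgroupOf Gx)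
          (Subgroup.normalizer ((R.subgroupOf Gx : Subgroup ↥Gx) : Set ↥Gx)) := by
        have := hJ.subgroupOf hJGx
        rwa [Subgroup.subgroupOf_normalizer_eq hRGx] at this
      have h1 := ih _ hlt ↥Gx rfl _ _ hR' hJ'
      have hL : (pLayer 2 ↥Gx).map Gx.subtype ≤ pLayer 2 G := by
        unfold pLayer
        rw [sSup_eq_iSup, Subgroup.map_iSup]
        refine iSup_le fun I => ?_
        rw [Subgroup.map_iSup]
        refine iSup_le fun hI => ?_
        have hI₀ : IsPComponent 2 I := hI
        have hI' : PCompIn 2 (I.map Gx.subtype) Gx := isPComponent_iff_pCompIn_map_subtype.mp hI₀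
        have hI'' : PCompIn 2 (I.map Gx.subtype) (Subgroup.centralizer ({x} : Set G)) := by
          rw [← hGx]; exact hI'
        exact hI''.le_pLayer_of_centralizer_involution hZ hx
      have h2 := Subgroup.map_mono (f := Gx.subtype) h1
      rw [Subgroup.map_subgroupOf_eq_of_le hJGx] at h2
      exact h2.trans hL

/-- **`L_{2'}`-balance**, 2-component form: every 2-component of a 2-local subgroup `N_G(R)` lies
in `L_{2'}(G)`. -/
theorem PCompIn.le_pLayer_of_normalizer (hZ : Cfsg.Agent.Lib.Helper29.ZStarStatement.{u})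
    [Finite G] {R J : Subgroup G} (hR : IsPGroup 2 R)
    (hJ : PCompIn 2 J (Subgroup.normalizer (R : Set G))) : J ≤ pLayer 2 G :=
  le_pLayer_of_pCompIn_normalizer_aux hZ (Nat.card G) G rfl R J hR hJ

/-- **`L_{2'}`-balance** for normalizers of 2-subgroups. -/
theorem pLayer_normalizer_le_pLayer_two (hZ : Cfsg.Agent.Lib.Helper29.ZStarStatement.{u})
    [Finite G] (R : Subgroup G) (hR : IsPGroup 2 R) :
    (pLayer 2 ↥(Subgroup.normalizer (R : Set G))).map (Subgroup.normalizer (R : Set G)).subtype ≤
      pLayer 2 G := by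
  have : Fact (Nat.Prime 2) := ⟨Nat.prime_two⟩
  unfold pLayer
  rw [sSup_eq_iSup, Subgroup.map_iSup]
  refine iSup_le fun I => ?_
  rw [Subgroup.map_iSup]
  refine iSup_le fun hI => ?_
  have hI₀ : IsPComponent 2 I := hI
  exact (isPComponent_iff_pCompIn_map_subtype.mp hI₀).le_pLayer_of_normalizer hZ hR

/-- **`L_{2'}`-balance** for centralizers of 2-subgroups (the statement of S1301, with the
`Z*`-theorem as a hypothesis). -/
theorem pLayer_centralizer_le_pLayer_two (hZ : Cfsg.Agent.Lib.Helper29.ZStarStatement.{u})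
    [Finite G] (T : Subgroup G) (hT : IsPGroup 2 T) :
    (pLayer 2 ↥(Subgroup.centralizer (T : Set G))).map (Subgroup.centralizer (T : Set G)).subtype ≤
      pLayer 2 G := by
  have : Fact (Nat.Prime 2) := ⟨Nat.prime_two⟩
  unfold pLayer
  rw [sSup_eq_iSup, Subgroup.map_iSup]
  refine iSup_le fun I => ?_
  rw [Subgroup.map_iSup]
  refine iSup_le fun hI => ?_
  have hI₀ : IsPComponent 2 I := hI
  have hI' := isPComponent_iff_pCompIn_map_subtype.mp hI₀
  have hI'' : PCompIn 2 (I.map (Subgroup.centralizer (T : Set G)).subtype)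
      (Subgroup.normalizer (T : Set G)) :=
    hI'.trans (RelSN.of_normal (Subgroup.centralizer_le_normalizer _)
      (Cfsg.Agent.Lib.Helper49.normalizer_le_normalizer_centralizer _))
  exact hI''.le_pLayer_of_normalizer hZ hT

end LTwoBalanceE

end Cfsg.Agent.Lib.Helper31
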