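import Mathlib
import Cfsg.Agent.Lib.Helper24.PFCycCtx0
import Cfsg.Agent.Lib.Helper60.PFTenTDefs

/-!
# Peterfalvi (10.10), residual case (c*): `|H| = p³`, `2q = p + 1` -- definitions (helper31)

`M` is a maximal subgroup of Type V with type-P data `(W₁, ⊥, W₂)`, `H = M' = M_F` of order `p³`
(`p = |W₂|`), `q = |W₁| = (p + 1)/2`.  We show that `calS M` is coherent (contradicting (10.8)).

* `CubeCtx` : the standing hypotheses (`MCtx0` + `MFacts` + the two numerical facts).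
* `S1 M W₁` : the members of `calS M` of degree `q`.
* `chiOf M mu η ζ' = ∑_φ η_φ - τ(μ₀ - ζ')` : the (signed) irreducible character attached to
  `ζ' ∈ S1` by the coherence-free bridge.
* `anchorD M mu η ψ = τ(p μ₀ - μ_ψ) - ∑_φ η_{φψ} - p ∑_φ η_φ` : the anchor defect.
-/

set_option autoImplicit false

namespace Cfsg.Agent.Lib.Helper31.PFCube

open Cfsg Cfsg.Agent.Lib.Helper4.PF Cfsg.Agent.Lib.Helper74.PF127 Cfsg.Agent.Lib.Helper24.PFCyc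

universe u

variable {G : Type u} [Group G] [Fintype G]

/-- The standing hypotheses of the residual case (c*) of Peterfalvi (10.10). -/
structure CubeCtx (M W₁ U W₂ : Subgroup G) [Fintype M]
    (mu : WChar W₁ W₂ → (↥M → ℂ)) (dl : WChar W₁ W₂ → ℂ) (η : WChar W₁ W₂ → (G → ℂ))
    (ζ : ↥M → ℂ) : Prop where
  h0 : MCtx0 M W₁ U W₂ mu dl η ζ
  hf : MFacts M W₁ W₂ mu dl η
  hcard : Nat.card ↥(⁅M, M⁆ : Subgroup G) = Nat.card W₂ ^ 3
  h2q : 2 * Nat.card W₁ = Nat.card W₂ + 1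

/-- the members of `calS M` of degree `q = |W₁|` -/
def S1 (M W₁ : Subgroup G) [Fintype M] : Set (↥M → ℂ) :=
  {ζ' | ζ' ∈ calS M ∧ ζ' 1 = (Nat.card W₁ : ℂ)}

/-- `χ_ζ' = ∑_φ η_φ - τ(μ₀ - ζ')` -/
noncomputable def chiOf (M : Subgroup G) {W₁ W₂ : Subgroup G} (mu : WChar W₁ W₂ → (↥M → ℂ))
    (η : WChar W₁ W₂ → (G → ℂ)) (ζ' : ↥M → ℂ) : G → ℂ :=
  etaSum η 1 - tauM M (muSum mu 1 - ζ')

/-- the anchor defect `D_ψ = τ(p μ₀ - μ_ψ) - ∑_φ η_{φψ} - p ∑_φ η_φ` -/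
noncomputable def anchorD (M : Subgroup G) {W₁ W₂ : Subgroup G} (mu : WChar W₁ W₂ → (↥M → ℂ))
    (η : WChar W₁ W₂ → (G → ℂ)) (ψ : WChar W₁ W₂) : G → ℂ :=
  tauM M ((Nat.card W₂ : ℂ) • muSum mu 1 - muSum mu ψ) - etaSum η ψ -
    (Nat.card W₂ : ℂ) • etaSum η 1

end Cfsg.Agent.Lib.Helper31.PFCube
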