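import Mathlib
import Cfsg.Agent.Lib.Helper4.PFTenAbs

/-!
# Peterfalvi (10.10), residual case (c*): the abstract norm count (helper31)

* `cube_arith` : the integer inequality forcing `A = B = 0`.
* `cube_abs`   : Bessel for the orthonormal system `E i j` (a `q × p` array) together with a family
  `X k` of `N ≥ 2 (p - 1)` further orthonormal functions, applied to the anchor defect `D`.
-/

set_option autoImplicit false

namespace Cfsg.Agent.Lib.Helper31.PFCube

open Cfsg Cfsg.Agent.Lib.Helper25 Cfsg.Agent.Lib.Helper4.PFTen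

/-- the arithmetic heart of the residual case: `2q = p + 1`, `p ≥ 5`, `N ≥ 2(p-1)`. -/
theorem cube_arith (p q N A B s : ℤ) (hp : 5 ≤ p) (h2q : 2 * q = p + 1) (hN : 2 * (p - 1) ≤ N)
    (hs1 : A ≤ s) (hs2 : -A ≤ s)
    (hI : p * s + (p - 1) * q * B ^ 2 + 2 * (p - 1) * A * B + N * A ^ 2 + 2 * (p + 1) * A +
      2 * q * B ≤ 0) : A = 0 ∧ B = 0 ∧ s = 0 := by
  have hs0 : 0 ≤ s := by linarith
  -- replace `N` by `2 (p - 1)`
  have hI' : p * s + (p - 1) * q * B ^ 2 + 2 * (p - 1) * A * B + 2 * (p - 1) * A ^ 2 +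
      2 * (p + 1) * A + 2 * q * B ≤ 0 := by
    have : 2 * (p - 1) * A ^ 2 ≤ N * A ^ 2 := by
      apply mul_le_mul_of_nonneg_right hN (sq_nonneg A)
    linarith
  -- double and substitute `2 q = p + 1`, `u = 2A + B`
  have key : 2 * p * s + (p - 1) * (2 * A + B) ^ 2 + 2 * (p + 1) * (2 * A + B) +
      p * (p - 1) * B ^ 2 ≤ 0 := by
    have hq : q = (p + 1) - q := by linarith
    have e : 2 * (p * s + (p - 1) * q * B ^ 2 + 2 * (p - 1) * A * B + 2 * (p - 1) * A ^ 2 +
        2 * (p + 1) * A + 2 * q * B) = 2 * p * s + (p - 1) * (2 * A + B) ^ 2 +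
        2 * (p + 1) * (2 * A + B) + p * (p - 1) * B ^ 2 := by
      have : 2 * q = p + 1 := h2q
      have e1 : 2 * ((p - 1) * q * B ^ 2) = (p - 1) * (p + 1) * B ^ 2 := by
        rw [← this]; ring
      have e2 : 2 * (2 * q * B) = 2 * (p + 1) * B := by
        rw [← this]; ring
      linear_combination e1 + e2
    linarith
  set u : ℤ := 2 * A + B with hu
  -- `B = 0`
  have hB : B = 0 := by
    by_contra hB0
    have hB2 : 1 ≤ B ^ 2 := by
      have : B ≠ 0 := hB0
      have h1 : 0 < B ^ 2 := by positivity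
      linarith
    -- (p-1) u² + 2(p+1) u ≥ -(p+3) for all integers u when p ≥ 5
    have hg : -(p + 3) ≤ (p - 1) * u ^ 2 + 2 * (p + 1) * u := by
      rcases le_or_gt 0 u with h0 | h0
      · have : 0 ≤ (p - 1) * u ^ 2 := mul_nonneg (by linarith) (sq_nonneg u)
        have : 0 ≤ 2 * (p + 1) * u := mul_nonneg (by linarith) h0
        linarith
      · rcases le_or_gt u (-3) with h3 | h3
        · -- u ≤ -3: (p-1)u² + 2(p+1)u = u((p-1)u + 2(p+1)) ≥ 0
          have h4 : (p - 1) * u + 2 * (p + 1) ≤ 0 := by nlinarith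
          nlinarith
        · -- u ∈ {-2, -1}
          have hu' : u = -1 ∨ u = -2 := by omega
          rcases hu' with h | h <;> rw [h] <;> nlinarith
    have hpB : p * (p - 1) ≤ p * (p - 1) * B ^ 2 := by
      have : 0 ≤ p * (p - 1) := by nlinarith
      nlinarith
    have hps : 0 ≤ 2 * p * s := by positivity
    nlinarith
  rw [hB] at key hu
  simp only [add_zero] at hu
  have key2 : 2 * p * s + (p - 1) * u ^ 2 + 2 * (p + 1) * u ≤ 0 := by
    have : p * (p - 1) * (0 : ℤ) ^ 2 = 0 := by ring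
    linarith
  -- `u = 2A`
  have hA : A = 0 := by
    by_contra hA0
    have hs1' : 1 ≤ s := by
      rcases lt_or_gt_of_ne hA0 with h | h
      · linarith
      · linarith
    rw [hu] at key2
    -- 2ps + 4(p-1)A² + 4(p+1)A ≤ 0
    rcases lt_or_gt_of_ne hA0 with h | h
    · -- A ≤ -1
      rcases le_or_gt A (-2) with h2 | h2
      · -- A ≤ -2: (p-1)A + (p+1) ≤ -(p-3) < 0, times 4A > 0
        have h3 : (p - 1) * A + (p + 1) ≤ 0 := by nlinarith
        have h4 : 0 ≤ 4 * A * ((p - 1) * A + (p + 1)) := by nlinarith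
        have hps : 0 < 2 * p * s := by positivity
        nlinarith
      · have hA1 : A = -1 := by omega
        rw [hA1] at key2
        nlinarith
    · have : 0 < 2 * p * s := by positivity
      have : 0 ≤ (p - 1) * (2 * A) ^ 2 := mul_nonneg (by linarith) (sq_nonneg _)
      have : 0 < 2 * (p + 1) * (2 * A) := mul_pos (by linarith) (by linarith)
      linarith
  refine ⟨hA, hB, ?_⟩
  rw [hu, hA] at key2
  have : 2 * p * s ≤ 0 := by linarith
  have hp0 : 0 < 2 * p := by linarith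
  have : s ≤ 0 := by
    by_contra hh
    push Not at hh
    have : 0 < 2 * p * s := by positivity
    linarith
  linarith


section Bessel

variable {G : Type*} [Group G] [Fintype G]

/-- Bessel for the family `E ∪ X` with integer coefficients, as an inequality in `ℤ`. -/
theorem bessel_int_two {ι κ ν : Type*} [Fintype ι] [Fintype κ] [Fintype ν]
    [DecidableEq ι] [DecidableEq κ] [DecidableEq ν]
    (E : ι → κ → G → ℂ)
    (hE : ∀ i j i' j', classInner (E i j) (E i' j') = if i = i' ∧ j = j' then 1 else 0)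
    (X : ν → G → ℂ) (hX : ∀ k l, classInner (X k) (X l) = if k = l then 1 else 0)
    (hXE : ∀ k i j, classInner (X k) (E i j) = 0)
    (D : G → ℂ) (N : ℤ) (hD : classInner D D = (N : ℂ))
    (c : ι → κ → ℤ) (hc : ∀ i j, classInner D (E i j) = c i j)
    (m : ν → ℤ) (hm : ∀ k, classInner D (X k) = m k) :
    ∑ i, ∑ j, c i j ^ 2 + ∑ k, m k ^ 2 ≤ N := by
  classical
  let e : (ι × κ) ⊕ ν → G → ℂ := fun o => Sum.elim (fun x => E x.1 x.2) X o
  have he : ∀ a b, classInner (e a) (e b) = if a = b then 1 else 0 := by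
    intro a b
    rcases a with x | k <;> rcases b with y | l
    · have := hE x.1 x.2 y.1 y.2
      simp only [e, Sum.elim_inl, this, Sum.inl.injEq]
      by_cases h : x = y
      · subst h; simp
      · have : ¬ (x.1 = y.1 ∧ x.2 = y.2) := fun h' => h (Prod.ext h'.1 h'.2)
        simp [h, this]
    · have := classInner_eq_zero_symm (hXE l x.1 x.2)
      simpa [e] using this
    · simpa [e] using hXE k y.1 y.2
    · have := hX k l
      simp only [e, Sum.elim_inr, this, Sum.inr.injEq]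
  have hB := bessel e he D
  rw [hD, Fintype.sum_sum_type] at hB
  simp only [e, Sum.elim_inl, Sum.elim_inr] at hB
  have hnorm : ∀ z : ℤ, ‖((z : ℤ) : ℂ)‖ ^ 2 = ((z ^ 2 : ℤ) : ℝ) := by
    intro z
    have : ‖((z : ℤ) : ℂ)‖ = |((z : ℤ) : ℝ)| := by
      rw [← Complex.ofReal_intCast, Complex.norm_real, Real.norm_eq_abs]
    rw [this, sq_abs]
    push_cast
    ring
  have h1 : ∑ x : ι × κ, ‖classInner D (E x.1 x.2)‖ ^ 2 = ((∑ i, ∑ j, c i j ^ 2 : ℤ) : ℝ) := by
    rw [Fintype.sum_prod_type]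
    push_cast
    apply Finset.sum_congr rfl
    intro i _
    apply Finset.sum_congr rfl
    intro j _
    rw [hc i j, hnorm]
    push_cast
    ring
  have h2 : ∑ k : ν, ‖classInner D (X k)‖ ^ 2 = ((∑ k, m k ^ 2 : ℤ) : ℝ) := by
    push_cast
    apply Finset.sum_congr rfl
    intro k _
    rw [hm k, hnorm]
    push_cast
    ring
  rw [h1, h2] at hB
  have hre : ((N : ℤ) : ℂ).re = ((N : ℤ) : ℝ) := by simp
  rw [hre] at hB
  exact_mod_cast hB

/-- **The abstract norm count of the residual case (c*).** -/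
theorem cube_abs {ι κ ν : Type*} [Fintype ι] [Fintype κ] [Fintype ν]
    [DecidableEq ι] [DecidableEq κ] [DecidableEq ν]
    (j₀ : κ) (p q : ℕ) (hq : Fintype.card ι = q) (hp : Fintype.card κ = p)
    (hp5 : 5 ≤ p) (h2q : 2 * q = p + 1) (hN : 2 * (p - 1) ≤ Fintype.card ν)
    (E : ι → κ → G → ℂ)
    (hE : ∀ i j i' j', classInner (E i j) (E i' j') = if i = i' ∧ j = j' then 1 else 0)
    (X : ν → G → ℂ) (hX : ∀ k l, classInner (X k) (X l) = if k = l then 1 else 0)
    (hXE : ∀ k i j, classInner (X k) (E i j) = 0)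
    (D : G → ℂ) (a : ι → ℤ) (B : ℤ)
    (hD : ∀ i j, classInner D (E i j) = if j = j₀ then (a i : ℂ) else (a i : ℂ) + (B : ℂ))
    (hDX : ∀ k, classInner D (X k) = ((∑ i, a i : ℤ) : ℂ))
    (hnorm : classInner D D =
      ((-2 * ((∑ i, a i) + (q : ℤ) * B) - 2 * (p : ℤ) * ∑ i, a i : ℤ) : ℂ)) :
    ∑ i, a i = 0 ∧ B = 0 ∧ ∀ i, a i = 0 := by
  classical
  set A : ℤ := ∑ i, a i with hA
  set s : ℤ := ∑ i, a i ^ 2 with hs
  let c : ι → κ → ℤ := fun i j => if j = j₀ then a i else a i + B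
  have hc : ∀ i j, classInner D (E i j) = c i j := by
    intro i j
    rw [hD i j]
    by_cases h : j = j₀
    · simp [c, h]
    · simp [c, h]
  have hbes := bessel_int_two E hE X hX hXE D _ hnorm c hc (fun _ => A) hDX
  -- the inner sum over `j`
  have hrow : ∀ i, ∑ j, c i j ^ 2 = a i ^ 2 + ((p : ℤ) - 1) * (a i + B) ^ 2 := by
    intro i
    rw [← Finset.add_sum_erase Finset.univ _ (Finset.mem_univ j₀)]
    have h1 : c i j₀ ^ 2 = a i ^ 2 := by simp [c]
    have h2 : ∀ j ∈ Finset.univ.erase j₀, c i j ^ 2 = (a i + B) ^ 2 := by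
      intro j hj
      have : j ≠ j₀ := Finset.ne_of_mem_erase hj
      simp [c, this]
    rw [h1, Finset.sum_congr rfl h2, Finset.sum_const, Finset.card_erase_of_mem (Finset.mem_univ j₀),
      Finset.card_univ, hp, nsmul_eq_mul]
    have : 1 ≤ p := by omega
    push_cast [Nat.cast_sub this]
    ring
  have hsum : ∑ i, ∑ j, c i j ^ 2 =
      s + ((p : ℤ) - 1) * (s + 2 * A * B + (q : ℤ) * B ^ 2) := by
    rw [Finset.sum_congr rfl (fun i _ => hrow i), Finset.sum_add_distrib, ← Finset.mul_sum]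
    congr 2
    have : ∀ i, (a i + B) ^ 2 = a i ^ 2 + 2 * B * a i + B ^ 2 := fun i => by ring
    rw [Finset.sum_congr rfl (fun i _ => this i), Finset.sum_add_distrib, Finset.sum_add_distrib,
      ← Finset.mul_sum, Finset.sum_const, Finset.card_univ, hq, nsmul_eq_mul]
    ring
  have hX2 : ∑ _k : ν, A ^ 2 = (Fintype.card ν : ℤ) * A ^ 2 := by
    rw [Finset.sum_const, Finset.card_univ, nsmul_eq_mul]
  rw [hsum, hX2] at hbes
  -- `|A| ≤ s`
  have hs1 : A ≤ s := by
    apply Finset.sum_le_sum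
    intro i _
    nlinarith [sq_nonneg (a i), sq_nonneg (a i - 1)]
  have hs2 : -A ≤ s := by
    rw [hA, ← Finset.sum_neg_distrib]
    apply Finset.sum_le_sum
    intro i _
    nlinarith [sq_nonneg (a i), sq_nonneg (a i + 1)]
  have hN' : 2 * ((p : ℤ) - 1) ≤ (Fintype.card ν : ℤ) := by
    have : 1 ≤ p := by omega
    have h := hN
    zify [this] at h
    exact h
  have h2q' : 2 * (q : ℤ) = (p : ℤ) + 1 := by exact_mod_cast h2q
  have hp5' : (5 : ℤ) ≤ (p : ℤ) := by exact_mod_cast hp5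
  obtain ⟨hA0, hB0, hs0⟩ := cube_arith (p : ℤ) (q : ℤ) (Fintype.card ν : ℤ) A B s hp5' h2q' hN'
    hs1 hs2 (by nlinarith)
  refine ⟨hA0, hB0, ?_⟩
  intro i
  have hnn : ∀ j ∈ Finset.univ, 0 ≤ a j ^ 2 := fun j _ => sq_nonneg (a j)
  have := (Finset.sum_eq_zero_iff_of_nonneg hnn).mp hs0 i (Finset.mem_univ i)
  exact pow_eq_zero_iff (two_ne_zero) |>.mp this

end Bessel

end Cfsg.Agent.Lib.Helper31.PFCube
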