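import Mathlib
import Cfsg.Agent.Lib.Helper31.PFCubeDefs
import Cfsg.Agent.Lib.Helper31.PFCycChi
import Cfsg.Agent.Lib.Helper75.PFElevenXBridgeCore
import Cfsg.Agent.Lib.Helper23.PFCycTau1Mu

/-!
# Peterfalvi (10.10), residual case (c*): the coherence-free bridge (helper31)

For every member `ζ'` of `calS M` of degree `q`: `χ_ζ' = ∑_φ η_φ - τ(μ₀ - ζ')` is a generalized
character of norm `1` orthogonal to all `η ω` (helper75's `bridge_core`, `q < p`); the `χ_ζ'` have the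
Gram matrix of the `ζ'`, and `τ(ζ' - ζ'') = χ_ζ' - χ_ζ''`.
-/

set_option autoImplicit false
set_option linter.unusedSectionVars false

namespace Cfsg.Agent.Lib.Helper31.PFCube

open Cfsg Cfsg.Agent.Lib.Helper4.PF Cfsg.Agent.Lib.Helper74.PF127 Cfsg.Agent.Lib.Helper24.PFCyc

universe u

variable {G : Type u} [Group G] [Fintype G] {M W₁ U W₂ : Subgroup G} [Fintype M]
  {mu : WChar W₁ W₂ → (↥M → ℂ)} {dl : WChar W₁ W₂ → ℂ} {η : WChar W₁ W₂ → (G → ℂ)}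
  {ζ : ↥M → ℂ}

/-- numerical facts: `3 ≤ q < p`, `5 ≤ p` -/
theorem cube_num (c : CubeCtx M W₁ U W₂ mu dl η ζ) :
    3 ≤ Nat.card W₁ ∧ Nat.card W₁ < Nat.card W₂ ∧ 5 ≤ Nat.card W₂ := by
  have h1 : 1 < Nat.card W₁ := (Subgroup.one_lt_card_iff_ne_bot W₁).mpr c.h0.hP.W₁_ne
  have hWM : W₁ ≤ M := c.h0.hP.W₁_compl.2.1
  have hodd : Odd (Nat.card W₁) := Odd.of_dvd_nat c.h0.hodd (Subgroup.card_dvd_of_le hWM)
  have h3 : 3 ≤ Nat.card W₁ := by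
    rcases hodd with ⟨k, hk⟩
    omega
  have := c.h2q
  refine ⟨h3, by omega, by omega⟩

/-- basic facts on a member of `calS M` of degree `q` -/
theorem S1_facts (c : CubeCtx M W₁ U W₂ mu dl η ζ) {ζ' : ↥M → ℂ} (hζ' : ζ' ∈ S1 M W₁) :
    IsIrrCharacter ↥M ζ' ∧ (∀ ω, ζ' ≠ mu ω) ∧ IsClassFunction ↥M ζ' ∧
      (∀ m : ↥M, (m : G) ∉ ⁅M, M⁆ → ζ' m = 0) ∧ classInner ζ' ζ' = 1 ∧
      classInner (muSum mu 1) ζ' = 0 ∧ classInner ζ' (muSum mu 1) = 0 ∧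
      classInner ζ' (fun _ => 1) = 0 := by
  obtain ⟨hmem, hdeg⟩ := hζ'
  have hq := (cube_num c).1
  have hirr : IsIrrCharacter ↥M ζ' ∧ ∀ ω, ζ' ≠ mu ω := by
    rcases c.hf.calS_cases ζ' hmem with h | ⟨ψ, hψ, hψ1, rfl⟩
    · exact h
    · exfalso
      have h1 := (Zero.muSum_facts c.h0 c.hf ψ hψ hψ1).2.2.1
      obtain ⟨d, hd, hle, -⟩ := c.hf.mu_deg ψ hψ hψ1
      rw [hdeg, hd] at h1
      have h2 : Nat.card W₁ = Nat.card W₁ * d := by exact_mod_cast h1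
      have h3 : d = 1 := by
        have : Nat.card W₁ * 1 = Nat.card W₁ * d := by rw [mul_one]; exact h2
        exact (Nat.eq_of_mul_eq_mul_left (by omega) this).symm
      omega
  have hcl : IsClassFunction ↥M ζ' := Cfsg.Agent.Lib.Helper31.PFCyc.calS_classFun hmem
  have h0 := (Zero.mu0_facts c.h0 c.hf).2.2.2.2.2 ζ' hmem
  have h0' : classInner ζ' (muSum mu 1) = 0 := by
    rw [← Cfsg.Agent.Lib.Helper26.classInner_conj_symm, h0, map_zero]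
  refine ⟨hirr.1, hirr.2, hcl, fun m hm => Cfsg.Agent.Lib.Helper31.PFCyc.calS_off hmem m hm,
    Cfsg.Agent.Lib.Helper25.irr_norm' hirr.1, h0, h0', ?_⟩
  have h1 : (fun _ : ↥M => (1 : ℂ)) = mu 1 := c.hf.mu_one.symm
  rw [h1]
  exact Cfsg.Agent.Lib.Helper25.irr_orthogonal _ _ hirr.1 (c.h0.md.irr 1) (hirr.2 1)

/-- facts on `α = μ₀ - ζ'` -/
theorem alpha_facts (c : CubeCtx M W₁ U W₂ mu dl η ζ) {ζ' : ↥M → ℂ} (hζ' : ζ' ∈ S1 M W₁) :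
    IsClassFunction ↥M (muSum mu 1 - ζ') ∧
      (∀ m : ↥M, (m : G) ∉ ⁅M, M⁆ → (muSum mu 1 - ζ') m = 0) ∧
      (∀ m : ↥M, (m : G) ∉ litA0 M → (muSum mu 1 - ζ') m = 0) ∧
      IsGeneralizedCharacter ↥M (muSum mu 1 - ζ') := by
  obtain ⟨-, -, hcl, hoff, -, -, -, -⟩ := S1_facts c hζ'
  obtain ⟨h0char, h0off, h0val, -, -, -⟩ := Zero.mu0_facts c.h0 c.hf
  have h0cl : IsClassFunction ↥M (muSum mu 1) :=
    Cfsg.Agent.Lib.Helper25.isClassFunction_of_isCharacter h0char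
  have hαcl : IsClassFunction ↥M (muSum mu 1 - ζ') := by
    intro g x
    simp only [Pi.sub_apply, h0cl g x, hcl g x]
  have hαK : ∀ m : ↥M, (m : G) ∉ ⁅M, M⁆ → (muSum mu 1 - ζ') m = 0 := by
    intro m hm
    simp only [Pi.sub_apply, h0off m hm, hoff m hm, sub_zero]
  have hα1 : (muSum mu 1 - ζ') 1 = 0 := by
    have : ((1 : ↥M) : G) ∈ ⁅M, M⁆ := Subgroup.one_mem _
    simp only [Pi.sub_apply, h0val 1 this, hζ'.2, sub_self]
  refine ⟨hαcl, hαK, Zero.off_litA0 c.h0 _ hαK hα1, ?_⟩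
  exact ⟨muSum mu 1, ζ', h0char, (Zero.calS_basic c.h0 ζ' hζ'.1).1, rfl⟩

/-- inner products of the `α`'s -/
theorem alpha_inner (c : CubeCtx M W₁ U W₂ mu dl η ζ) {ζ' ζ'' : ↥M → ℂ} (hζ' : ζ' ∈ S1 M W₁)
    (hζ'' : ζ'' ∈ S1 M W₁) :
    classInner (muSum mu 1 - ζ') (muSum mu 1 - ζ'') = (Nat.card W₁ : ℂ) + classInner ζ' ζ'' := by
  obtain ⟨-, -, -, -, -, -, h1, -⟩ := S1_facts c hζ'
  obtain ⟨-, -, -, -, -, h2, -, -⟩ := S1_facts c hζ''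
  have h00 := (Zero.mu0_facts c.h0 c.hf).2.2.2.1
  rw [Cfsg.Agent.Lib.Helper25.classInner_sub_left, Cfsg.Agent.Lib.Helper25.classInner_sub_right,
    Cfsg.Agent.Lib.Helper25.classInner_sub_right, h00, h1, h2]
  ring

/-- **the coherence-free bridge** -/
theorem cube_bridge (c : CubeCtx M W₁ U W₂ mu dl η ζ) {ζ' : ↥M → ℂ} (hζ' : ζ' ∈ S1 M W₁) :
    IsGeneralizedCharacter G (chiOf M mu η ζ') ∧
      classInner (chiOf M mu η ζ') (chiOf M mu η ζ') = 1 ∧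
      ∀ ω, classInner (chiOf M mu η ζ') (η ω) = 0 := by
  obtain ⟨hαcl, hαK, hαA, hαgen⟩ := alpha_facts c hζ'
  obtain ⟨-, -, -, -, hn, -, -, h1⟩ := S1_facts c hζ'
  have hlt := (cube_num c).2.1
  have hnorm : classInner (tauM M (muSum mu 1 - ζ')) (tauM M (muSum mu 1 - ζ')) =
      (Nat.card W₁ : ℂ) + 1 := by
    rw [Zero.tauM_inner c.h0 hαcl hαA hαcl hαA, alpha_inner c hζ' hζ', hn]
  have hone : classInner (tauM M (muSum mu 1 - ζ')) (fun _ => 1) = 1 := by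
    rw [Zero.tauM_inner_one c.h0 hαcl hαA, Cfsg.Agent.Lib.Helper25.classInner_sub_left,
      (Zero.mu0_facts c.h0 c.hf).2.2.2.2.1, h1, sub_zero]
  have hWM : W₁ ⊔ W₂ ≤ M := Cfsg.Agent.Lib.Helper60.PFCycB.W_le c.h0.hP
  have hodd : Odd (Nat.card ↥(W₁ ⊔ W₂)) :=
    Odd.of_dvd_nat c.h0.hodd (Subgroup.card_dvd_of_le hWM)
  obtain ⟨χ, hχgen, hχn, hχη, hΓ⟩ := Cfsg.Agent.Lib.Helper75.PF11X.bridge_core W₁ W₂ c.h0.hW hodd η
    c.h0.hη hlt _ (Zero.tauM_genChar c.h0 hαgen hαA)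
    (fun w hw₁ hw₂ => Zero.tauM_vanish_W c.h0 c.hf _ hαcl hαK w hw₁ hw₂) hnorm hone
  have hχ : chiOf M mu η ζ' = χ := by
    unfold chiOf
    rw [hΓ]
    abel
  rw [hχ]
  exact ⟨hχgen, hχn, hχη⟩

/-- `τ(ζ' - ζ'') = χ_ζ' - χ_ζ''` -/
theorem chiOf_sub (ζ' ζ'' : ↥M → ℂ) :
    tauM M (ζ' - ζ'') = chiOf M mu η ζ' - chiOf M mu η ζ'' := by
  unfold chiOf
  have e : ζ' - ζ'' = (muSum mu 1 - ζ'') - (muSum mu 1 - ζ') := by abel
  rw [e, tauM_sub]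
  abel

/-- `⟨χ_ζ', ∑_φ η_φ⟩ = 0` -/
theorem chiOf_inner_etaSum (c : CubeCtx M W₁ U W₂ mu dl η ζ) {ζ' : ↥M → ℂ}
    (hζ' : ζ' ∈ S1 M W₁) (ψ : WChar W₁ W₂) :
    classInner (chiOf M mu η ζ') (etaSum η ψ) = 0 ∧
      classInner (etaSum η ψ) (chiOf M mu η ζ') = 0 := by
  have h := (cube_bridge c hζ').2.2
  have h1 : classInner (chiOf M mu η ζ') (etaSum η ψ) = 0 := by
    unfold etaSum
    rw [Cfsg.Agent.Lib.Helper25.classInner_sum_right]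
    exact Finset.sum_eq_zero (fun φ _ => h _)
  refine ⟨h1, ?_⟩
  rw [← Cfsg.Agent.Lib.Helper26.classInner_conj_symm, h1, map_zero]

/-- the `χ_ζ'` have the Gram matrix of the `ζ'` -/
theorem cube_chi_inner (c : CubeCtx M W₁ U W₂ mu dl η ζ) {ζ' ζ'' : ↥M → ℂ} (hζ' : ζ' ∈ S1 M W₁)
    (hζ'' : ζ'' ∈ S1 M W₁) :
    classInner (chiOf M mu η ζ') (chiOf M mu η ζ'') = classInner ζ' ζ'' := by
  obtain ⟨hαcl', -, hαA', -⟩ := alpha_facts c hζ'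
  obtain ⟨hαcl'', -, hαA'', -⟩ := alpha_facts c hζ''
  have hE : classInner (etaSum η (1 : WChar W₁ W₂)) (etaSum η 1) = (Nat.card W₁ : ℂ) := by
    rw [Cfsg.Agent.Lib.Helper23.PFCycTau1Mu.etaSum_inner_etaSum c.h0.hW c.h0.hη (trivOn_one W₁)
      (trivOn_one W₁), if_pos rfl]
  -- `Φ = E₀ - χ`
  have hΦ' : tauM M (muSum mu 1 - ζ') = etaSum η 1 - chiOf M mu η ζ' := by
    unfold chiOf; abel
  have hΦ'' : tauM M (muSum mu 1 - ζ'') = etaSum η 1 - chiOf M mu η ζ'' := by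
    unfold chiOf; abel
  have key := Zero.tauM_inner c.h0 hαcl' hαA' hαcl'' hαA''
  rw [alpha_inner c hζ' hζ'', hΦ', hΦ'', Cfsg.Agent.Lib.Helper25.classInner_sub_left,
    Cfsg.Agent.Lib.Helper25.classInner_sub_right, Cfsg.Agent.Lib.Helper25.classInner_sub_right, hE,
    (chiOf_inner_etaSum c hζ'' 1).2, (chiOf_inner_etaSum c hζ' 1).1] at key
  linear_combination key

end Cfsg.Agent.Lib.Helper31.PFCube
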