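import Mathlib
import Cfsg.Agent.Lib.Helper31.PFCubeBridge
import Cfsg.Agent.Lib.Helper25.PFCycEta
import Cfsg.Agent.S1506

/-!
# Peterfalvi (10.10), residual case (c*): the anchor (helper31)

`β_ψ = p μ₀ - μ_ψ`, `X_ψ = τ β_ψ`, `D = X_ψ - ∑_φ η_{φψ} - p ∑_φ η_φ` (independent of `ψ`).
-/

set_option autoImplicit false
set_option linter.unusedSectionVars false

namespace Cfsg.Agent.Lib.Helper31.PFCube

open Cfsg Cfsg.Agent.Lib.Helper4.PF Cfsg.Agent.Lib.Helper74.PF127 Cfsg.Agent.Lib.Helper24.PFCyc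

universe u

variable {G : Type u} [Group G] [Fintype G] {M W₁ U W₂ : Subgroup G} [Fintype M]
  {mu : WChar W₁ W₂ → (↥M → ℂ)} {dl : WChar W₁ W₂ → ℂ} {η : WChar W₁ W₂ → (G → ℂ)}
  {ζ : ↥M → ℂ}

/-- the conclusions of the counting module used by the anchor: `μ_ψ(1) = p`, `δ_ψ = -1` -/
def CntFacts {M W₁ W₂ : Subgroup G} (mu : WChar W₁ W₂ → (↥M → ℂ)) (dl : WChar W₁ W₂ → ℂ) : Prop :=
  ∀ ψ : WChar W₁ W₂, TrivOn W₁ ψ → ψ ≠ 1 → mu ψ 1 = (Nat.card W₂ : ℂ) ∧ dl ψ = -1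

/-- every member of `calS M` is orthogonal to `1_M` -/
theorem calS_inner_one {ξ : ↥M → ℂ} (hξ : ξ ∈ calS M) :
    classInner ξ (fun _ => 1) = 0 := by
  classical
  have hKn := Cfsg.Agent.Lib.Helper51.PFCyc.KM_normal M
  have : Fintype ↥(KM M) := Fintype.ofFinite _
  obtain ⟨θ, hθ, hθ1, -, rfl⟩ := hξ
  have hcl : IsClassFunction ↥M (fun _ : ↥M => (1 : ℂ)) := fun _ _ => rfl
  rw [Cfsg.Agent.Lib.Helper75.frobenius_reciprocity (KM M) θ hcl]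
  exact Cfsg.Agent.Lib.Helper25.irr_orthogonal _ _ hθ Cfsg.Agent.Lib.Helper78.isIrrCharacter_one hθ1

/-- facts on `β_ψ = p μ₀ - μ_ψ` -/
theorem beta_facts (c : CubeCtx M W₁ U W₂ mu dl η ζ) (hcnt : CntFacts mu dl)
    {ψ : WChar W₁ W₂} (hψ : TrivOn W₁ ψ) (hψ1 : ψ ≠ 1) :
    IsClassFunction ↥M ((Nat.card W₂ : ℂ) • muSum mu 1 - muSum mu ψ) ∧
      (∀ m : ↥M, (m : G) ∉ ⁅M, M⁆ → ((Nat.card W₂ : ℂ) • muSum mu 1 - muSum mu ψ) m = 0) ∧
      (∀ m : ↥M, (m : G) ∉ litA0 M → ((Nat.card W₂ : ℂ) • muSum mu 1 - muSum mu ψ) m = 0) ∧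
      IsGeneralizedCharacter ↥M ((Nat.card W₂ : ℂ) • muSum mu 1 - muSum mu ψ) ∧
      classInner ((Nat.card W₂ : ℂ) • muSum mu 1 - muSum mu ψ)
        ((Nat.card W₂ : ℂ) • muSum mu 1 - muSum mu ψ) =
        (Nat.card W₂ : ℂ) ^ 2 * (Nat.card W₁ : ℂ) + (Nat.card W₁ : ℂ) ∧
      classInner ((Nat.card W₂ : ℂ) • muSum mu 1 - muSum mu ψ) (fun _ => 1) = (Nat.card W₂ : ℂ) := by
  obtain ⟨h0char, h0off, h0val, h00, h01, h0S⟩ := Zero.mu0_facts c.h0 c.hf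
  obtain ⟨-, hnn, hdeg, -, -⟩ := Zero.muSum_facts c.h0 c.hf ψ hψ hψ1
  have hmem : muSum mu ψ ∈ calS M := c.hf.muSum_mem ψ hψ hψ1
  obtain ⟨hψchar, hψoff, -, -, -⟩ := Zero.calS_basic c.h0 _ hmem
  have h0cl : IsClassFunction ↥M (muSum mu 1) :=
    Cfsg.Agent.Lib.Helper25.isClassFunction_of_isCharacter h0char
  have hψcl : IsClassFunction ↥M (muSum mu ψ) :=
    Cfsg.Agent.Lib.Helper25.isClassFunction_of_isCharacter hψchar
  have hcl : IsClassFunction ↥M ((Nat.card W₂ : ℂ) • muSum mu 1 - muSum mu ψ) := by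
    intro g x
    simp only [Pi.sub_apply, Pi.smul_apply, h0cl g x, hψcl g x]
  have hK : ∀ m : ↥M, (m : G) ∉ ⁅M, M⁆ →
      ((Nat.card W₂ : ℂ) • muSum mu 1 - muSum mu ψ) m = 0 := by
    intro m hm
    simp only [Pi.sub_apply, Pi.smul_apply, h0off m hm, hψoff m hm, smul_zero, sub_zero]
  have h1 : ((Nat.card W₂ : ℂ) • muSum mu 1 - muSum mu ψ) 1 = 0 := by
    have : ((1 : ↥M) : G) ∈ ⁅M, M⁆ := Subgroup.one_mem _
    simp only [Pi.sub_apply, Pi.smul_apply, h0val 1 this, hdeg, (hcnt ψ hψ hψ1).1, smul_eq_mul]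
    ring
  have h0ψ : classInner (muSum mu 1) (muSum mu ψ) = 0 := h0S _ hmem
  have hψ0 : classInner (muSum mu ψ) (muSum mu 1) = 0 := by
    rw [← Cfsg.Agent.Lib.Helper26.classInner_conj_symm, h0ψ, map_zero]
  refine ⟨hcl, hK, Zero.off_litA0 c.h0 _ hK h1, ?_, ?_, ?_⟩
  · exact ⟨(Nat.card W₂ : ℂ) • muSum mu 1, muSum mu ψ,
      Cfsg.Agent.Lib.Helper78.IsCharacter.nsmul h0char _, hψchar, rfl⟩
  · rw [Cfsg.Agent.Lib.Helper25.classInner_sub_left, Cfsg.Agent.Lib.Helper25.classInner_sub_right,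
      Cfsg.Agent.Lib.Helper25.classInner_sub_right, Cfsg.Agent.Lib.Helper26.classInner_smul_left,
      Cfsg.Agent.Lib.Helper26.classInner_smul_left, Cfsg.Agent.Lib.Helper26.classInner_smul_right,
      Cfsg.Agent.Lib.Helper26.classInner_smul_right, h00, h0ψ, hψ0, hnn]
    simp only [Complex.conj_natCast]
    ring
  · rw [Cfsg.Agent.Lib.Helper25.classInner_sub_left, Cfsg.Agent.Lib.Helper26.classInner_smul_left, h01,
      calS_inner_one hmem]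
    ring


/-- facts on `X_ψ = τ(p μ₀ - μ_ψ)` -/
theorem X_facts (c : CubeCtx M W₁ U W₂ mu dl η ζ) (hcnt : CntFacts mu dl)
    {ψ : WChar W₁ W₂} (hψ : TrivOn W₁ ψ) (hψ1 : ψ ≠ 1) :
    IsGeneralizedCharacter G (tauM M ((Nat.card W₂ : ℂ) • muSum mu 1 - muSum mu ψ)) ∧
      IsClassFunction G (tauM M ((Nat.card W₂ : ℂ) • muSum mu 1 - muSum mu ψ)) ∧
      (∀ w : ↥(W₁ ⊔ W₂), (w : G) ∉ W₁ → (w : G) ∉ W₂ →
        tauM M ((Nat.card W₂ : ℂ) • muSum mu 1 - muSum mu ψ) (w : G) = 0) ∧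
      classInner (tauM M ((Nat.card W₂ : ℂ) • muSum mu 1 - muSum mu ψ))
        (tauM M ((Nat.card W₂ : ℂ) • muSum mu 1 - muSum mu ψ)) =
        (Nat.card W₂ : ℂ) ^ 2 * (Nat.card W₁ : ℂ) + (Nat.card W₁ : ℂ) ∧
      classInner (tauM M ((Nat.card W₂ : ℂ) • muSum mu 1 - muSum mu ψ)) (η 1) =
        (Nat.card W₂ : ℂ) := by
  obtain ⟨hcl, hK, hA, hgen, hnorm, hone⟩ := beta_facts c hcnt hψ hψ1
  refine ⟨Zero.tauM_genChar c.h0 hgen hA, Zero.tauM_isClassFunction c.h0 hcl,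
    fun w hw₁ hw₂ => Zero.tauM_vanish_W c.h0 c.hf _ hcl hK w hw₁ hw₂, ?_, ?_⟩
  · rw [Zero.tauM_inner c.h0 hcl hA hcl hA, hnorm]
  · rw [c.h0.hη.map_one, Zero.tauM_inner_one c.h0 hcl hA, hone]

/-- the anchor defect does not depend on `ψ` -/
theorem anchorD_indep (c : CubeCtx M W₁ U W₂ mu dl η ζ) (hcnt : CntFacts mu dl)
    {ψ ψ₂ : WChar W₁ W₂} (hψ : TrivOn W₁ ψ) (hψ1 : ψ ≠ 1) (hψ₂ : TrivOn W₁ ψ₂) (hψ₂1 : ψ₂ ≠ 1) :
    anchorD M mu η ψ = anchorD M mu η ψ₂ := by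
  by_cases hne : ψ = ψ₂
  · rw [hne]
  have hsub := (c.hf.musub ψ ψ₂ hψ hψ₂ hψ1 hψ₂1 hne).2
  rw [(hcnt ψ hψ hψ1).2] at hsub
  unfold anchorD
  have e : (Nat.card W₂ : ℂ) • muSum mu 1 - muSum mu ψ =
      ((Nat.card W₂ : ℂ) • muSum mu 1 - muSum mu ψ₂) - (muSum mu ψ - muSum mu ψ₂) := by abel
  rw [e, tauM_sub, hsub]
  funext g
  simp only [Pi.sub_apply, Pi.smul_apply, smul_eq_mul]
  ring

open Classical in
/-- coefficients of the anchor defect -/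
theorem anchorD_coeff (c : CubeCtx M W₁ U W₂ mu dl η ζ) (hcnt : CntFacts mu dl)
    {ψ : WChar W₁ W₂} (hψ : TrivOn W₁ ψ) (hψ1 : ψ ≠ 1) {φ ψ' : WChar W₁ W₂}
    (hφ : TrivOn W₂ φ) (hψ' : TrivOn W₁ ψ') :
    classInner (anchorD M mu η ψ) (η (φ * ψ')) =
      classInner (tauM M ((Nat.card W₂ : ℂ) • muSum mu 1 - muSum mu ψ)) (η φ) +
        classInner (tauM M ((Nat.card W₂ : ℂ) • muSum mu 1 - muSum mu ψ)) (η ψ') -
        (Nat.card W₂ : ℂ) - (if ψ' = ψ then 1 else 0) -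
        (Nat.card W₂ : ℂ) * (if ψ' = 1 then 1 else 0) := by
  classical
  obtain ⟨-, hXcl, hXW, -, hX1⟩ := X_facts c hcnt hψ hψ1
  have hrect := Cfsg.Agent.S1506.key W₁ W₂ η c.h0.hη _ hXcl hXW φ ψ' hφ hψ'
  unfold anchorD
  rw [Cfsg.Agent.Lib.Helper25.classInner_sub_left, Cfsg.Agent.Lib.Helper25.classInner_sub_left,
    Cfsg.Agent.Lib.Helper26.classInner_smul_left, hrect, hX1,
    Cfsg.Agent.Lib.Helper23.PFCycTau1Mu.etaSum_inner_eta c.h0.hη hφ hψ' hψ,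
    Cfsg.Agent.Lib.Helper23.PFCycTau1Mu.etaSum_inner_eta c.h0.hη hφ hψ' (trivOn_one W₁)]

open Classical in
/-- the rectangle rule for the anchor defect, with value `0` at `1` -/
theorem anchorD_rect (c : CubeCtx M W₁ U W₂ mu dl η ζ) (hcnt : CntFacts mu dl)
    {ψ : WChar W₁ W₂} (hψ : TrivOn W₁ ψ) (hψ1 : ψ ≠ 1) :
    classInner (anchorD M mu η ψ) (η 1) = 0 ∧
      ∀ φ ψ' : WChar W₁ W₂, TrivOn W₂ φ → TrivOn W₁ ψ' →
        classInner (anchorD M mu η ψ) (η (φ * ψ')) =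
          classInner (anchorD M mu η ψ) (η φ) + classInner (anchorD M mu η ψ) (η ψ') := by
  classical
  obtain ⟨-, -, -, -, hX1⟩ := X_facts c hcnt hψ hψ1
  have h11 := anchorD_coeff c hcnt hψ hψ1 (trivOn_one W₂) (trivOn_one W₁)
  rw [one_mul (1 : WChar W₁ W₂), hX1, if_neg (Ne.symm hψ1), if_pos rfl] at h11
  have h1 : classInner (anchorD M mu η ψ) (η 1) = 0 := by
    rw [h11]; ring
  refine ⟨h1, ?_⟩
  intro φ ψ' hφ hψ'
  have hφψ := anchorD_coeff c hcnt hψ hψ1 hφ hψ'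
  have hφ1 := anchorD_coeff c hcnt hψ hψ1 hφ (trivOn_one W₁)
  have h1ψ := anchorD_coeff c hcnt hψ hψ1 (trivOn_one W₂) hψ'
  rw [mul_one φ, hX1, if_neg (Ne.symm hψ1), if_pos rfl] at hφ1
  rw [one_mul ψ', hX1] at h1ψ
  rw [hφψ, hφ1, h1ψ]
  ring

/-- the anchor defect is a generalized character -/
theorem anchorD_gen (c : CubeCtx M W₁ U W₂ mu dl η ζ) (hcnt : CntFacts mu dl)
    {ψ : WChar W₁ W₂} (hψ : TrivOn W₁ ψ) (hψ1 : ψ ≠ 1) :
    IsGeneralizedCharacter G (anchorD M mu η ψ) := by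
  have IF := Cfsg.Agent.Lib.Helper26.irrFacts G
  obtain ⟨hXgen, -, -, -, -⟩ := X_facts c hcnt hψ hψ1
  have hE : ∀ ψ' : WChar W₁ W₂, IsGeneralizedCharacter G (etaSum η ψ') := fun ψ' =>
    IF.gen_sum _ _ (fun φ _ => Cfsg.Agent.Lib.Helper23.PFCycTau1Mu.eta_gen c.h0.hη _)
  unfold anchorD
  refine IF.gen_sub (IF.gen_sub hXgen (hE ψ)) ?_
  rw [Nat.cast_smul_eq_nsmul]
  exact IF.gen_nsmul _ (hE 1)

/-- abstract norm computation: `X = D + E₁ + p E₀` -/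
theorem norm_of_decomp {X E₁ E₀ D : G → ℂ} {p q n d₁ d₀ : ℂ} (hD : D = X - E₁ - p • E₀)
    (hp : (starRingEnd ℂ) p = p)
    (hXX : classInner X X = n) (h11 : classInner E₁ E₁ = q) (h00 : classInner E₀ E₀ = q)
    (h10 : classInner E₁ E₀ = 0) (h01 : classInner E₀ E₁ = 0)
    (hd1 : classInner D E₁ = d₁) (hd1' : classInner E₁ D = d₁)
    (hd0 : classInner D E₀ = d₀) (hd0' : classInner E₀ D = d₀) :
    classInner D D = n - 2 * d₁ - 2 * p * d₀ - q - p ^ 2 * q := by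
  have hX : X = D + E₁ + p • E₀ := by rw [hD]; abel
  rw [hX] at hXX
  simp only [Cfsg.Agent.Lib.Helper26.classInner_add_left, Cfsg.Agent.Lib.Helper26.classInner_add_right,
    Cfsg.Agent.Lib.Helper26.classInner_smul_left, Cfsg.Agent.Lib.Helper26.classInner_smul_right,
    h11, h00, h10, h01, hd1, hd1', hd0, hd0', hp] at hXX
  linear_combination hXX

/-- integrality and symmetry of the coefficients of the anchor defect -/
theorem anchorD_int (c : CubeCtx M W₁ U W₂ mu dl η ζ) (hcnt : CntFacts mu dl)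
    {ψ : WChar W₁ W₂} (hψ : TrivOn W₁ ψ) (hψ1 : ψ ≠ 1) (ω : WChar W₁ W₂) :
    ∃ n : ℤ, classInner (anchorD M mu η ψ) (η ω) = (n : ℂ) ∧
      classInner (η ω) (anchorD M mu η ψ) = (n : ℂ) := by
  obtain ⟨n, hn⟩ := Cfsg.Agent.Lib.Helper25.PFCyc.eta_inner_int η c.h0.hη _
    (anchorD_gen c hcnt hψ hψ1) ω
  refine ⟨n, hn, ?_⟩
  rw [← Cfsg.Agent.Lib.Helper26.classInner_conj_symm, hn]
  exact map_intCast (starRingEnd ℂ) n

/-- the norm of the anchor defect -/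
theorem anchorD_norm (c : CubeCtx M W₁ U W₂ mu dl η ζ) (hcnt : CntFacts mu dl)
    {ψ : WChar W₁ W₂} (hψ : TrivOn W₁ ψ) (hψ1 : ψ ≠ 1) :
    classInner (anchorD M mu η ψ) (anchorD M mu η ψ) =
      -2 * ((∑ φ ∈ trivSet W₁ W₂ W₂, classInner (anchorD M mu η ψ) (η φ)) +
        (Nat.card W₁ : ℂ) * classInner (anchorD M mu η ψ) (η ψ)) -
      2 * (Nat.card W₂ : ℂ) * ∑ φ ∈ trivSet W₁ W₂ W₂, classInner (anchorD M mu η ψ) (η φ) := by
  classical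
  obtain ⟨-, -, -, hXX, -⟩ := X_facts c hcnt hψ hψ1
  obtain ⟨h1, hrect⟩ := anchorD_rect c hcnt hψ hψ1
  have hcardT : (trivSet W₁ W₂ W₂).card = Nat.card W₁ :=
    Cfsg.Agent.Lib.Helper51.PFCyc.card_trivSet_W₂ c.h0.hW
  -- `⟨D, E₀⟩` and `⟨E₀, D⟩`
  have hd0 : classInner (anchorD M mu η ψ) (etaSum η 1) =
      ∑ φ ∈ trivSet W₁ W₂ W₂, classInner (anchorD M mu η ψ) (η φ) := by
    unfold etaSum
    rw [Cfsg.Agent.Lib.Helper25.classInner_sum_right]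
    exact Finset.sum_congr rfl (fun φ _ => by rw [mul_one φ])
  have hd0' : classInner (etaSum η 1) (anchorD M mu η ψ) =
      ∑ φ ∈ trivSet W₁ W₂ W₂, classInner (anchorD M mu η ψ) (η φ) := by
    unfold etaSum
    rw [Cfsg.Agent.Lib.Helper25.classInner_sum_left]
    refine Finset.sum_congr rfl (fun φ _ => ?_)
    obtain ⟨n, hn, hn'⟩ := anchorD_int c hcnt hψ hψ1 φ
    rw [mul_one φ, hn, hn']
  -- `⟨D, E_ψ⟩` and `⟨E_ψ, D⟩`
  have hd1 : classInner (anchorD M mu η ψ) (etaSum η ψ) =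
      (∑ φ ∈ trivSet W₁ W₂ W₂, classInner (anchorD M mu η ψ) (η φ)) +
        (Nat.card W₁ : ℂ) * classInner (anchorD M mu η ψ) (η ψ) := by
    unfold etaSum
    rw [Cfsg.Agent.Lib.Helper25.classInner_sum_right,
      Finset.sum_congr rfl (fun φ hφ => hrect φ ψ (mem_trivSet.1 hφ) hψ), Finset.sum_add_distrib,
      Finset.sum_const, hcardT, nsmul_eq_mul]
  have hd1' : classInner (etaSum η ψ) (anchorD M mu η ψ) =
      (∑ φ ∈ trivSet W₁ W₂ W₂, classInner (anchorD M mu η ψ) (η φ)) +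
        (Nat.card W₁ : ℂ) * classInner (anchorD M mu η ψ) (η ψ) := by
    rw [← hd1]
    unfold etaSum
    rw [Cfsg.Agent.Lib.Helper25.classInner_sum_left, Cfsg.Agent.Lib.Helper25.classInner_sum_right]
    refine Finset.sum_congr rfl (fun φ _ => ?_)
    obtain ⟨n, hn, hn'⟩ := anchorD_int c hcnt hψ hψ1 (φ * ψ)
    rw [hn, hn']
  have hEE := fun ψ' ψ'' (h' : TrivOn W₁ ψ') (h'' : TrivOn W₁ ψ'') =>
    Cfsg.Agent.Lib.Helper23.PFCycTau1Mu.etaSum_inner_etaSum (η := η) c.h0.hW c.h0.hη h' h''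
  have h11 := hEE ψ ψ hψ hψ
  have h00 := hEE 1 1 (trivOn_one W₁) (trivOn_one W₁)
  have h10 := hEE ψ 1 hψ (trivOn_one W₁)
  have h01 := hEE 1 ψ (trivOn_one W₁) hψ
  rw [if_pos rfl] at h11 h00
  rw [if_neg hψ1] at h10
  rw [if_neg (Ne.symm hψ1)] at h01
  have key := norm_of_decomp (X := tauM M ((Nat.card W₂ : ℂ) • muSum mu 1 - muSum mu ψ))
    (E₁ := etaSum η ψ) (E₀ := etaSum η 1) (D := anchorD M mu η ψ) (p := (Nat.card W₂ : ℂ)) rfl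
    (Complex.conj_natCast _) hXX h11 h00 h10 h01 hd1 hd1' hd0 hd0'
  rw [key]
  ring

/-- `⟨X_ψ, χ_ζ'⟩ = ⟨X_ψ, E₀⟩ - pq` and `⟨D, χ_ζ'⟩ = ∑_φ ⟨D, η_φ⟩` -/
theorem anchorD_inner_chi (c : CubeCtx M W₁ U W₂ mu dl η ζ) (hcnt : CntFacts mu dl)
    {ψ : WChar W₁ W₂} (hψ : TrivOn W₁ ψ) (hψ1 : ψ ≠ 1) {ζ' : ↥M → ℂ} (hζ' : ζ' ∈ S1 M W₁) :
    classInner (anchorD M mu η ψ) (chiOf M mu η ζ') =
      ∑ φ ∈ trivSet W₁ W₂ W₂, classInner (anchorD M mu η ψ) (η φ) := by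
  classical
  obtain ⟨hβcl, -, hβA, -, -, -⟩ := beta_facts c hcnt hψ hψ1
  obtain ⟨hαcl, -, hαA, -⟩ := alpha_facts c hζ'
  obtain ⟨-, -, -, -, -, h0ζ, -, -⟩ := S1_facts c hζ'
  obtain ⟨-, -, -, h00, -, h0S⟩ := Zero.mu0_facts c.h0 c.hf
  have hmem : muSum mu ψ ∈ calS M := c.hf.muSum_mem ψ hψ hψ1
  have hψ0 : classInner (muSum mu ψ) (muSum mu 1) = 0 := by
    rw [← Cfsg.Agent.Lib.Helper26.classInner_conj_symm, h0S _ hmem, map_zero]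
  -- `μ_ψ ≠ ζ'` by degrees
  have hne : muSum mu ψ ≠ ζ' := by
    intro heq
    have h1 := (Zero.muSum_facts c.h0 c.hf ψ hψ hψ1).2.2.1
    rw [heq, hζ'.2, (hcnt ψ hψ hψ1).1] at h1
    have h2 : Nat.card W₁ = Nat.card W₁ * Nat.card W₂ := by exact_mod_cast h1
    have hq := (cube_num c).1
    have hp := (cube_num c).2.2
    have h3 : Nat.card W₁ * 1 = Nat.card W₁ * Nat.card W₂ := by rw [mul_one]; exact h2
    have := Nat.eq_of_mul_eq_mul_left (by omega) h3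
    omega
  have hψζ : classInner (muSum mu ψ) ζ' = 0 := Zero.calS_orth c.h0 _ _ hmem hζ'.1 hne
  -- `⟨β, α⟩ = pq`
  have hβα : classInner ((Nat.card W₂ : ℂ) • muSum mu 1 - muSum mu ψ) (muSum mu 1 - ζ') =
      (Nat.card W₂ : ℂ) * (Nat.card W₁ : ℂ) := by
    rw [Cfsg.Agent.Lib.Helper25.classInner_sub_left, Cfsg.Agent.Lib.Helper25.classInner_sub_right,
      Cfsg.Agent.Lib.Helper25.classInner_sub_right, Cfsg.Agent.Lib.Helper26.classInner_smul_left,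
      Cfsg.Agent.Lib.Helper26.classInner_smul_left, h00, h0ζ, hψ0, hψζ]
    ring
  have hXτ := Zero.tauM_inner c.h0 hβcl hβA hαcl hαA
  rw [hβα] at hXτ
  -- `⟨X, E₀⟩ = ⟨D, E₀⟩ + pq`
  have hEE := fun ψ' ψ'' (h' : TrivOn W₁ ψ') (h'' : TrivOn W₁ ψ'') =>
    Cfsg.Agent.Lib.Helper23.PFCycTau1Mu.etaSum_inner_etaSum (η := η) c.h0.hW c.h0.hη h' h''
  have h00' := hEE 1 1 (trivOn_one W₁) (trivOn_one W₁)
  have h10 := hEE ψ 1 hψ (trivOn_one W₁)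
  rw [if_pos rfl] at h00'
  rw [if_neg hψ1] at h10
  have hd0 : classInner (anchorD M mu η ψ) (etaSum η 1) =
      ∑ φ ∈ trivSet W₁ W₂ W₂, classInner (anchorD M mu η ψ) (η φ) := by
    unfold etaSum
    rw [Cfsg.Agent.Lib.Helper25.classInner_sum_right]
    exact Finset.sum_congr rfl (fun φ _ => by rw [mul_one φ])
  have hXD : tauM M ((Nat.card W₂ : ℂ) • muSum mu 1 - muSum mu ψ) =
      anchorD M mu η ψ + etaSum η ψ + (Nat.card W₂ : ℂ) • etaSum η 1 := by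
    unfold anchorD; abel
  have hχ : chiOf M mu η ζ' = etaSum η 1 - tauM M (muSum mu 1 - ζ') := rfl
  have h1 := (chiOf_inner_etaSum c hζ' ψ).2
  have h2 := (chiOf_inner_etaSum c hζ' 1).2
  -- `⟨X, χ⟩ = ⟨X, E₀⟩ - pq`
  have hXχ : classInner (tauM M ((Nat.card W₂ : ℂ) • muSum mu 1 - muSum mu ψ)) (chiOf M mu η ζ') =
      classInner (tauM M ((Nat.card W₂ : ℂ) • muSum mu 1 - muSum mu ψ)) (etaSum η 1) -
        (Nat.card W₂ : ℂ) * (Nat.card W₁ : ℂ) := by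
    rw [hχ, Cfsg.Agent.Lib.Helper25.classInner_sub_right, hXτ]
  have hXE0 : classInner (tauM M ((Nat.card W₂ : ℂ) • muSum mu 1 - muSum mu ψ)) (etaSum η 1) =
      classInner (anchorD M mu η ψ) (etaSum η 1) + (Nat.card W₂ : ℂ) * (Nat.card W₁ : ℂ) := by
    rw [hXD, Cfsg.Agent.Lib.Helper26.classInner_add_left, Cfsg.Agent.Lib.Helper26.classInner_add_left,
      Cfsg.Agent.Lib.Helper26.classInner_smul_left, h10, h00']
    ring
  have hXχ' : classInner (tauM M ((Nat.card W₂ : ℂ) • muSum mu 1 - muSum mu ψ)) (chiOf M mu η ζ') =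
      classInner (anchorD M mu η ψ) (chiOf M mu η ζ') := by
    rw [hXD, Cfsg.Agent.Lib.Helper26.classInner_add_left, Cfsg.Agent.Lib.Helper26.classInner_add_left,
      Cfsg.Agent.Lib.Helper26.classInner_smul_left, h1, h2]
    ring
  rw [← hXχ', hXχ, hXE0, hd0]
  ring

open Cfsg.Agent.Lib.Helper60.PFTenT in
/-- **the anchor package**: the integer coefficients of the anchor defect `D` on the `η`-grid are
`a i` on the base column and `a i + B` elsewhere; `‖D‖² = -2(A + qB) - 2pA` and `⟨D, χ_ζ'⟩ = A`,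
where `A = ∑ a i`. -/
theorem anchor_package (c : CubeCtx M W₁ U W₂ mu dl η ζ) (hcnt : CntFacts mu dl)
    {ψ₀ : WChar W₁ W₂} (hψ₀ : TrivOn W₁ ψ₀) (hψ₀1 : ψ₀ ≠ 1) :
    ∃ (a : RowIdx W₁ W₂ → ℤ) (B : ℤ),
      (∀ i, classInner (anchorD M mu η ψ₀) (Efam η i (colBase W₁ W₂)) = (a i : ℂ)) ∧
      (∀ i j, j ≠ colBase W₁ W₂ →
        classInner (anchorD M mu η ψ₀) (Efam η i j) = (a i : ℂ) + (B : ℂ)) ∧
      classInner (anchorD M mu η ψ₀) (anchorD M mu η ψ₀) =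
        ((-2 * ((∑ i, a i) + (Nat.card W₁ : ℤ) * B) - 2 * (Nat.card W₂ : ℤ) * ∑ i, a i : ℤ) : ℂ) ∧
      ∀ ζ' ∈ S1 M W₁, classInner (anchorD M mu η ψ₀) (chiOf M mu η ζ') = ((∑ i, a i : ℤ) : ℂ) := by
  classical
  choose cD hcD hcD' using fun ω => anchorD_int c hcnt hψ₀ hψ₀1 ω
  obtain ⟨h1, hrect⟩ := anchorD_rect c hcnt hψ₀ hψ₀1
  have hq0 : (Nat.card W₁ : ℂ) ≠ 0 := by
    have := (cube_num c).1
    exact_mod_cast (by omega : Nat.card W₁ ≠ 0)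
  have hc1 : cD 1 = 0 := by
    have := hcD 1
    rw [h1] at this
    exact_mod_cast this.symm
  have hsumA : (∑ φ ∈ trivSet W₁ W₂ W₂, classInner (anchorD M mu η ψ₀) (η φ)) =
      ((∑ i : RowIdx W₁ W₂, cD i.1 : ℤ) : ℂ) := by
    rw [Int.cast_sum, Finset.sum_congr rfl (fun φ _ => hcD φ)]
    exact (Finset.sum_coe_sort (trivSet W₁ W₂ W₂) (fun φ => ((cD φ : ℤ) : ℂ))).symm
  -- constancy of `cD` on the nontrivial columns
  have hconst : ∀ ψ₂ : WChar W₁ W₂, TrivOn W₁ ψ₂ → ψ₂ ≠ 1 → cD ψ₂ = cD ψ₀ := by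
    intro ψ₂ hψ₂ hψ₂1
    have e := anchorD_indep c hcnt hψ₂ hψ₂1 hψ₀ hψ₀1
    have n2 := anchorD_norm c hcnt hψ₂ hψ₂1
    have n0 := anchorD_norm c hcnt hψ₀ hψ₀1
    rw [e, n0, hcD ψ₂, hcD ψ₀] at n2
    have : (Nat.card W₁ : ℂ) * ((cD ψ₂ : ℤ) : ℂ) = (Nat.card W₁ : ℂ) * ((cD ψ₀ : ℤ) : ℂ) := by
      linear_combination (1 / 2 : ℂ) * n2
    have := mul_left_cancel₀ hq0 this
    exact_mod_cast this
  refine ⟨fun i => cD i.1, cD ψ₀, ?_, ?_, ?_, ?_⟩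
  · intro i
    unfold Efam colBase
    rw [mul_one i.1]
    exact hcD _
  · intro i j hj
    have hj1 : j.1 ≠ 1 := by
      intro h
      apply hj
      exact Subtype.ext h
    unfold Efam
    rw [hrect i.1 j.1 (mem_trivSet.1 i.2) (mem_trivSet.1 j.2), hcD, hcD,
      hconst j.1 (mem_trivSet.1 j.2) hj1]
  · rw [anchorD_norm c hcnt hψ₀ hψ₀1, hsumA, hcD ψ₀]
    push_cast
    ring
  · intro ζ' hζ'
    rw [anchorD_inner_chi c hcnt hψ₀ hψ₀1 hζ', hsumA]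

end Cfsg.Agent.Lib.Helper31.PFCube
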