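import Mathlib
import Cfsg.Agent.Lib.Helper31.PFCubeAbs
import Cfsg.Agent.Lib.Helper31.PFCubeAnchor
import Cfsg.Agent.Lib.Helper98.PFCubeCount
import Cfsg.Agent.Lib.Helper26.PFTenTOrth
import Cfsg.Agent.Lib.Helper26.ExtMap
import Cfsg.Agent.Lib.Helper51.SibCGlue

/-!
# Peterfalvi (10.10), residual case (c*): `calS M` is coherent (helper31)

* `cube_D_chi_zero` : the norm count (`cube_abs`) gives `⟨D, χ_ζ'⟩ = 0`.
* `cube_horth_mu`   : `⟨τ(μ_ψ - p ζ'), χ_ζ'⟩ = -p`.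
* `cube_coherent`   : `calS M` is coherent (by helper51's `glue_all`).
-/

set_option autoImplicit false
set_option linter.unusedSectionVars false

namespace Cfsg.Agent.Lib.Helper31.PFCube

open Cfsg Cfsg.Agent.Lib.Helper4.PF Cfsg.Agent.Lib.Helper74.PF127 Cfsg.Agent.Lib.Helper24.PFCyc

universe u

variable {G : Type u} [Group G] [Fintype G] {M W₁ U W₂ : Subgroup G} [Fintype M]
  {mu : WChar W₁ W₂ → (↥M → ℂ)} {dl : WChar W₁ W₂ → ℂ} {η : WChar W₁ W₂ → (G → ℂ)}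
  {ζ : ↥M → ℂ}

open Cfsg.Agent.Lib.Helper60.PFTenT in
/-- the norm count: `⟨D, χ_ζ'⟩ = 0` -/
theorem cube_D_chi_zero (c : CubeCtx M W₁ U W₂ mu dl η ζ) {ψ : WChar W₁ W₂} (hψ : TrivOn W₁ ψ)
    (hψ1 : ψ ≠ 1) {ζ' : ↥M → ℂ} (hζ' : ζ' ∈ S1 M W₁) :
    classInner (anchorD M mu η ψ) (chiOf M mu η ζ') = 0 := by
  classical
  obtain ⟨hcnt, -, T, hT, hTcard⟩ := Cfsg.Agent.Lib.Helper98.PFCubeCnt.cube_count c
  obtain ⟨a, B, hbase, hoff, hnorm, hchi⟩ := anchor_package c hcnt hψ hψ1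
  have hnum := cube_num c
  have hX : ∀ k l : ↥T, classInner (chiOf M mu η k.1) (chiOf M mu η l.1) =
      if k = l then 1 else 0 := by
    intro k l
    have hk := (hT k.1).1 k.2
    have hl := (hT l.1).1 l.2
    rw [cube_chi_inner c hk hl]
    by_cases h : k = l
    · subst h
      rw [if_pos rfl]
      exact (S1_facts c hk).2.2.2.2.1
    · rw [if_neg h]
      exact Zero.calS_orth c.h0 _ _ hk.1 hl.1 (fun e => h (Subtype.ext e))
  have hXE : ∀ (k : ↥T) (i : RowIdx W₁ W₂) (j : ColIdx W₁ W₂),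
      classInner (chiOf M mu η k.1) (Efam η i j) = 0 := by
    intro k i j
    exact (cube_bridge c ((hT k.1).1 k.2)).2.2 _
  have hD : ∀ (i : RowIdx W₁ W₂) (j : ColIdx W₁ W₂),
      classInner (anchorD M mu η ψ) (Efam η i j) =
        if j = colBase W₁ W₂ then (a i : ℂ) else (a i : ℂ) + (B : ℂ) := by
    intro i j
    by_cases h : j = colBase W₁ W₂
    · rw [if_pos h, h]
      exact hbase i
    · rw [if_neg h]
      exact hoff i j h
  have hDX : ∀ k : ↥T, classInner (anchorD M mu η ψ) (chiOf M mu η k.1) =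
      ((∑ i, a i : ℤ) : ℂ) := fun k => hchi k.1 ((hT k.1).1 k.2)
  have hN : 2 * (Nat.card W₂ - 1) ≤ Fintype.card ↥T := by
    rw [Fintype.card_coe]; exact hTcard
  have hres := cube_abs (G := G) (colBase W₁ W₂) (Nat.card W₂) (Nat.card W₁)
    (Cfsg.Agent.Lib.Helper26.PFTenT.card_RowIdx c.h0.hW)
    (Cfsg.Agent.Lib.Helper26.PFTenT.card_ColIdx c.h0.hW) hnum.2.2 c.h2q hN (Efam η)
    (Cfsg.Agent.Lib.Helper26.PFTenT.Efam_orthonormal c.h0.hW η c.h0.hη)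
    (fun k : ↥T => chiOf M mu η k.1) hX hXE (anchorD M mu η ψ) a B hD hDX hnorm
  rw [hchi ζ' hζ', hres.1, Int.cast_zero]

/-- `⟨τ(μ_ψ - p ζ'), χ_ζ'⟩ = -p` -/
theorem cube_horth_mu (c : CubeCtx M W₁ U W₂ mu dl η ζ) {ψ : WChar W₁ W₂} (hψ : TrivOn W₁ ψ)
    (hψ1 : ψ ≠ 1) {ζ' : ↥M → ℂ} (hζ' : ζ' ∈ S1 M W₁) :
    classInner (tauM M (muSum mu ψ - ((Nat.card W₂ : ℕ) : ℤ) • ζ')) (chiOf M mu η ζ') =
      -(((Nat.card W₂ : ℕ) : ℤ) : ℂ) := by
  have hD0 := cube_D_chi_zero c hψ hψ1 hζ'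
  have e : muSum mu ψ - ((Nat.card W₂ : ℕ) : ℤ) • ζ' =
      (Nat.card W₂ : ℂ) • (muSum mu 1 - ζ') - ((Nat.card W₂ : ℂ) • muSum mu 1 - muSum mu ψ) := by
    funext m
    simp only [Pi.sub_apply, Pi.smul_apply, smul_eq_mul]
    simp only [zsmul_eq_mul, Int.cast_natCast]
    ring
  have hτα : tauM M (muSum mu 1 - ζ') = etaSum η 1 - chiOf M mu η ζ' := by
    unfold chiOf; abel
  have hXD : tauM M ((Nat.card W₂ : ℂ) • muSum mu 1 - muSum mu ψ) =
      anchorD M mu η ψ + etaSum η ψ + (Nat.card W₂ : ℂ) • etaSum η 1 := by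
    unfold anchorD; abel
  have h1 := (chiOf_inner_etaSum c hζ' ψ).2
  have h2 := (chiOf_inner_etaSum c hζ' 1).2
  have hn := (cube_bridge c hζ').2.1
  rw [e, tauM_sub, tauM_smul, hτα, hXD, Cfsg.Agent.Lib.Helper25.classInner_sub_left,
    Cfsg.Agent.Lib.Helper26.classInner_smul_left, Cfsg.Agent.Lib.Helper25.classInner_sub_left,
    Cfsg.Agent.Lib.Helper26.classInner_add_left, Cfsg.Agent.Lib.Helper26.classInner_add_left,
    Cfsg.Agent.Lib.Helper26.classInner_smul_left, h1, h2, hn, hD0]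
  push_cast
  ring

/-- every member of `calS M` has degree `q` or is some `μ_ψ` -/
theorem calS_split (c : CubeCtx M W₁ U W₂ mu dl η ζ) {χ : ↥M → ℂ} (hχ : χ ∈ calS M) :
    χ ∈ S1 M W₁ ∨ ∃ ψ : WChar W₁ W₂, TrivOn W₁ ψ ∧ ψ ≠ 1 ∧ χ = muSum mu ψ := by
  obtain ⟨-, hdeg, -⟩ := Cfsg.Agent.Lib.Helper98.PFCubeCnt.cube_count c
  rcases c.hf.calS_cases χ hχ with h | h
  · exact Or.inl ⟨hχ, hdeg χ hχ h.1⟩
  · exact Or.inr h

/-- `calS M` is finite -/
theorem calS_finite (M : Subgroup G) [Fintype M] : (calS M).Finite := by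
  classical
  have hKn := Cfsg.Agent.Lib.Helper51.PFCyc.KM_normal M
  have : Fintype ↥(KM M) := Fintype.ofFinite _
  have hfin : Finite (IrrCharacter ↥(KM M)) := Cfsg.Agent.Lib.Helper3.finite_irrCharacter
  have h1 : ({θ : ↥(KM M) → ℂ | IsIrrCharacter ↥(KM M) θ}).Finite := Set.finite_coe_iff.mp hfin
  refine (h1.image (indFun (KM M))).subset ?_
  rintro φ ⟨θ, hθ, -, -, rfl⟩
  exact ⟨θ, hθ, rfl⟩

/-- **`calS M` is coherent** in the residual case (c*). -/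
theorem cube_coherent (c : CubeCtx M W₁ U W₂ mu dl η ζ)
    (hτ : IsLinearIsometryOn (zspanOn (calS M) ({1}ᶜ : Set ↥M)) (tauM M)) :
    IsCoherent (calS M) ({1}ᶜ : Set ↥M) (tauM M) := by
  classical
  have IFM := Cfsg.Agent.Lib.Helper26.irrFacts ↥M
  have IFG := Cfsg.Agent.Lib.Helper26.irrFacts G
  obtain ⟨hcnt, -, -⟩ := Cfsg.Agent.Lib.Helper98.PFCubeCnt.cube_count c
  have hnum := cube_num c
  have hζS1 : ζ ∈ S1 M W₁ := ⟨c.h0.hζ, c.h0.hζ1⟩
  have hζn : classInner ζ ζ = 1 := (S1_facts c hζS1).2.2.2.2.1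
  have hq0 : (Nat.card W₁ : ℂ) ≠ 0 := by
    exact_mod_cast (by omega : Nat.card W₁ ≠ 0)
  have hfin := calS_finite M
  set A : Finset (↥M → ℂ) := {ζ} with hAdef
  set B : Finset (↥M → ℂ) := hfin.toFinset.erase ζ with hBdef
  have hAS : (↑A : Set (↥M → ℂ)) ⊆ calS M := by
    intro χ hχ
    rw [hAdef, Finset.coe_singleton, Set.mem_singleton_iff] at hχ
    rw [hχ]; exact c.h0.hζ
  have hBS : (↑B : Set (↥M → ℂ)) ⊆ calS M := by
    intro χ hχ
    rw [hBdef, Finset.mem_coe, Finset.mem_erase, Set.Finite.mem_toFinset] at hχ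
    exact hχ.2
  have hAB : Disjoint A B := by
    rw [hAdef, Finset.disjoint_singleton_left, hBdef]
    exact Finset.notMem_erase ζ _
  have hunion : (↑A : Set (↥M → ℂ)) ∪ ↑B = calS M := by
    ext χ
    rw [Set.mem_union, hAdef, hBdef, Finset.coe_singleton, Set.mem_singleton_iff, Finset.mem_coe,
      Finset.mem_erase, Set.Finite.mem_toFinset]
    constructor
    · rintro (h | h)
      · rw [h]; exact c.h0.hζ
      · exact h.2
    · intro h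
      by_cases e : χ = ζ
      · exact Or.inl e
      · exact Or.inr ⟨e, h⟩
  -- the map on `zspan {ζ}`
  have hTirr : ∀ χ ∈ A, IsIrrCharacter ↥M χ := by
    intro χ hχ
    rw [hAdef, Finset.mem_singleton] at hχ
    rw [hχ]; exact c.h0.hζirr
  have hforth : ∀ χ ∈ A, ∀ ψ ∈ A,
      classInner (chiOf M mu η χ) (chiOf M mu η ψ) = if χ = ψ then 1 else 0 := by
    intro χ hχ ψ hψ
    rw [hAdef, Finset.mem_singleton] at hχ hψ
    rw [hχ, hψ, if_pos rfl]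
    exact (cube_bridge c hζS1).2.1
  have hfgen : ∀ χ ∈ A, IsGeneralizedCharacter G (chiOf M mu η χ) := by
    intro χ hχ
    rw [hAdef, Finset.mem_singleton] at hχ
    rw [hχ]
    exact (cube_bridge c hζS1).1
  have hτ₁ := Cfsg.Agent.Lib.Helper26.extMap_isometry IFM IFG hTirr hforth hfgen
  have hτ₁ζ : Cfsg.Agent.Lib.Helper26.extMap A (chiOf M mu η) ζ = chiOf M mu η ζ :=
    Cfsg.Agent.Lib.Helper26.extMap_apply_mem IFM hTirr _ (Finset.mem_singleton_self ζ)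
  have hτ0 : tauM M (0 : ↥M → ℂ) = 0 := by
    have := tauM_zsmul (M := M) 0 (0 : ↥M → ℂ)
    simpa using this
  have hτ₁τ : ∀ α ∈ zspanOn (↑A : Set (↥M → ℂ)) ({1}ᶜ : Set ↥M),
      Cfsg.Agent.Lib.Helper26.extMap A (chiOf M mu η) α = tauM M α := by
    intro α hα
    obtain ⟨hα1, hα2⟩ := Cfsg.Agent.Lib.Helper26.mem_zspanOn_compl_one.mp hα
    have hα0 : α = 0 := by
      unfold zspan at hα1
      rw [hAdef, Finset.coe_singleton, SetLike.mem_coe, Submodule.mem_span_singleton] at hα1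
      obtain ⟨n, rfl⟩ := hα1
      have h1 : (n : ℂ) * (Nat.card W₁ : ℂ) = 0 := by
        have := hα2
        simp only [Pi.smul_apply, c.h0.hζ1] at this
        simpa [zsmul_eq_mul] using this
      have hn : n = 0 := by
        rcases mul_eq_zero.mp h1 with h | h
        · exact_mod_cast h
        · exact absurd h hq0
      rw [hn, zero_smul]
    rw [hα0, hτ0]
    unfold Cfsg.Agent.Lib.Helper26.extMap
    apply Finset.sum_eq_zero
    intro χ _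
    rw [Cfsg.Agent.Lib.Helper26.classInner_zero_left, zero_smul]
  -- degrees
  set f : (↥M → ℂ) → ℤ := fun χ =>
    if χ 1 = (Nat.card W₁ : ℂ) then 1 else ((Nat.card W₂ : ℕ) : ℤ) with hfdef
  have hfS1 : ∀ χ, χ ∈ S1 M W₁ → f χ = 1 := by
    intro χ hχ
    rw [hfdef]
    exact if_pos hχ.2
  have hdegμ : ∀ ψ : WChar W₁ W₂, TrivOn W₁ ψ → ψ ≠ 1 →
      muSum mu ψ 1 = (Nat.card W₁ : ℂ) * (Nat.card W₂ : ℂ) := by
    intro ψ hψ hψ1
    rw [(Zero.muSum_facts c.h0 c.hf ψ hψ hψ1).2.2.1, (hcnt ψ hψ hψ1).1]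
  have hfμ : ∀ ψ : WChar W₁ W₂, TrivOn W₁ ψ → ψ ≠ 1 →
      f (muSum mu ψ) = ((Nat.card W₂ : ℕ) : ℤ) := by
    intro ψ hψ hψ1
    rw [hfdef]
    apply if_neg
    rw [hdegμ ψ hψ hψ1]
    intro h
    have h2 : Nat.card W₁ * Nat.card W₂ = Nat.card W₁ := by exact_mod_cast h
    have h3 : Nat.card W₁ * Nat.card W₂ = Nat.card W₁ * 1 := by rw [mul_one]; exact h2
    have := Nat.eq_of_mul_eq_mul_left (by omega) h3
    omega
  have hchar : ∀ χ ∈ calS M, IsCharacter ↥M χ := fun χ hχ => (Zero.calS_basic c.h0 χ hχ).1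
  have hS0 : ∀ χ ∈ calS M, classInner χ χ ≠ 0 := by
    intro χ hχ
    rcases calS_split c hχ with h | ⟨ψ, hψ, hψ1, rfl⟩
    · rw [(S1_facts c h).2.2.2.2.1]; exact one_ne_zero
    · rw [(Zero.muSum_facts c.h0 c.hf ψ hψ hψ1).2.1]; exact hq0
  have hfB : ∀ χ ∈ B, χ 1 = (f χ : ℂ) * ζ 1 := by
    intro χ hχ
    have hχS := hBS (Finset.mem_coe.mpr hχ)
    rcases calS_split c hχS with h | ⟨ψ, hψ, hψ1, rfl⟩
    · rw [hfS1 χ h, h.2, c.h0.hζ1]; push_cast; ring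
    · rw [hfμ ψ hψ hψ1, hdegμ ψ hψ hψ1, c.h0.hζ1]; push_cast; ring
  have horth : ∀ χ ∈ B, ∀ ζ₀ ∈ A,
      classInner (tauM M (χ - f χ • ζ)) (Cfsg.Agent.Lib.Helper26.extMap A (chiOf M mu η) ζ₀) =
        if ζ₀ = ζ then -(f χ : ℂ) else 0 := by
    intro χ hχ ζ₀ hζ₀
    rw [hAdef, Finset.mem_singleton] at hζ₀
    rw [hζ₀, if_pos rfl, hτ₁ζ]
    have hχS := hBS (Finset.mem_coe.mpr hχ)
    have hχne : χ ≠ ζ := by
      rw [hBdef, Finset.mem_erase] at hχ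
      exact hχ.1
    rcases calS_split c hχS with h | ⟨ψ, hψ, hψ1, rfl⟩
    · rw [hfS1 χ h, one_zsmul, chiOf_sub (mu := mu) (η := η), Cfsg.Agent.Lib.Helper25.classInner_sub_left,
        cube_chi_inner c h hζS1, cube_chi_inner c hζS1 hζS1, hζn,
        Zero.calS_orth c.h0 _ _ hχS c.h0.hζ hχne]
      push_cast
      ring
    · rw [hfμ ψ hψ hψ1]
      exact cube_horth_mu c hψ hψ1 hζS1
  obtain ⟨τ₂, hτ₂, hagree, -⟩ := Cfsg.Agent.Lib.Helper51.SibC.glue_all (calS M) hchar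
    (fun χ hχ φ hφ hne => Zero.calS_orth c.h0 χ φ hχ hφ hne) hS0 (tauM M) hτ A B hAS hBS hAB
    (Cfsg.Agent.Lib.Helper26.extMap A (chiOf M mu η)) hτ₁ hτ₁τ ζ (Finset.mem_singleton_self ζ)
    (by rw [c.h0.hζ1]; exact hq0) hζn f hfB horth
  rw [hunion] at hτ₂ hagree
  -- a nonzero member of `zspanOn (calS M) {1}ᶜ`
  obtain ⟨-, -, hconj, hconjne, -⟩ := Zero.calS_basic c.h0 ζ c.h0.hζ
  refine ⟨⟨ζ - conjFun ζ, ?_, ?_⟩, τ₂, hτ₂, hagree⟩
  · rw [Cfsg.Agent.Lib.Helper26.mem_zspanOn_compl_one]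
    refine ⟨Cfsg.Agent.Lib.Helper26.zspan_sub (Cfsg.Agent.Lib.Helper26.subset_zspan _ c.h0.hζ)
      (Cfsg.Agent.Lib.Helper26.subset_zspan _ hconj), ?_⟩
    simp only [Pi.sub_apply, conjFun, c.h0.hζ1, Complex.conj_natCast, sub_self]
  · intro h
    exact hconjne (sub_eq_zero.mp h).symm

end Cfsg.Agent.Lib.Helper31.PFCube
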