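import Mathlib
import Cfsg.Agent.Lib.Helper31.PFCubeMain
import Cfsg.Agent.Lib.Helper46.PFTenVCS
import Cfsg.Agent.Lib.Helper46.PFTenVCubeV

/-!
# Peterfalvi (10.10), residual case (c*): `NoResidualCube` (helper31)

`|H| = p³`, `2q = p + 1` is impossible: `calS M` would be coherent (`cube_coherent`), against (10.8).
Together with helper46's `no_typeV'` this gives (10.10) from (10.8) and Sibley's theorem only.
-/

set_option autoImplicit false

namespace Cfsg.Agent.Lib.Helper31.PFCube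

open Cfsg Cfsg.Agent.Lib.Helper4.PF Cfsg.Agent.Lib.Helper24.PFCyc Cfsg.Agent.Lib.Helper46.PF10V

universe u

variable {G : Type u} [Group G] [Fintype G]

/-- **Peterfalvi (10.10), residual case (c*)**: given (10.8), the case `|H| = p³`, `q = (p+1)/2`
does not occur. -/
theorem noResidualCube (hG : IsMinSimpleOddOrder G) (bg : BookBGData G) (pf8 : BookPF8Data G)
    (h108 : ∀ (M : Subgroup G) [Fintype M], IsCoatom M →
      (IsOfTypeIII M ∨ IsOfTypeIV M ∨ IsOfTypeV M) → ¬ IsCoherent (calS M) {1}ᶜ (tauM M)) :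
    NoResidualCube G := by
  classical
  intro M W₁ W₂ hM hF hc3 h2q
  have : Fintype ↥M := Fintype.ofFinite _
  have hV : IsOfTypeV M := isOfTypeV_of_cube hF hc3 h2q
  obtain ⟨mu, dl, η, ζ, h0, hf⟩ :=
    exists_mctx0_of_typeIIItoV hG bg pf8 hM hF.hP (Or.inr (Or.inr hV))
  have hcard : Nat.card ↥(⁅M, M⁆ : Subgroup G) = Nat.card W₂ ^ 3 := by
    rw [← hF.hHK]; exact hc3
  have c : CubeCtx M W₁ ⊥ W₂ mu dl η ζ := ⟨h0, hf, hcard, h2q⟩
  obtain ⟨R, hR⟩ := Cfsg.Agent.Lib.Helper51.PF10.exists_coherenceSystem h0 hf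
  exact h108 M hM (Or.inr (Or.inr hV)) (cube_coherent c hR.isometry)

/-- **Peterfalvi (10.10)** from (10.8) and Sibley's theorem (6.8), second alternative, only. -/
theorem no_typeV_of_sibley (hG : IsMinSimpleOddOrder G) (bg : BookBGData G) (pf8 : BookPF8Data G)
    (h108 : ∀ (M : Subgroup G) [Fintype M], IsCoatom M →
      (IsOfTypeIII M ∨ IsOfTypeIV M ∨ IsOfTypeV M) → ¬ IsCoherent (calS M) {1}ᶜ (tauM M))
    (hSib : ∀ (H L W₁ W₂ : Subgroup G) [Fintype L], Odd (Nat.card L) → H ≤ L → W₁ ≤ L → H ≠ ⊥ →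
      W₁ ≠ ⊥ → Group.IsNilpotent H → (∀ x ∈ L, ∀ h ∈ H, x * h * x⁻¹ ∈ H) → H ⊓ W₁ = ⊥ →
      H ⊔ W₁ = L → (∀ w ∈ W₁, w ≠ 1 → H ⊓ Subgroup.centralizer ({w} : Set G) = W₂) →
      (Nat.card W₂).Prime → W₂ ≤ ⁅H, H⁆ → IsTISubset (H : Set G) →
      Subgroup.normalizer (H : Set G) = L →
      ∀ {R : (↥L → ℂ) → Finset (G → ℂ)}, Cfsg.Agent.Lib.Helper22.SibC.SFacts H L R →
      IsCoherent (Cfsg.Agent.Lib.Helper22.SibC.SS H L) ({1}ᶜ : Set ↥L)
        (Cfsg.Agent.Lib.Helper22.SibC.indL L)) :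
    ∀ M : Subgroup G, IsCoatom M → ¬ IsOfTypeV M :=
  no_typeV' hG bg pf8 h108 hSib (noResidualCube hG bg pf8 h108)

end Cfsg.Agent.Lib.Helper31.PFCube
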