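import Mathlib
import Cfsg.Agent.S1403
import Cfsg.Agent.S1409
import Cfsg.Agent.S1416
import Cfsg.Agent.S1417
import Cfsg.Agent.S1424
import Cfsg.Agent.S1432
import Cfsg.Agent.S1378
import Cfsg.Agent.S1414
import Cfsg.Agent.S1423
import Cfsg.Agent.Lib.Helper22.BGFourteenFourA
import Cfsg.Agent.Lib.Helper54.Coprime
import Cfsg.Agent.Lib.Helper54.BGElevenA
import Cfsg.Agent.Lib.Helper97.BGTwelveCor
import Cfsg.Agent.Lib.Helper55.Cores

/-!
# Bender–Glauberman Lemma 14.10(a) / first half of 14.11 (module [L2] for helper22, S1436(a))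

Setting of B&G 14.4: `M`, `N` maximal, `x ∈ M_σ#`, `C(x) ⊄ M`, `C(x) ≤ N`.  Then every prime of
`σ(N)` dividing `|M|` lies in `β(N)`.  By helper31.
-/

set_option autoImplicit false
set_option linter.style.haveILetI false
set_option linter.unusedVariables false
set_option linter.unusedSectionVars false

namespace Cfsg.Agent.Lib.Helper31.BGFourteenTen

open scoped Pointwise
open Cfsg
open Cfsg.Agent.Lib.Helper34 (UniquenessThm)
open Cfsg.Agent.Lib.Helper54
open Cfsg.Agent.Lib.Helper22.BGFourteenFour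

universe u

variable {G : Type u} [Group G] [Finite G]

theorem uniquenessThm (hG : IsMinSimpleOddOrder G) : UniquenessThm G :=
  fun K h1 h2 h3 => Cfsg.Agent.S1403.result hG K h1 h2 h3

/-- helper22's `core` (B&G 14.4 (a)-(f)) with all inputs discharged from landed statements. -/
theorem core' (hG : IsMinSimpleOddOrder G)
    (M : Subgroup G) (hM : IsCoatom M) (x : G) (hx : x ∈ sigmaCore M) (hx1 : x ≠ 1)
    (hxM : ¬ Subgroup.centralizer ({x} : Set G) ≤ M) :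
    ∃ N : Subgroup G, IsCoatom N ∧ Subgroup.centralizer ({x} : Set G) ≤ N ∧
      (∀ g : G, N ≠ M.map (MulAut.conj g).toMonoidHom) ∧
      (∀ q ∈ sigma M, q ∉ sigma N) ∧
      Group.IsNilpotent (sigmaCore N) ∧ sigmaCore N ⊓ M = ⊥ ∧
      (∀ n ∈ N, ∃ e ∈ M ⊓ N, ∃ s ∈ sigmaCore N, n = e * s) ∧
      (∃ r ∈ sigmaCore N ⊓ Subgroup.centralizer ({x} : Set G), r ≠ 1) ∧
      (∀ q : ℕ, q.Prime → q ∣ orderOf x → q ∈ tau2 N) ∧
      (∀ L : Subgroup G, IsCoatom L → Subgroup.centralizer ({x} : Set G) ≤ L → L = N) := by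
  have hσ : Cfsg.Agent.Lib.Helper54.SigmaDisjoint G := by
    intro M L hM hL hconj p hpM hpL
    obtain ⟨g, hg⟩ := (Cfsg.Agent.S1378.result hG).2 M L hM hL ⟨p, hpM, hpL⟩
    apply hconj g⁻¹
    rw [hg]
    exact Cfsg.Agent.Lib.Helper34.map_conj_inv_map_conj M g
  exact core hG (uniquenessThm hG)
    (fun M hM p _ hp X hX hN => Cfsg.Agent.S1409.result hG M hM p hp X hX hN)
    (fun M hM p _ A hA => (Cfsg.Agent.S1416.result hG M hM p A hA).1)
    (fun M hM p _ hp A hA => Cfsg.Agent.S1417.result hG M hM p hp A hA)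
    (fun M hM q _ hq X hX hX1 hXM Ms hMs hne hN S hS =>
      Cfsg.Agent.S1424.result hG M hM q hq X hX hX1 hXM Ms hMs hne hN S hS)
    (fun M hM x hx hx1 x' hx' hx'1 h =>
      Cfsg.Agent.S1432.result hG M hM x hx hx1 x' hx' hx'1 h)
    hσ M hM x hx hx1 hxM

/-- The data of B&G 14.4 for a given `N ⊇ C(x)`. -/
theorem core_of_le (hG : IsMinSimpleOddOrder G)
    (M N : Subgroup G) (hM : IsCoatom M) (hN : IsCoatom N) (x : G) (hx : x ∈ sigmaCore M)
    (hx1 : x ≠ 1) (hxM : ¬ Subgroup.centralizer ({x} : Set G) ≤ M)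
    (hxN : Subgroup.centralizer ({x} : Set G) ≤ N) :
      (∀ g : G, N ≠ M.map (MulAut.conj g).toMonoidHom) ∧
      (∀ q ∈ sigma M, q ∉ sigma N) ∧
      Group.IsNilpotent (sigmaCore N) ∧ sigmaCore N ⊓ M = ⊥ ∧
      (∀ n ∈ N, ∃ e ∈ M ⊓ N, ∃ s ∈ sigmaCore N, n = e * s) ∧
      (∃ r ∈ sigmaCore N ⊓ Subgroup.centralizer ({x} : Set G), r ≠ 1) ∧
      (∀ q : ℕ, q.Prime → q ∣ orderOf x → q ∈ tau2 N) ∧
      (∀ L : Subgroup G, IsCoatom L → Subgroup.centralizer ({x} : Set G) ≤ L → L = N) := by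
  obtain ⟨N', hN', hxN', h1, h2, h3, h4, h5, h6, h7, h8⟩ := core' hG M hM x hx hx1 hxM
  have : N = N' := h8 N hN hxN
  subst this
  exact ⟨h1, h2, h3, h4, h5, h6, h7, h8⟩

/-- Reduction to an element of prime order: `z = x ^ (o(x)/p)`. -/
theorem exists_prime_order (hG : IsMinSimpleOddOrder G)
    (M N : Subgroup G) (hM : IsCoatom M) (hN : IsCoatom N) (x : G) (hx : x ∈ sigmaCore M)
    (hx1 : x ≠ 1) (hxM : ¬ Subgroup.centralizer ({x} : Set G) ≤ M)
    (hxN : Subgroup.centralizer ({x} : Set G) ≤ N) :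
    ∃ (p : ℕ) (z : G), p.Prime ∧ orderOf z = p ∧ z ∈ sigmaCore M ∧ z ≠ 1 ∧
      ¬ Subgroup.centralizer ({z} : Set G) ≤ M ∧ Subgroup.centralizer ({z} : Set G) ≤ N ∧
      Subgroup.centralizer ({x} : Set G) ≤ Subgroup.centralizer ({z} : Set G) := by
  have hxo : orderOf x ≠ 1 := fun h => hx1 (orderOf_eq_one_iff.mp h)
  obtain ⟨p, hp, hpx⟩ := Nat.exists_prime_and_dvd hxo
  have hzo : orderOf (x ^ (orderOf x / p)) = p :=
    orderOf_pow_orderOf_div (orderOf_pos x).ne' hpx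
  set z := x ^ (orderOf x / p) with hz
  have hz1 : z ≠ 1 := by
    intro h
    rw [h, orderOf_one] at hzo
    exact hp.one_lt.ne hzo
  have hzσ : z ∈ sigmaCore M := pow_mem hx _
  have hCC : Subgroup.centralizer ({x} : Set G) ≤ Subgroup.centralizer ({z} : Set G) := by
    intro g hg
    rw [Subgroup.mem_centralizer_singleton_iff] at hg ⊢
    rw [hz]
    exact ((Commute.pow_left (show Commute x g from hg.symm) _).eq).symm
  have hzM : ¬ Subgroup.centralizer ({z} : Set G) ≤ M := fun h => hxM (hCC.trans h)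
  obtain ⟨Nz, hNz, hzNz, -⟩ := core' hG M hM z hzσ hz1 hzM
  have h8 := (core_of_le hG M N hM hN x hx hx1 hxM hxN).2.2.2.2.2.2.2
  have : Nz = N := h8 Nz hNz (hCC.trans hzNz)
  subst this
  exact ⟨p, z, hp, hzo, hzσ, hz1, hzM, hzNz, hCC⟩

/-- If `A ≤ O_{q'}(N)` normalizes the `q`-subgroup `T ≤ N`, then `A` centralizes `T`. -/
theorem commute_of_le_pPrimeCore (N : Subgroup G) (q : ℕ) [Fact q.Prime] (A T : Subgroup G)
    (hAN : A ≤ N) (hTN : T ≤ N) (hA : A.subgroupOf N ≤ pPrimeCore q ↥N) (hT : IsPGroup q T)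
    (hAT : A ≤ Subgroup.normalizer (T : Set G)) : ∀ a ∈ A, ∀ t ∈ T, a * t = t * a := by
  intro a ha t ht
  have hc1 : a * t * a⁻¹ * t⁻¹ ∈ T := by
    have h1 : a * t * a⁻¹ ∈ T := (Subgroup.mem_normalizer_iff.mp (hAT ha) t).mp ht
    exact T.mul_mem h1 (T.inv_mem ht)
  set a' : ↥N := ⟨a, hAN ha⟩ with ha'
  set t' : ↥N := ⟨t, hTN ht⟩ with ht'
  have ha'O : a' ∈ pPrimeCore q ↥N := hA (Subgroup.mem_subgroupOf.mpr ha)
  haveI hn : (pPrimeCore q ↥N).Normal := Cfsg.Agent.Lib.Helper55.pPrimeCore_normal' q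
  have hc2 : a' * t' * a'⁻¹ * t'⁻¹ ∈ pPrimeCore q ↥N := by
    have h2 : t' * a'⁻¹ * t'⁻¹ ∈ pPrimeCore q ↥N :=
      hn.conj_mem _ ((pPrimeCore q ↥N).inv_mem ha'O) t'
    have : a' * t' * a'⁻¹ * t'⁻¹ = a' * (t' * a'⁻¹ * t'⁻¹) := by group
    rw [this]
    exact (pPrimeCore q ↥N).mul_mem ha'O h2
  set c' : ↥N := a' * t' * a'⁻¹ * t'⁻¹ with hc'
  have hcoe : (c' : G) = a * t * a⁻¹ * t⁻¹ := by simp [hc', ha', ht']
  have ho1 : (orderOf c').Coprime q := by
    have h1 : orderOf c' ∣ Nat.card (pPrimeCore q ↥N) := by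
      have := orderOf_dvd_natCard (⟨c', hc2⟩ : pPrimeCore q ↥N)
      rwa [Subgroup.orderOf_mk] at this
    exact Nat.Coprime.coprime_dvd_left h1 (Cfsg.Agent.Lib.Helper55.card_pPrimeCore_coprime q)
  obtain ⟨k, hk⟩ := hT ⟨a * t * a⁻¹ * t⁻¹, hc1⟩
  have hk' : (a * t * a⁻¹ * t⁻¹) ^ q ^ k = 1 := by
    have := congrArg Subtype.val hk
    simpa using this
  have ho2 : orderOf c' ∣ q ^ k := by
    rw [← Subgroup.orderOf_coe, hcoe]
    exact orderOf_dvd_of_pow_eq_one hk'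
  have ho3 : orderOf c' = 1 := Nat.Coprime.eq_one_of_dvd (Nat.Coprime.pow_right k ho1) ho2
  have hc1' : c' = 1 := orderOf_eq_one_iff.mp ho3
  have hc : a * t * a⁻¹ * t⁻¹ = 1 := by rw [← hcoe, hc1']; rfl
  calc a * t = (a * t * a⁻¹ * t⁻¹) * (t * a) := by group
    _ = t * a := by rw [hc, one_mul]

theorem le_sigmaCore_of_isPGroup (hG : IsMinSimpleOddOrder G) (N : Subgroup G) (hN : IsCoatom N)
    {q : ℕ} [Fact q.Prime] (hq : q ∈ sigma N) {Y : Subgroup G} (hYN : Y ≤ N) (hY : IsPGroup q Y) :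
    Y ≤ sigmaCore N := by
  apply le_sigmaCore_of_isPi hG (uniquenessThm hG) N hN hYN
  intro r hr hrY
  obtain ⟨k, hk⟩ := IsPGroup.iff_card.mp hY
  rw [hk] at hrY
  have : r = q := (Nat.prime_dvd_prime_iff_eq hr Fact.out).mp (hr.dvd_of_dvd_pow hrY)
  rw [this]
  exact hq

/-- An element of prime order `q` in a subgroup `M` whose order is divisible by `q`. -/
theorem exists_orderOf_eq_of_dvd_card (M : Subgroup G) {q : ℕ} [Fact q.Prime]
    (hqM : q ∣ Nat.card M) : ∃ y ∈ M, orderOf y = q := by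
  obtain ⟨y, hy⟩ := exists_prime_orderOf_dvd_card' q hqM
  exact ⟨y, y.2, by rw [← hy, Subgroup.orderOf_coe]⟩

theorem dvd_card_sigmaCore (hG : IsMinSimpleOddOrder G) (N : Subgroup G) (hN : IsCoatom N)
    {q : ℕ} [Fact q.Prime] (hq : q ∈ sigma N) : q ∣ Nat.card (sigmaCore N) := by
  obtain ⟨y, hyN, hyo⟩ := exists_orderOf_eq_of_dvd_card N hq.2.1
  have h1 : Subgroup.zpowers y ≤ sigmaCore N := by
    apply le_sigmaCore_of_isPGroup hG N hN hq ((Subgroup.zpowers_le).mpr hyN)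
    apply IsPGroup.of_card (n := 1)
    rw [Nat.card_zpowers, hyo, pow_one]
  have h2 := Subgroup.card_dvd_of_le h1
  rwa [Nat.card_zpowers, hyo] at h2

/-- A prime power `p ^ k` is coprime to a number all of whose prime divisors are `< p`. -/
theorem coprime_pow_of_forall_prime_le {p q k n : ℕ} (hp : p.Prime) (hqp : q < p)
    (h : ∀ r : ℕ, r.Prime → r ∣ n → r ≤ q) : (p ^ k).Coprime n := by
  apply Nat.Coprime.pow_left
  rw [Nat.Prime.coprime_iff_not_dvd hp]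
  intro hd
  exact absurd (h p hp hd) (not_le.mpr hqp)

/-- B&G 14.10 step: if `p ∈ τ₂(N)`, `q ∈ σ(N) \ β(N)` then `p < q`. -/
theorem lt_of_tau2_of_sigma_not_beta (hG : IsMinSimpleOddOrder G) (N : Subgroup G)
    (hN : IsCoatom N) {p q : ℕ} [Fact p.Prime] [Fact q.Prime] (hp : p ∈ tau2 N)
    (hq : q ∈ sigma N) (hqβ : q ∉ beta N) : p < q := by
  have hpp : p.Prime := Fact.out
  have hqp : q.Prime := Fact.out
  have hpq : p ≠ q := by
    rintro rfl
    exact hp.2.1 hq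
  by_contra hlt
  have hlt' : q < p := lt_of_le_of_ne (not_lt.mp hlt) (Ne.symm hpq)
  have h14 := ((Cfsg.Agent.S1414.result hG N hN).2.2.2.2 q hqp hq.2.1 hqβ).2.2
  obtain ⟨A, hAN, hAel, hAc⟩ := Cfsg.Agent.Lib.Helper97.BGTwelve.exists_elemAb_sq_of_not_pRankLE_one N hp.2.2.2
  haveI hn : (pPrimeCore q ↥N).Normal := Cfsg.Agent.Lib.Helper55.pPrimeCore_normal' q
  have hAsub : Nat.card (A.subgroupOf N) = p ^ 2 := by
    rw [← hAc]
    exact Nat.card_congr (Subgroup.subgroupOfEquivOfLe hAN).toEquiv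
  have hAO : A.subgroupOf N ≤ pPrimeCore q ↥N := by
    apply le_of_normal_of_coprime_index
    rw [hAsub]
    exact coprime_pow_of_forall_prime_le hpp hlt' h14
  -- an `A`-invariant Sylow `q`-subgroup of `N_σ`
  have hAK : A ≤ Subgroup.normalizer (sigmaCore N : Set G) :=
    hAN.trans (le_normalizer_sigmaCore N)
  have hcop : (Nat.card A).Coprime (Nat.card (sigmaCore N)) := by
    rw [hAc]
    apply Nat.Coprime.pow_left
    rw [Nat.Prime.coprime_iff_not_dvd hpp]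
    intro hd
    exact hp.2.1 (sigmaCore_isPi N p hpp hd)
  have hAsolv : Group.IsSolvable A :=
    Group.isSolvable_of_comm (fun a b => hAel.1.is_comm.comm a b)
  obtain ⟨T, hT⟩ := exists_invariant_sylow A (sigmaCore N) hAK hcop (Or.inl hAsolv) q
  set T' : Subgroup G := (T : Subgroup ↥(sigmaCore N)).map (sigmaCore N).subtype with hT'
  have hT'σ : T' ≤ sigmaCore N := Subgroup.map_subtype_le _
  have hT'q : IsPGroup q T' := T.2.map _
  have hcomm := commute_of_le_pPrimeCore N q A T' hAN (hT'σ.trans (sigmaCore_le N)) hAO hT'q hT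
  have h17 := (Cfsg.Agent.S1417.result hG N hN p hp A ⟨hAN, hAel, hAc⟩).2.2.2.1
  have hT'bot : T' ≤ ⊥ := by
    rw [← h17]
    refine le_inf hT'σ ?_
    intro t ht
    rw [Subgroup.mem_centralizer_iff]
    intro a ha
    exact hcomm a ha t ht
  have hTbot : (T : Subgroup ↥(sigmaCore N)) = ⊥ := by
    rw [le_bot_iff, hT', Subgroup.map_eq_bot_iff_of_injective _ (Subgroup.subtype_injective _)]
      at hT'bot
    exact hT'bot
  exact T.ne_bot_of_dvd_card (dvd_card_sigmaCore hG N hN hq) hTbot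

/-- **[L2]** (B&G 14.10(a) / first half of 14.11): in the setting of B&G 14.4, the primes of
`σ(N)` dividing `|M|` lie in `β(N)`. -/
theorem mem_beta_of_mem_sigma_of_dvd (hG : IsMinSimpleOddOrder G) (M N : Subgroup G)
    (hM : IsCoatom M) (hN : IsCoatom N) (x : G) (hx : x ∈ sigmaCore M) (hx1 : x ≠ 1)
    (hxM : ¬ Subgroup.centralizer ({x} : Set G) ≤ M)
    (hxN : Subgroup.centralizer ({x} : Set G) ≤ N) {q : ℕ} (hq : q ∈ sigma N)
    (hqM : q ∣ Nat.card M) : q ∈ beta N := by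
  obtain ⟨p, z, hpp, hzo, hzσ, hz1, hzM, hzN, hCC⟩ :=
    exists_prime_order hG M N hM hN x hx hx1 hxM hxN
  obtain ⟨hconj, hσσ, hNσnil, hNσM, hfact, hr, hτ, huniq⟩ :=
    core_of_le hG M N hM hN z hzσ hz1 hzM hzN
  haveI : Fact p.Prime := ⟨hpp⟩
  have hqp : q.Prime := hq.1
  haveI : Fact q.Prime := ⟨hqp⟩
  have hpτ : p ∈ tau2 N := hτ p hpp (by rw [hzo])
  have hZσ : Subgroup.zpowers z ≤ sigmaCore M := (Subgroup.zpowers_le).mpr hzσ
  have hpσ : p ∈ sigma M := by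
    apply sigmaCore_isPi M p hpp
    have := Subgroup.card_dvd_of_le hZσ
    rwa [Nat.card_zpowers, hzo] at this
  have hqσM : q ∉ sigma M := fun h => hσσ q h hq
  by_contra hqβ
  have hlt : p < q := lt_of_tau2_of_sigma_not_beta hG N hN hpτ hq hqβ
  -- `p ∉ β(M)`
  have hpβ : p ∉ beta M := by
    intro hpβ
    have h23 := (Cfsg.Agent.S1423.result hG M hM p hpσ (Subgroup.zpowers z)
      (hZσ.trans (sigmaCore_le M)) (by rw [Nat.card_zpowers, hzo]) default (Or.inl hpβ)).1.1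
    apply hzM
    refine le_trans ?_ h23
    have := centralizer_le_centralizer_zpowers_pow z 1
    rwa [pow_one] at this
  have h14 := ((Cfsg.Agent.S1414.result hG M hM).2.2.2.2 p hpp hpσ.2.1 hpβ).2.2
  -- `Y ≤ M` of order `q`
  obtain ⟨y, hyM, hyo⟩ := exists_orderOf_eq_of_dvd_card M hqM
  set Y : Subgroup G := Subgroup.zpowers y with hY
  have hYM : Y ≤ M := (Subgroup.zpowers_le).mpr hyM
  have hYc : Nat.card Y = q := by rw [hY, Nat.card_zpowers, hyo]
  haveI hn : (pPrimeCore p ↥M).Normal := Cfsg.Agent.Lib.Helper55.pPrimeCore_normal' p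
  have hYsub : Nat.card (Y.subgroupOf M) = q ^ 1 := by
    rw [pow_one, ← hYc]
    exact Nat.card_congr (Subgroup.subgroupOfEquivOfLe hYM).toEquiv
  have hYO : Y.subgroupOf M ≤ pPrimeCore p ↥M := by
    apply le_of_normal_of_coprime_index
    rw [hYsub]
    exact coprime_pow_of_forall_prime_le hqp hlt h14
  have hYK : Y ≤ Subgroup.normalizer (sigmaCore M : Set G) :=
    hYM.trans (le_normalizer_sigmaCore M)
  have hcop : (Nat.card Y).Coprime (Nat.card (sigmaCore M)) := by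
    rw [hYc, Nat.Prime.coprime_iff_not_dvd hqp]
    intro hd
    exact hqσM (sigmaCore_isPi M q hqp hd)
  have hYsolv : Group.IsSolvable Y := by
    haveI : IsCyclic Y := by rw [hY]; infer_instance
    infer_instance
  obtain ⟨P1, hP1⟩ := exists_invariant_sylow Y (sigmaCore M) hYK hcop (Or.inl hYsolv) p
  set P1' : Subgroup G := (P1 : Subgroup ↥(sigmaCore M)).map (sigmaCore M).subtype with hP1'
  have hP1σ : P1' ≤ sigmaCore M := Subgroup.map_subtype_le _
  have hP1p : IsPGroup p P1' := P1.2.map _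
  have hcomm := commute_of_le_pPrimeCore M p Y P1' hYM (hP1σ.trans (sigmaCore_le M)) hYO hP1p hP1
  -- `z` lies in a conjugate of `P1`
  have hzp : IsPGroup p (Subgroup.zpowers (⟨z, hzσ⟩ : ↥(sigmaCore M))) := by
    apply IsPGroup.of_card (n := 1)
    rw [Nat.card_zpowers, pow_one, ← hzo]
    exact (Subgroup.orderOf_mk z hzσ)
  obtain ⟨P2, hP2⟩ := hzp.exists_le_sylow
  obtain ⟨m, hm⟩ := MulAction.exists_smul_eq (↥(sigmaCore M)) P1 P2
  have hzP2 : (⟨z, hzσ⟩ : ↥(sigmaCore M)) ∈ P2 := hP2 (Subgroup.mem_zpowers _)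
  have hzP1 : m⁻¹ * (⟨z, hzσ⟩ : ↥(sigmaCore M)) * m ∈ (P1 : Subgroup ↥(sigmaCore M)) := by
    rw [← hm] at hzP2
    have h1 : (⟨z, hzσ⟩ : ↥(sigmaCore M)) ∈ MulAut.conj m • (P1 : Subgroup ↥(sigmaCore M)) := hzP2
    rw [Subgroup.mem_pointwise_smul_iff_inv_smul_mem] at h1
    simpa [MulAut.smul_def, MulAut.conj_apply] using h1
  have hzP1' : (m : G)⁻¹ * z * (m : G) ∈ P1' := ⟨_, hzP1, by simp⟩
  -- `y2 := m y m⁻¹` commutes with `z`
  have hc1 := hcomm y (Subgroup.mem_zpowers y) _ hzP1'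
  set y2 : G := (m : G) * y * (m : G)⁻¹ with hy2
  have hmM : (m : G) ∈ M := sigmaCore_le M m.2
  have hy2M : y2 ∈ M := M.mul_mem (M.mul_mem hmM hyM) (M.inv_mem hmM)
  have hy2z : y2 * z = z * y2 := by
    rw [hy2]
    calc (m : G) * y * (m : G)⁻¹ * z = (m : G) * (y * ((m : G)⁻¹ * z * (m : G))) * (m : G)⁻¹ := by
          group
      _ = (m : G) * (((m : G)⁻¹ * z * (m : G)) * y) * (m : G)⁻¹ := by rw [hc1]
      _ = z * ((m : G) * y * (m : G)⁻¹) := by group
  have hy2N : y2 ∈ N := by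
    apply hzN
    rw [Subgroup.mem_centralizer_singleton_iff]
    exact hy2z
  have hy2o : orderOf y2 = q := by
    rw [hy2, ← hyo]
    have : (m : G) * y * (m : G)⁻¹ = MulAut.conj (m : G) y := by simp [MulAut.conj_apply]
    rw [this]
    exact MulEquiv.orderOf_eq _ y
  have hY2σ : Subgroup.zpowers y2 ≤ sigmaCore N := by
    apply le_sigmaCore_of_isPGroup hG N hN hq ((Subgroup.zpowers_le).mpr hy2N)
    apply IsPGroup.of_card (n := 1)
    rw [Nat.card_zpowers, hy2o, pow_one]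
  have hy2bot : y2 ∈ sigmaCore N ⊓ M := ⟨hY2σ (Subgroup.mem_zpowers y2), hy2M⟩
  rw [hNσM, Subgroup.mem_bot] at hy2bot
  rw [hy2bot, orderOf_one] at hy2o
  exact hqp.one_lt.ne hy2o

end Cfsg.Agent.Lib.Helper31.BGFourteenTen
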