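/-
helper31: BP-[U-A] Lemma A (normal case of purity), hypothesis-free, exact `BP_SKEL2d` statement:
`lemmaA_of_D3` + helper78's BP-[D3] `isNormalSubpair_iff_idem`.
-/
import Mathlib
import Cfsg.Agent.Lib.Helper31.BPLemmaAFinal
import Cfsg.Agent.Lib.Helper78.BPDict3

set_option autoImplicit false

namespace Cfsg.Agent.Lib.Helper31.BP

open Cfsg Cfsg.Agent.Lib.Helper16 Cfsg.Agent.Lib.Helper92.BP

section Blocks
variable {G : Type*} [Group G] [Finite G] {p : ℕ} [Fact p.Prime] {M : Ideal AlgInt}
  [hMp : M.IsPrime]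

/-- BP-[U-A] : Lemma A (normal case of purity) -/
theorem lemmaA (hM : IsPModular p M) {Q P : Subgroup G} (hP : IsPGroup p P) (hQP : Q ≤ P)
    (hPN : P ≤ Subgroup.normalizer (Q : Set G)) {i : MonoidAlgebra (localSubring M) G}
    (hi : IsLocalPrim (localSubring M) P i)
    {e : Set (IrrCharacter (Subgroup.centralizer (P : Set G)))} (he : IsPBlock M e)
    (hie : br (localSubring M) P i * blockIdemK M e = br (localSubring M) P i) :
    ∃ f : Set (IrrCharacter (Subgroup.centralizer (Q : Set G))),
      IsNormalSubpair p M Q f P e ∧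
        br (localSubring M) Q i * blockIdemK M f = br (localSubring M) Q i :=
  lemmaA_of_D3 hM hP hQP hPN hi he hie
    (fun f h => (Cfsg.Agent.Lib.Helper78.BP.isNormalSubpair_iff_idem hM Q P f e).2 h)

end Blocks

end Cfsg.Agent.Lib.Helper31.BP
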