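/-
helper31: preparation for BP-[U-A] (Lemma A of the Broué–Puig project, helper92's sheet):
general facts on `incl`, `br` and central elements of group algebras.
-/
import Mathlib
import Cfsg.Agent.Lib.Helper92.BPBlock
import Cfsg.Agent.Lib.Helper9.BPTr2
import Cfsg.Agent.Lib.Helper9.BPBr3
import Cfsg.Agent.Lib.Helper40.BPBr1
import Cfsg.Agent.Lib.Helper40.BPConj
import Cfsg.Agent.Lib.Helper44.BPBr5

set_option autoImplicit false

namespace Cfsg.Agent.Lib.Helper31.BP

open Cfsg.Agent.Lib.Helper92.BP Cfsg.Agent.Lib.Helper9.BP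

section
variable {R : Type*} [CommRing R] {G : Type*} [Group G]

open scoped Classical in
/-- coefficients of the image of `R[K]` in `R[G]` -/
theorem coeff_incl (K : Subgroup G) (a : MonoidAlgebra R K) (g : G) :
    (incl R K a).coeff g = if h : g ∈ K then a.coeff ⟨g, h⟩ else 0 := by
  show (MonoidAlgebra.mapDomain K.subtype a).coeff g = _
  rw [MonoidAlgebra.coeff_mapDomain]
  by_cases h : g ∈ K
  · rw [dif_pos h]
    exact Finsupp.mapDomain_apply (f := K.subtype) Subtype.val_injective a.coeff ⟨g, h⟩
  · rw [dif_neg h]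
    apply Finsupp.mapDomain_of_notMem_range
    rintro ⟨x, rfl⟩
    exact h x.2

theorem incl_of (K : Subgroup G) (c : K) :
    incl R K (MonoidAlgebra.of R K c) = MonoidAlgebra.of R G (c : G) := by
  show MonoidAlgebra.mapDomain K.subtype (MonoidAlgebra.of R K c) = _
  rw [MonoidAlgebra.of_apply, MonoidAlgebra.mapDomain_single, MonoidAlgebra.of_apply]
  rfl

/-- the image of `R[K]`, `K ≤ C_G(Q)`, consists of `Q`-fixed elements -/
theorem incl_mem_fixedAlg {Q K : Subgroup G} (hK : K ≤ Subgroup.centralizer (Q : Set G))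
    (a : MonoidAlgebra R K) : incl R K a ∈ fixedAlg R Q := by
  rw [Cfsg.Agent.Lib.Helper40.BP.mem_fixedAlg_iff_coeff]
  intro q hq x
  have hcomm : ∀ w ∈ K, q * w * q⁻¹ = w := by
    intro w hw
    have := hK hw
    rw [Subgroup.mem_centralizer_iff] at this
    rw [this q hq, mul_inv_cancel_right]
  rw [coeff_incl, coeff_incl]
  by_cases hx : x ∈ K
  · have hx' : q * x * q⁻¹ ∈ K := by rw [hcomm x hx]; exact hx
    rw [dif_pos hx, dif_pos hx']
    congr 1
    exact Subtype.ext (hcomm x hx)
  · have hx' : q * x * q⁻¹ ∉ K := by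
      intro h
      apply hx
      have h2 := hcomm _ h
      have h3 : q * (q * x * q⁻¹) * q⁻¹ = q * x * q⁻¹ := h2
      have h4 : q * x * q⁻¹ = x := by
        have := congrArg (fun t => q⁻¹ * t * q) h3
        beta_reduce at this
        have e1 : q⁻¹ * (q * (q * x * q⁻¹) * q⁻¹) * q = q * x * q⁻¹ := by group
        have e2 : q⁻¹ * (q * x * q⁻¹) * q = x := by group
        rw [e1, e2] at this
        exact this
      rw [← h4]; exact h
    rw [dif_neg hx, dif_neg hx']

/-- an element commuting with all group elements is central -/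
theorem central_of_commute_of {H : Type*} [Group H] {k : Type*} [CommRing k]
    (Z : MonoidAlgebra k H) (h : ∀ c : H, Z * MonoidAlgebra.of k H c = MonoidAlgebra.of k H c * Z)
    (y : MonoidAlgebra k H) : Z * y = y * Z := by
  induction y using MonoidAlgebra.induction_on with
  | of c => exact h c
  | add x y hx hy => rw [mul_add, add_mul, hx, hy]
  | smul r x hx => rw [mul_smul_comm, smul_mul_assoc, hx]

end

section
variable {R : Type*} [CommRing R] [IsLocalRing R] {G : Type*} [Group G]

/-- `Br_P` factors through `Br_Q` for `Q ≤ P` -/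
theorem br_eq_of_br_eq {Q P : Subgroup G} (hQP : Q ≤ P) {a b : MonoidAlgebra R G}
    (h : br R Q a = br R Q b) : br R P a = br R P b := by
  apply Cfsg.Agent.Lib.Helper40.BP.br_ext
  intro z
  have hz : (z : G) ∈ Subgroup.centralizer (Q : Set G) :=
    Subgroup.centralizer_le (by exact_mod_cast hQP) z.2
  have h1 := congrArg (fun y => y.coeff ⟨(z : G), hz⟩) h
  simp only [coeff_br'] at h1
  rw [coeff_br', coeff_br']
  exact h1

/-- the Brauer map on the image of `R[C_G(Q)]` is the reduction -/
theorem br_incl (Q : Subgroup G) (a : MonoidAlgebra R (Subgroup.centralizer (Q : Set G))) :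
    br R Q (incl R _ a) = red R _ a :=
  Cfsg.Agent.Lib.Helper44.BP.br_mapDomain Q a

end

end Cfsg.Agent.Lib.Helper31.BP
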