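/-
helper31: module BP-[U-F3] of helper92's sheet (Broué–Puig project, batch 3b): the product formula
for relative traces, `Tr_X^Y(a) Tr_Z^Y(b) = Σ_{y ∈ Z\Y/X} Tr_{Z ∩ yXy⁻¹}^Y((y a y⁻¹) b)`.
Uses helper23's Mackey formula and helper9's transversal calculus.
-/
import Mathlib
import Cfsg.Agent.Lib.Helper92.BPGAlg
import Cfsg.Agent.Lib.Helper9.BPTr2
import Cfsg.Agent.Lib.Helper23.BPMackey
import Cfsg.Agent.Lib.Helper40.BPTr1

set_option autoImplicit false

namespace Cfsg.Agent.Lib.Helper31.BP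

open Cfsg.Agent.Lib.Helper92.BP Cfsg.Agent.Lib.Helper9.BP

section
variable {R : Type*} [CommRing R] {G : Type*} [Group G]

/-- the relative trace of a finite sum -/
theorem relTr_finset_sum [Finite G] (S Q : Subgroup G) {ι : Type*} (s : Finset ι)
    (f : ι → MonoidAlgebra R G) :
    relTr R S Q (∑ i ∈ s, f i) = ∑ i ∈ s, relTr R S Q (f i) := by
  classical
  induction s using Finset.induction_on with
  | empty => simp [relTr_zero']
  | insert i s hi ih => rw [Finset.sum_insert hi, Finset.sum_insert hi, relTr_add', ih]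

/-- BP-[U-F3] : product formula for relative traces (Mackey + `mul_relTr`) -/
theorem relTr_mul_relTr [Finite G] {X Z Y : Subgroup G} (hX : X ≤ Y) (hZ : Z ≤ Y)
    {a b : MonoidAlgebra R G} (ha : a ∈ fixedAlg R X) (hb : b ∈ fixedAlg R Z) (D : Finset G)
    (hDY : ∀ y ∈ D, y ∈ Y) (hD : ∀ q ∈ Y, ∃! y, y ∈ D ∧ ∃ z ∈ Z, ∃ x ∈ X, q = z * y * x) :
    relTr R X Y a * relTr R Z Y b =
      ∑ y ∈ D, relTr R (Z ⊓ X.map (MulAut.conj y).toMonoidHom) Y (conj R y a * b) := by
  classical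
  have hc : relTr R X Y a ∈ fixedAlg R Y := Cfsg.Agent.Lib.Helper40.BP.relTr_mem_fixedAlg hX ha
  rw [mul_relTr' Z Y hc b]
  rw [Cfsg.Agent.Lib.Helper23.BP.mackey hX hZ ha D hDY hD, Finset.sum_mul, relTr_finset_sum]
  refine Finset.sum_congr rfl fun y _ => ?_
  rw [relTr_mul' _ Z hb]
  have hfix : conj R y a * b ∈ fixedAlg R (Z ⊓ X.map (MulAut.conj y).toMonoidHom) := by
    refine Subalgebra.mul_mem _ ?_ ?_
    · exact fixedAlg_anti' inf_le_right (conj_mem_fixedAlg' y X ha)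
    · exact fixedAlg_anti' inf_le_left hb
  exact relTr_trans inf_le_left hZ hfix

end

end Cfsg.Agent.Lib.Helper31.BP
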