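/-
helper31 shared library: the B-property (Def_Balance) in the language of `PCompIn`; centre of a
group with simple non-abelian `F*`.
All declarations live in `Cfsg.Agent.Lib.Helper31`.
-/
import Mathlib
import Cfsg.Prelude.Def_Local
import Cfsg.Prelude.Def_Balance
import Cfsg.Agent.Lib.Helper31.PCT3
import Cfsg.Agent.Lib.Helper31.BpOrderP
import Cfsg.Agent.Lib.Helper22.FStar
import Cfsg.Agent.Lib.Helper22.ComponentsMap

set_option autoImplicit false

namespace Cfsg.Agent.Lib.Helper31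

open Cfsg Cfsg.Agent.Lib.Helper72
open scoped commutatorElement

universe u

section BProp

variable {G : Type u} [Group G]

open Cfsg.Agent.Lib.Helper22 in
/-- With the B-property and `O(X) = 1`, the 2-components of involution centralizers are
quasisimple. -/
theorem isQuasisimple_of_hasBProperty [Finite G] (hB : HasBProperty G) (hO : oddCore G = ⊥)
    {t : G} (ht : orderOf t = 2) {K : Subgroup G}
    (hK : PCompIn 2 K (Subgroup.centralizer ({t} : Set G))) : IsQuasisimple ↥K := by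
  have : Fact (Nat.Prime 2) := ⟨Nat.prime_two⟩
  have h1 := hB t ht
  rw [hO, le_bot_iff, Subgroup.map_commutator] at h1
  have hK' := (isPComponent_subgroupOf_iff hK.le).mpr hK
  have h2 : K ≤ (pLayer 2 ↥(Subgroup.centralizer ({t} : Set G))).map
      (Subgroup.centralizer ({t} : Set G)).subtype := by
    have := Subgroup.map_mono (f := (Subgroup.centralizer ({t} : Set G)).subtype)
      (pComponent_le_pLayer 2 hK')
    rwa [Subgroup.map_subgroupOf_eq_of_le hK.le] at this
  have h3 : OIn 2 K ≤ (oddCore ↥(Subgroup.centralizer ({t} : Set G))).map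
      (Subgroup.centralizer ({t} : Set G)).subtype := by
    rw [OIn_eq_inf_of_relSN 2 hK.1]
    exact inf_le_left
  rw [hK.2.isQuasisimple_iff_commutator, eq_bot_iff, ← h1]
  exact Subgroup.commutator_mono h2 h3

open Cfsg.Agent.Lib.Helper22 in
/-- A group whose generalized Fitting subgroup is simple and non-abelian has trivial centre. -/
theorem center_eq_bot_of_simple_generalizedFittingSubgroup [Finite G]
    (hF : IsSimpleGroup ↥(generalizedFittingSubgroup G))
    (hF' : ¬ IsMulCommutative ↥(generalizedFittingSubgroup G)) : Subgroup.center G = ⊥ := by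
  rw [eq_bot_iff]
  intro z hz
  have hzC : z ∈ Subgroup.centralizer (generalizedFittingSubgroup G : Set G) := by
    rw [Subgroup.mem_centralizer_iff]
    intro g _
    exact Subgroup.mem_center_iff.mp hz g
  have hzF : z ∈ generalizedFittingSubgroup G := centralizer_generalizedFittingSubgroup_le hzC
  have hzc : (⟨z, hzF⟩ : ↥(generalizedFittingSubgroup G)) ∈
      Subgroup.center ↥(generalizedFittingSubgroup G) := by
    rw [Subgroup.mem_center_iff]
    intro g
    exact Subtype.ext (Subgroup.mem_center_iff.mp hz (g : G))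
  rcases hF.eq_bot_or_eq_top_of_normal (Subgroup.center ↥(generalizedFittingSubgroup G))
      inferInstance with h | h
  · rw [h, Subgroup.mem_bot] at hzc
    rw [Subgroup.mem_bot]
    exact congrArg Subtype.val hzc
  · exfalso
    apply hF'
    refine ⟨⟨fun a b => ?_⟩⟩
    have hb : b ∈ Subgroup.center ↥(generalizedFittingSubgroup G) := by rw [h]; trivial
    exact (Subgroup.mem_center_iff.mp hb a)

open Cfsg.Agent.Lib.Helper22 in
/-- Let `x` be an involution of `C_y = C_G(y)` and suppose `C_y / O(C_y)` has the B-property. A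
2-component `J` of `C_G(x) ∩ C_G(y)` maps onto a component of `C_{C_y/O(C_y)}(x̄)`, and
`[J, E] ≤ O(C_y)` for every `J`-invariant subgroup `E` of odd order of `C_G(x) ∩ C_G(y)`. -/
theorem component_of_hasBProperty_section [Finite G] {x y : G} (hx : orderOf x = 2)
    (hxy : x ∈ Subgroup.centralizer ({y} : Set G))
    (hB : HasBProperty (↥(Subgroup.centralizer ({y} : Set G)) ⧸
      oddCore ↥(Subgroup.centralizer ({y} : Set G))))
    {J : Subgroup G}
    (hJ : PCompIn 2 J (Subgroup.centralizer ({x} : Set G) ⊓ Subgroup.centralizer ({y} : Set G))) :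
    IsComponent
        (((J.subgroupOf (Subgroup.centralizer ({y} : Set G))).map
          (QuotientGroup.mk' (oddCore ↥(Subgroup.centralizer ({y} : Set G))))).subgroupOf
          (Subgroup.centralizer ({(QuotientGroup.mk' (oddCore ↥(Subgroup.centralizer ({y} : Set G)))
            ⟨x, hxy⟩ : ↥(Subgroup.centralizer ({y} : Set G)) ⧸
              oddCore ↥(Subgroup.centralizer ({y} : Set G)))} : Set _))) ∧
      ∀ E : Subgroup G,
        E ≤ Subgroup.centralizer ({x} : Set G) ⊓ Subgroup.centralizer ({y} : Set G) →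
        Odd (Nat.card ↥E) → (∀ j ∈ J, ∀ e ∈ E, j * e * j⁻¹ ∈ E) →
          ⁅J, E⁆ ≤ (oddCore ↥(Subgroup.centralizer ({y} : Set G))).map
            (Subgroup.centralizer ({y} : Set G)).subtype := by
  have hp2 : Fact (Nat.Prime 2) := ⟨Nat.prime_two⟩
  obtain ⟨Cy, hCy⟩ : ∃ Cy : Subgroup G, Cy = Subgroup.centralizer ({y} : Set G) := ⟨_, rfl⟩
  subst hCy
  set Cy := Subgroup.centralizer ({y} : Set G) with hCydef
  set O := oddCore ↥Cy with hOdef
  have hOc : (Nat.card O).Coprime 2 := Cfsg.Agent.Lib.Helper22.pPrimeCore_card_coprime 2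
  have hOQ : oddCore (↥Cy ⧸ O) = ⊥ := pPrimeCore_quotient_eq_bot 2
  have hJCy : J ≤ Cy := hJ.le.trans inf_le_right
  -- transport to `↥Cy`
  have hJ₁ : PCompIn 2 (J.subgroupOf Cy) (Subgroup.centralizer ({(⟨x, hxy⟩ : ↥Cy)} : Set ↥Cy)) := by
    have h1 := hJ.subgroupOf hJCy
    have h2 : (Subgroup.centralizer ({x} : Set G) ⊓ Cy).subgroupOf Cy =
        Subgroup.centralizer ({(⟨x, hxy⟩ : ↥Cy)} : Set ↥Cy) := by
      rw [Subgroup.subgroupOf, Subgroup.comap_inf, ← Subgroup.subgroupOf, ← Subgroup.subgroupOf,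
        Subgroup.subgroupOf_self, inf_top_eq, subgroupOf_centralizer_singleton hxy]
    rwa [h2] at h1
  have hx₁ : orderOf (⟨x, hxy⟩ : ↥Cy) = 2 := by
    rw [← hx]; exact (Subgroup.orderOf_mk x hxy)
  -- the image of `x` has order 2
  have hxt : orderOf ((QuotientGroup.mk' O) (⟨x, hxy⟩ : ↥Cy)) = 2 := by
    have hx2 : (⟨x, hxy⟩ : ↥Cy) ^ 2 = 1 := by
      have := pow_orderOf_eq_one (⟨x, hxy⟩ : ↥Cy)
      rwa [hx₁] at this
    apply orderOf_eq_prime
    · rw [← map_pow, hx2, map_one]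
    · intro h
      rw [QuotientGroup.mk'_apply, QuotientGroup.eq_one_iff] at h
      have h1 : orderOf (⟨x, hxy⟩ : ↥Cy) ∣ Nat.card O := Subgroup.orderOf_dvd_natCard O h
      rw [hx₁] at h1
      have h2 : (2 : ℕ) ∣ Nat.gcd (Nat.card O) 2 := Nat.dvd_gcd h1 dvd_rfl
      rw [Nat.Coprime.gcd_eq_one hOc] at h2
      omega
  -- centralizers correspond
  have hcent : (Subgroup.centralizer ({(⟨x, hxy⟩ : ↥Cy)} : Set ↥Cy)).map (QuotientGroup.mk' O) =
      Subgroup.centralizer ({(QuotientGroup.mk' O) (⟨x, hxy⟩ : ↥Cy)} : Set (↥Cy ⧸ O)) := by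
    have hV : IsPGroup 2 (Subgroup.zpowers (⟨x, hxy⟩ : ↥Cy)) :=
      isPGroup_zpowers_of_pow_eq_one (by
        have := pow_orderOf_eq_one (⟨x, hxy⟩ : ↥Cy)
        rwa [hx₁] at this)
    have h1 := Cfsg.Agent.Lib.Helper97.centralizer_map_mk_of_coprime (N := O) hV hOc
    rw [MonoidHom.map_zpowers, ← centralizer_singleton_eq_centralizer_zpowers,
      ← centralizer_singleton_eq_centralizer_zpowers] at h1
    exact h1.symm
  -- the image of `J`
  have hJt : PCompIn 2 ((J.subgroupOf Cy).map (QuotientGroup.mk' O))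
      (Subgroup.centralizer ({(QuotientGroup.mk' O) (⟨x, hxy⟩ : ↥Cy)} : Set (↥Cy ⧸ O))) := by
    rcases hJ₁.map (QuotientGroup.mk' O) with hbot | h
    · exfalso
      rw [Subgroup.map_eq_bot_iff, QuotientGroup.ker_mk'] at hbot
      exact hJ₁.2.not_coprime (Nat.Coprime.coprime_dvd_left (Subgroup.card_dvd_of_le hbot) hOc)
    · rwa [hcent] at h
  have hQ : IsQuasisimple ↥((J.subgroupOf Cy).map (QuotientGroup.mk' O)) :=
    isQuasisimple_of_hasBProperty hB hOQ hxt hJt
  refine ⟨⟨hJt.1.isSubnormal_subgroupOf, Cfsg.Agent.Lib.Helper29.isQuasisimple_of_mulEquiv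
    (Subgroup.subgroupOfEquivOfLe hJt.le).symm hQ⟩, ?_⟩
  -- part (ii)
  intro E hE hodd hinv
  have hECy : E ≤ Cy := hE.trans inf_le_right
  have hEc : (Nat.card E).Coprime 2 := (Nat.coprime_two_right.mpr hodd)
  obtain ⟨Jt, hJtdef⟩ : ∃ Jt : Subgroup (↥Cy ⧸ O), Jt = (J.subgroupOf Cy).map (QuotientGroup.mk' O) :=
    ⟨_, rfl⟩
  obtain ⟨Et, hEtdef⟩ : ∃ Et : Subgroup (↥Cy ⧸ O), Et = (E.subgroupOf Cy).map (QuotientGroup.mk' O) :=
    ⟨_, rfl⟩
  rw [← hJtdef] at hJt hQ
  have hEtc : (Nat.card Et).Coprime 2 := by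
    rw [hEtdef]
    apply Nat.Coprime.coprime_dvd_left (Subgroup.card_map_dvd _ _)
    rw [Nat.card_congr (Subgroup.subgroupOfEquivOfLe hECy).toEquiv]
    exact hEc
  have hEtC : Et ≤ Subgroup.centralizer ({(QuotientGroup.mk' O) (⟨x, hxy⟩ : ↥Cy)} :
      Set (↥Cy ⧸ O)) := by
    rw [hEtdef, ← hcent]
    apply Subgroup.map_mono
    intro e he
    rw [Subgroup.mem_subgroupOf] at he
    have h1 : (e : G) ∈ Subgroup.centralizer ({x} : Set G) := (hE he).1
    rw [Subgroup.mem_centralizer_iff] at h1 ⊢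
    intro z hz
    rw [Set.mem_singleton_iff] at hz
    subst hz
    exact Subtype.ext (h1 x rfl)
  have hJtE : Jt ≤ Subgroup.normalizer ((Et : Subgroup (↥Cy ⧸ O)) : Set (↥Cy ⧸ O)) := by
    rw [hJtdef, hEtdef]
    refine (Subgroup.map_mono ?_).trans (Subgroup.le_normalizer_map _)
    apply le_normalizer_of_forall_conj_mem
    intro j hj e he
    rw [Subgroup.mem_subgroupOf] at hj he ⊢
    exact hinv _ hj _ he
  obtain ⟨H, hHdef⟩ : ∃ H : Subgroup (↥Cy ⧸ O), H = Jt ⊔ Et := ⟨_, rfl⟩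
  have hJtH : Jt ≤ H := by rw [hHdef]; exact le_sup_left
  have hEtH : Et ≤ H := by rw [hHdef]; exact le_sup_right
  have hHC : H ≤ Subgroup.centralizer ({(QuotientGroup.mk' O) (⟨x, hxy⟩ : ↥Cy)} :
      Set (↥Cy ⧸ O)) := by rw [hHdef]; exact sup_le hJt.le hEtC
  have hHE : H ≤ Subgroup.normalizer ((Et : Subgroup (↥Cy ⧸ O)) : Set (↥Cy ⧸ O)) := by
    rw [hHdef]; exact sup_le hJtE Subgroup.le_normalizer
  have hcomp : IsComponent (Jt.subgroupOf H) :=
    ⟨(hJt.1.restrict hJtH hHC).isSubnormal_subgroupOf,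
      Cfsg.Agent.Lib.Helper29.isQuasisimple_of_mulEquiv (Subgroup.subgroupOfEquivOfLe hJtH).symm hQ⟩
  have hEn : (Et.subgroupOf H).Normal := Subgroup.normal_subgroupOf_of_le_normalizer hHE
  have hcomm : ⁅Jt, Et⁆ = ⊥ := by
    rcases component_le_or_commutator_eq_bot hcomp hEn.isSubnormal with h | h
    · exfalso
      have h1 : Jt ≤ Et := le_of_subgroupOf_le hJtH h
      exact hJt.2.not_coprime (Nat.Coprime.coprime_dvd_left (Subgroup.card_dvd_of_le h1) hEtc)
    · exact commutator_eq_bot_of_subgroupOf hJtH hEtH h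
  have h1 : ⁅J.subgroupOf Cy, E.subgroupOf Cy⁆ ≤ O := by
    have : (⁅J.subgroupOf Cy, E.subgroupOf Cy⁆).map (QuotientGroup.mk' O) = ⊥ := by
      rw [Subgroup.map_commutator, ← hJtdef, ← hEtdef, hcomm]
    rw [Subgroup.map_eq_bot_iff, QuotientGroup.ker_mk'] at this
    exact this
  have h2 := Subgroup.map_mono (f := Cy.subtype) h1
  rwa [Subgroup.map_commutator, Subgroup.map_subgroupOf_eq_of_le hJCy,
    Subgroup.map_subgroupOf_eq_of_le hECy] at h2

end BProp

end Cfsg.Agent.Lib.Helper31
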