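/-
helper31: project STEINBERG (helper35), module P2-[BRAID], group-theoretic part: alternating products of two
involutions modulo a subgroup.
-/
import Mathlib

set_option autoImplicit false

namespace Cfsg.Agent.Lib.Helper31.St

universe v

/-- The alternating product `x y x ...` with `n` factors. -/
def altProd {G : Type v} [Monoid G] (x y : G) : ℕ → G
  | 0 => 1
  | n + 1 => x * altProd y x n

theorem altProd_map {G H : Type*} [Monoid G] [Monoid H] (f : G →* H) (x y : G) (n : ℕ) :
    f (altProd x y n) = altProd (f x) (f y) n := by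
  induction n generalizing x y with
  | zero => simp [altProd]
  | succ n ih => simp only [altProd, map_mul, ih]

theorem altProd_mem {G : Type*} [Group G] (N : Subgroup G) {x y : G} (hx : x ∈ N) (hy : y ∈ N) (n : ℕ) :
    altProd x y n ∈ N := by
  induction n generalizing x y with
  | zero => exact one_mem _
  | succ n ih => exact mul_mem hx (ih hy hx)

/-- Conjugating the next letter by an alternating product of involutions. -/
theorem alt_conj {Q : Type*} [Group Q] (x y : Q) (hx : x * x = 1) (hy : y * y = 1) (n : ℕ) :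
    altProd x y n * (if n % 2 = 1 then y else x) * (altProd x y n)⁻¹ = (x * y) ^ n * x := by
  induction n generalizing x y with
  | zero => simp [altProd]
  | succ n ih =>
    have hxi : x⁻¹ = x := inv_eq_of_mul_eq_one_right hx
    have hz : (if (n + 1) % 2 = 1 then y else x) = (if n % 2 = 1 then x else y) := by
      rcases Nat.mod_two_eq_zero_or_one n with h | h
      · have : (n + 1) % 2 = 1 := by omega
        simp [h, this]
      · have : (n + 1) % 2 = 0 := by omega
        simp [h, this]
    rw [hz]
    have e : altProd x y (n + 1) * (if n % 2 = 1 then x else y) * (altProd x y (n + 1))⁻¹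
        = x * (altProd y x n * (if n % 2 = 1 then x else y) * (altProd y x n)⁻¹) * x⁻¹ := by
      simp only [altProd, mul_inv_rev, mul_assoc]
    rw [e, ih y x hy hx, hxi, ← mul_assoc x, ← mul_pow_mul, pow_succ]
    simp only [mul_assoc]

/-- If the alternating word of length `2 L + 1` equals `y`, then `(x y) ^ (L + 1) = 1`. -/
theorem pow_eq_one_of_alt {Q : Type*} [Group Q] (x y : Q) (hx : x * x = 1) (hy : y * y = 1) (L : ℕ)
    (h : altProd x y L * (if L % 2 = 1 then y else x) * (altProd x y L)⁻¹ = y) : (x * y) ^ (L + 1) = 1 := by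
  rw [alt_conj x y hx hy] at h
  rw [pow_succ, ← mul_assoc, h, hy]

/-- The same modulo a subgroup `H` normalised by a subgroup `N` containing `x` and `y`. -/
theorem pow_mem_of_alt {G : Type*} [Group G] (N H : Subgroup G)
    (hN : ∀ m ∈ N, ∀ h ∈ H, m * h * m⁻¹ ∈ H) (x y : G) (hx : x ∈ N) (hy : y ∈ N)
    (hxx : x * x ∈ H) (hyy : y * y ∈ H) (L : ℕ)
    (h : altProd x y L * (if L % 2 = 1 then y else x) * (altProd x y L)⁻¹ * y⁻¹ ∈ H) :
    (x * y) ^ (L + 1) ∈ H := by
  have hnorm : (H.subgroupOf N).Normal := by
    constructor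
    intro n hn g
    rw [Subgroup.mem_subgroupOf] at hn ⊢
    simpa using hN g g.2 n hn
  let f : N →* N ⧸ H.subgroupOf N := QuotientGroup.mk' _
  have hf : ∀ g : N, f g = 1 ↔ (g : G) ∈ H := fun g => by
    show (QuotientGroup.mk g : N ⧸ H.subgroupOf N) = 1 ↔ _
    rw [QuotientGroup.eq_one_iff, Subgroup.mem_subgroupOf]
  obtain ⟨x', rfl⟩ : ∃ x' : N, (x' : G) = x := ⟨⟨x, hx⟩, rfl⟩
  obtain ⟨y', rfl⟩ : ∃ y' : N, (y' : G) = y := ⟨⟨y, hy⟩, rfl⟩
  have h1 : f x' * f x' = 1 := by rw [← map_mul, hf]; exact hxx
  have h2 : f y' * f y' = 1 := by rw [← map_mul, hf]; exact hyy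
  have hz : (if L % 2 = 1 then f y' else f x') = f (if L % 2 = 1 then y' else x') := by
    split_ifs <;> rfl
  have h3 : altProd (f x') (f y') L * (if L % 2 = 1 then f y' else f x') * (altProd (f x') (f y') L)⁻¹ = f y' := by
    rw [← altProd_map, hz, ← map_inv, ← map_mul, ← map_mul, ← mul_inv_eq_one, ← map_inv, ← map_mul, hf]
    have : ((altProd x' y' L * (if L % 2 = 1 then y' else x') * (altProd x' y' L)⁻¹ * y'⁻¹ : N) : G)
        = altProd (x' : G) (y' : G) L * (if L % 2 = 1 then (y' : G) else x') * (altProd (x' : G) (y' : G) L)⁻¹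
          * (y' : G)⁻¹ := by
      have ha : ((altProd x' y' L : N) : G) = altProd (x' : G) (y' : G) L := altProd_map N.subtype x' y' L
      have hzz : (((if L % 2 = 1 then y' else x') : N) : G) = (if L % 2 = 1 then (y' : G) else x') := by
        split_ifs <;> rfl
      simp only [Subgroup.coe_mul, Subgroup.coe_inv, ha, hzz]
    rw [this]
    exact h
  have h4 := pow_eq_one_of_alt (f x') (f y') h1 h2 L h3
  rw [← map_mul, ← map_pow, hf] at h4
  simpa using h4

end Cfsg.Agent.Lib.Helper31.St
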