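import Mathlib

/-!
# Project FL (S2863, helper48): modules FL-[DIH] and FL-[DIHCONJ] (helper31)

Two facts about the "dihedral" group generated by two involutions `y`, `y'`:
* `dihedral_inverts`: `y` inverts every odd-order element of `closure {y, y'}`;
* `dihedral_conj`: if `y * y'` has odd order, `y` and `y'` are conjugate inside `closure {y, y'}`.
-/

set_option autoImplicit false

namespace Cfsg.Agent.Lib.Helper31.FL

universe u

/-- `y c y⁻¹ = c⁻¹` for `c = y * y'`. -/
theorem dih_conj_c {K : Type u} [Group K] (y y' : K) (hy : y * y = 1) (hy' : y' * y' = 1) :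
    y * (y * y') * y⁻¹ = (y * y')⁻¹ := by
  have hyi : y⁻¹ = y := inv_eq_of_mul_eq_one_left hy
  have hyi' : y'⁻¹ = y' := inv_eq_of_mul_eq_one_left hy'
  rw [mul_inv_rev, hyi, hyi']
  calc y * (y * y') * y = (y * y) * y' * y := by group
    _ = y' * y := by rw [hy, one_mul]

/-- `y c^i y⁻¹ = c^(-i)`. -/
theorem dih_conj_zpow {K : Type u} [Group K] (y y' : K) (hy : y * y = 1) (hy' : y' * y' = 1)
    (i : ℤ) : y * (y * y') ^ i * y⁻¹ = (y * y') ^ (-i) := by
  rw [← conj_zpow, dih_conj_c y y' hy hy', inv_zpow, zpow_neg]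

/-- `c^i y = y c^(-i)`. -/
theorem dih_zpow_mul {K : Type u} [Group K] (y y' : K) (hy : y * y = 1) (hy' : y' * y' = 1)
    (i : ℤ) : (y * y') ^ i * y = y * (y * y') ^ (-i) := by
  have h := dih_conj_zpow y y' hy hy' (-i)
  rw [neg_neg] at h
  rw [← h]
  group

/-- Every element of `closure {y, y'}` is `c^i` or `y * c^i`, `c = y * y'`. -/
theorem dih_mem_cases {K : Type u} [Group K] (y y' : K) (hy : y * y = 1) (hy' : y' * y' = 1)
    (h : K) (hh : h ∈ Subgroup.closure ({y, y'} : Set K)) :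
    ∃ i : ℤ, h = (y * y') ^ i ∨ h = y * (y * y') ^ i := by
  have hyi : y⁻¹ = y := inv_eq_of_mul_eq_one_left hy
  induction hh using Subgroup.closure_induction with
  | mem x hx =>
    rcases hx with rfl | hx
    · exact ⟨0, Or.inr (by simp)⟩
    · have hx' : x = y' := hx
      subst hx'
      refine ⟨1, Or.inr ?_⟩
      rw [zpow_one, ← mul_assoc, hy, one_mul]
  | one => exact ⟨0, Or.inl (by simp)⟩
  | mul a b _ _ iha ihb =>
    obtain ⟨i, hi⟩ := iha
    obtain ⟨j, hj⟩ := ihb
    rcases hi with rfl | rfl <;> rcases hj with rfl | rfl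
    · exact ⟨i + j, Or.inl (zpow_add _ _ _).symm⟩
    · refine ⟨-i + j, Or.inr ?_⟩
      rw [← mul_assoc, dih_zpow_mul y y' hy hy' i, mul_assoc, ← zpow_add]
    · refine ⟨i + j, Or.inr ?_⟩
      rw [mul_assoc, ← zpow_add]
    · refine ⟨-i + j, Or.inl ?_⟩
      calc y * (y * y') ^ i * (y * (y * y') ^ j)
          = y * ((y * y') ^ i * y) * (y * y') ^ j := by group
        _ = y * (y * (y * y') ^ (-i)) * (y * y') ^ j := by rw [dih_zpow_mul y y' hy hy' i]
        _ = (y * y) * ((y * y') ^ (-i) * (y * y') ^ j) := by group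
        _ = (y * y') ^ (-i + j) := by rw [hy, one_mul, ← zpow_add]
  | inv a _ iha =>
    obtain ⟨i, hi⟩ := iha
    rcases hi with rfl | rfl
    · exact ⟨-i, Or.inl (zpow_neg _ _).symm⟩
    · refine ⟨i, Or.inr ?_⟩
      rw [mul_inv_rev, hyi, ← zpow_neg, dih_zpow_mul y y' hy hy' (-i), neg_neg]

/-- **FL-[DIH]**: `y` inverts every odd-order element of the group generated by the involutions
`y`, `y'`. -/
theorem dihedral_inverts {K : Type u} [Group K] (y y' : K) (hy : y * y = 1) (hy' : y' * y' = 1)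
    (h : K) (hh : h ∈ Subgroup.closure ({y, y'} : Set K)) (hodd : Odd (orderOf h)) :
    y * h * y⁻¹ = h⁻¹ := by
  obtain ⟨i, hi⟩ := dih_mem_cases y y' hy hy' h hh
  rcases hi with rfl | rfl
  · rw [dih_conj_zpow y y' hy hy' i, zpow_neg]
  · -- `(y c^i)^2 = 1`, odd order, so trivial
    have hsq : (y * (y * y') ^ i) ^ 2 = 1 := by
      rw [pow_two]
      calc y * (y * y') ^ i * (y * (y * y') ^ i)
          = y * ((y * y') ^ i * y) * (y * y') ^ i := by group
        _ = y * (y * (y * y') ^ (-i)) * (y * y') ^ i := by rw [dih_zpow_mul y y' hy hy' i]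
        _ = (y * y) * ((y * y') ^ (-i) * (y * y') ^ i) := by group
        _ = 1 := by rw [hy, one_mul, ← zpow_add, neg_add_cancel, zpow_zero]
    have hdvd : orderOf (y * (y * y') ^ i) ∣ 2 := orderOf_dvd_of_pow_eq_one hsq
    have h1 : orderOf (y * (y * y') ^ i) = 1 := by
      rcases (Nat.dvd_prime Nat.prime_two).mp hdvd with h1 | h2
      · exact h1
      · rw [h2] at hodd
        exact absurd hodd (by decide)
    have : y * (y * y') ^ i = 1 := orderOf_eq_one_iff.mp h1
    rw [this]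
    simp

/-- **FL-[DIHCONJ]**: if `y * y'` has odd order, the involutions `y`, `y'` are conjugate in the
group they generate. -/
theorem dihedral_conj {K : Type u} [Group K] (y y' : K) (hy : y * y = 1) (hy' : y' * y' = 1)
    (hodd : Odd (orderOf (y * y'))) :
    ∃ d ∈ Subgroup.closure ({y, y'} : Set K), d * y * d⁻¹ = y' := by
  obtain ⟨m, hm⟩ := hodd
  have hc : y * y' ∈ Subgroup.closure ({y, y'} : Set K) :=
    Subgroup.mul_mem _ (Subgroup.subset_closure (by simp)) (Subgroup.subset_closure (by simp))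
  refine ⟨(y * y') ^ (-((m : ℤ) + 1)), Subgroup.zpow_mem _ hc _, ?_⟩
  have hpow : (y * y') ^ (2 * (m : ℤ) + 1) = 1 := by
    have : (y * y') ^ (orderOf (y * y')) = 1 := pow_orderOf_eq_one _
    rw [hm] at this
    have h2 : ((2 * m + 1 : ℕ) : ℤ) = 2 * (m : ℤ) + 1 := by push_cast; ring
    rw [← h2, zpow_natCast]
    exact this
  rw [dih_zpow_mul y y' hy hy', neg_neg, ← zpow_neg, neg_neg, mul_assoc, ← zpow_add]
  have e : (m : ℤ) + 1 + ((m : ℤ) + 1) = (2 * (m : ℤ) + 1) + 1 := by ring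
  rw [e, zpow_add, hpow, one_mul, zpow_one, ← mul_assoc, hy, one_mul]

end Cfsg.Agent.Lib.Helper31.FL
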