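import Mathlib
import Cfsg.Agent.Lib.Helper48.FL.Defs

/-!
# Project FL (S2863, helper48): module FL-[INV] (helper31)

`fpf_of_inverted`: in an `LMod`, an odd-order element `h ≠ 1` inverted by a conjugate `k y k⁻¹` of an
element `y ∈ Yh` with `C_W(y) ≤ W1` acts fixed-point-freely on `W`.
-/

set_option autoImplicit false

namespace Cfsg.Agent.Lib.Helper31.FL

open Cfsg Cfsg.Agent.Lib.Helper48 Cfsg.Agent.Lib.Helper48.FL

universe u

/-- The case `k = 1` of FL-[INV]. -/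
theorem fpf_of_inverted_aux {K : Type u} [Group K] {W : Type u} [CommGroup W] (φ : K →* MulAut W)
    {Yh R : Subgroup K} {W1 : Subgroup W} (hM : LMod φ Yh R W1)
    (hnorm : R ≤ Subgroup.normalizer (Yh : Set K)) (hY2 : IsPGroup 2 Yh)
    (y : K) (hy : y ∈ Yh) (hstar : ∀ x : W, φ y x = x → x ∈ W1)
    (h : K) (hodd : Odd (orderOf h)) (h1 : h ≠ 1)
    (hinv : y * h * y⁻¹ = h⁻¹) : Fpf φ h := by
  -- `y⁻¹ h y = h⁻¹` as well
  have hinv' : y⁻¹ * h * y = h⁻¹ := by
    have : h = y⁻¹ * h⁻¹ * y := by rw [← hinv]; group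
    have h2 : h⁻¹ = y⁻¹ * h * y := by
      conv_lhs => rw [this]
      group
    exact h2.symm
  have hcomm : h * y = y * h⁻¹ := by
    have : y * (y⁻¹ * h * y) = y * h⁻¹ := by rw [hinv']
    rw [← this]; group
  -- `h ∉ R`
  have hR : h ∉ R := by
    intro hR
    have hn := hnorm hR
    have hmem : h * y * h⁻¹ ∈ Yh := (Subgroup.mem_normalizer_iff.mp hn y).mp hy
    have h2 : y⁻¹ * (h * y * h⁻¹) ∈ Yh := Yh.mul_mem (Yh.inv_mem hy) hmem
    have h3 : y⁻¹ * (h * y * h⁻¹) = (h ^ 2)⁻¹ := by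
      calc y⁻¹ * (h * y * h⁻¹) = (y⁻¹ * h * y) * h⁻¹ := by group
        _ = h⁻¹ * h⁻¹ := by rw [hinv']
        _ = (h ^ 2)⁻¹ := by rw [pow_two, mul_inv_rev]
    rw [h3] at h2
    have h4 : h ^ 2 ∈ Yh := by simpa using Yh.inv_mem h2
    obtain ⟨n, hn⟩ := (IsPGroup.iff_orderOf.mp hY2) ⟨h ^ 2, h4⟩
    have hord : orderOf (h ^ 2) = 2 ^ n := by
      rw [← hn]
      exact (Subgroup.orderOf_mk (h ^ 2) h4).symm
    -- `orderOf (h^2)` divides `orderOf h`, odd
    have hdvd : orderOf (h ^ 2) ∣ orderOf h := orderOf_pow_dvd 2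
    have hodd2 : Odd (orderOf (h ^ 2)) := Odd.of_dvd_nat hodd hdvd
    have hn0 : n = 0 := by
      by_contra hne
      rw [hord] at hodd2
      have : Even (2 ^ n) := (Nat.even_pow' hne).mpr even_two
      exact (Nat.not_odd_iff_even.mpr this) hodd2
    rw [hn0, pow_zero, orderOf_eq_one_iff] at hord
    -- `h^2 = 1` and odd order force `h = 1`
    have hd2 : orderOf h ∣ 2 := orderOf_dvd_of_pow_eq_one hord
    have ho1 : orderOf h = 1 := by
      rcases (Nat.dvd_prime Nat.prime_two).mp hd2 with h' | h'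
      · exact h'
      · rw [h'] at hodd; exact absurd hodd (by decide)
    exact h1 (orderOf_eq_one_iff.mp ho1)
  intro x hx
  -- `φ y x` is `h`-fixed
  have hxinv : φ h⁻¹ x = x := by
    have : φ h⁻¹ (φ h x) = x := by
      rw [← MulAut.mul_apply, ← map_mul, inv_mul_cancel, map_one, MulAut.one_apply]
    rwa [hx] at this
  have hfix : φ h (φ y x) = φ y x := by
    rw [← MulAut.mul_apply, ← map_mul, hcomm, map_mul, MulAut.mul_apply, hxinv]
  have hd : φ y x / x ∈ W1 := hM.comm y hy x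
  have hdfix : φ h (φ y x / x) = φ y x / x := by
    rw [map_div, hfix, hx]
  have hd1 : φ y x / x = 1 := hM.disj h hR _ hd (by rw [hdfix]; exact hd)
  have hyx : φ y x = x := div_eq_one.mp hd1
  have hxW : x ∈ W1 := hstar x hyx
  exact hM.disj h hR x hxW (by rw [hx]; exact hxW)

/-- **FL-[INV]**. -/
theorem fpf_of_inverted {K : Type u} [Group K] {W : Type u} [CommGroup W] (φ : K →* MulAut W)
    {Yh R : Subgroup K} {W1 : Subgroup W} (hM : LMod φ Yh R W1)
    (hnorm : R ≤ Subgroup.normalizer (Yh : Set K)) (hY2 : IsPGroup 2 Yh)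
    (y : K) (hy : y ∈ Yh) (hstar : ∀ x : W, φ y x = x → x ∈ W1)
    (k h : K) (hodd : Odd (orderOf h)) (h1 : h ≠ 1)
    (hinv : (k * y * k⁻¹) * h * (k * y * k⁻¹)⁻¹ = h⁻¹) : Fpf φ h := by
  -- pass to `h' = k⁻¹ h k`
  have hord : orderOf (k⁻¹ * h * k) = orderOf h := by
    have := (MulAut.conj k⁻¹).orderOf_eq h
    simpa [MulAut.conj_apply] using this
  have h1' : k⁻¹ * h * k ≠ 1 := by
    intro hh
    apply h1
    have : h = k * (k⁻¹ * h * k) * k⁻¹ := by group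
    rw [this, hh]; group
  have hinv' : y * (k⁻¹ * h * k) * y⁻¹ = (k⁻¹ * h * k)⁻¹ := by
    have e1 : y * (k⁻¹ * h * k) * y⁻¹ = k⁻¹ * ((k * y * k⁻¹) * h * (k * y * k⁻¹)⁻¹) * k := by group
    rw [e1, hinv]; group
  have hfpf := fpf_of_inverted_aux φ hM hnorm hY2 y hy hstar (k⁻¹ * h * k) (hord ▸ hodd) h1' hinv'
  intro x hx
  have hx' : φ (k⁻¹ * h * k) (φ k⁻¹ x) = φ k⁻¹ x := by
    rw [← MulAut.mul_apply, ← map_mul]
    have : k⁻¹ * h * k * k⁻¹ = k⁻¹ * h := by group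
    rw [this, map_mul, MulAut.mul_apply, hx]
  have := hfpf _ hx'
  have h2 : φ k (φ k⁻¹ x) = x := by
    rw [← MulAut.mul_apply, ← map_mul, mul_inv_cancel, map_one, MulAut.one_apply]
  rw [this, map_one] at h2
  exact h2.symm

end Cfsg.Agent.Lib.Helper31.FL
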