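import Mathlib
import Cfsg.Agent.Lib.Helper48.FL.Defs

/-!
# Project FL (S2863, helper48): module FL-[KGEN2] (helper31)

Burnside's fusion argument: in the quotient setting `LQuot p Yh R`, two distinct conjugates of `Yh`
generate `K`.
-/

set_option autoImplicit false

namespace Cfsg.Agent.Lib.Helper31.FL

open Cfsg Cfsg.Agent.Lib.Helper48 Cfsg.Agent.Lib.Helper48.FL
open scoped Pointwise

universe u

theorem map_conj_eq_top_iff {K : Type u} [Group K] (g : K) (Z : Subgroup K) :
    Z.map (MulAut.conj g).toMonoidHom = ⊤ ↔ Z = ⊤ := by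
  constructor
  · intro h
    have h1 : (Z.map (MulAut.conj g).toMonoidHom).comap (MulAut.conj g).toMonoidHom = Z :=
      Subgroup.comap_map_eq_self_of_injective (MulAut.conj g).injective Z
    rw [← h1, h, Subgroup.comap_top]
  · rintro rfl
    rw [← MonoidHom.range_eq_map]
    exact MonoidHom.range_eq_top.mpr (MulAut.conj g).surjective

theorem smul_eq_map_conj {K : Type u} [Group K] (g : K) (Z : Subgroup K) :
    MulAut.conj g • Z = Z.map (MulAut.conj g).toMonoidHom := by
  ext x
  simp [Subgroup.mem_pointwise_smul_iff_inv_smul_mem, Subgroup.mem_map, MulAut.conj_apply]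
  constructor
  · intro h
    exact ⟨g⁻¹ * x * g, h, by group⟩
  · rintro ⟨y, hy, rfl⟩
    have : g⁻¹ * (g * y * g⁻¹) * g = y := by group
    rw [this]; exact hy

/-- **FL-[KGEN2]** (Burnside's fusion argument). -/
theorem sup_conj_eq_top {K : Type u} [Group K] [Finite K] {p : ℕ} [Fact p.Prime] {Yh R : Subgroup K}
    (h : LQuot p Yh R) (k : K) (hk : k ∉ R) : Yh ⊔ Yh.map (MulAut.conj k).toMonoidHom = ⊤ := by
  by_contra hX
  have hYp : IsPGroup p Yh := by
    intro y
    refine ⟨1, ?_⟩
    have := h.ea.2 (y : K) y.2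
    apply Subtype.ext
    simpa using this
  have hY2p : IsPGroup p (Yh.map (MulAut.conj k).toMonoidHom) := hYp.map _
  have hXR : Yh ⊔ Yh.map (MulAut.conj k).toMonoidHom ≤ R := h.max _ le_sup_left hX
  have hY2N : Yh.map (MulAut.conj k).toMonoidHom ≤ Subgroup.normalizer (Yh : Set K) :=
    le_trans (le_trans le_sup_right hXR) h.norm
  have hXp : IsPGroup p (Yh ⊔ Yh.map (MulAut.conj k).toMonoidHom : Subgroup K) :=
    IsPGroup.to_sup_of_normal_left' hYp hY2p hY2N
  obtain ⟨P, hXP⟩ := hXp.exists_le_sylow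
  have hYP : Yh ≤ (P : Subgroup K) := le_trans le_sup_left hXP
  -- `P ≠ ⊤`
  have hPtop : (P : Subgroup K) ≠ ⊤ := by
    intro htop
    have hKp : IsPGroup p K := by
      have := P.isPGroup'
      rw [htop] at this
      exact this.of_equiv Subgroup.topEquiv
    have hnil : Group.IsNilpotent K := hKp.isNilpotent
    have hnc : NormalizerCondition K := Group.normalizerCondition_of_isNilpotent
    have hlt : R < Subgroup.normalizer (R : Set K) := hnc R (lt_top_iff_ne_top.mpr h.ne_top)
    have hNtop : Subgroup.normalizer (R : Set K) = ⊤ := by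
      by_contra hne
      have := h.max _ (le_trans h.le Subgroup.le_normalizer) hne
      exact absurd hlt (not_lt_of_ge this)
    have : R.Normal := Subgroup.normalizer_eq_top_iff.mp hNtop
    have : Subgroup.normalClosure (Yh : Set K) ≤ R := Subgroup.normalClosure_le_normal h.le
    rw [h.ncl] at this
    exact h.ne_top (top_le_iff.mp this)
  have hPR : (P : Subgroup K) ≤ R := h.max _ hYP hPtop
  -- `Q = k⁻¹ P k`
  have hQc : ((k⁻¹ • P : Sylow p K) : Subgroup K) =
      (P : Subgroup K).map (MulAut.conj k⁻¹).toMonoidHom := by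
    rw [Sylow.coe_subgroup_smul (g := k⁻¹) (P := P), smul_eq_map_conj]
  have hYQ : Yh ≤ ((k⁻¹ • P : Sylow p K) : Subgroup K) := by
    rw [hQc]
    intro y hy
    refine ⟨k * y * k⁻¹, hXP (le_sup_right (a := Yh) ⟨y, hy, rfl⟩), ?_⟩
    simp only [MulEquiv.coe_toMonoidHom, MulAut.conj_apply]
    group
  have hQtop : ((k⁻¹ • P : Sylow p K) : Subgroup K) ≠ ⊤ := by
    rw [hQc]
    intro htop
    exact hPtop ((map_conj_eq_top_iff k⁻¹ _).mp htop)
  have hQR : ((k⁻¹ • P : Sylow p K) : Subgroup K) ≤ R := h.max _ hYQ hQtop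
  -- conjugate inside `R`
  obtain ⟨n, hn⟩ := MulAction.exists_smul_eq R ((k⁻¹ • P : Sylow p K).subtype hQR) (P.subtype hPR)
  rw [Sylow.smul_subtype] at hn
  have hn2 : n • (k⁻¹ • P : Sylow p K) = P := Sylow.subtype_injective hn
  have hn3 : ((n : K) * k⁻¹) • P = P := by
    rw [mul_smul]
    exact hn2
  have hmemN : (n : K) * k⁻¹ ∈ Subgroup.normalizer ((P : Subgroup K) : Set K) :=
    Sylow.smul_eq_iff_mem_normalizer.mp hn3
  -- `N(P) ≠ ⊤`
  have hNP : Subgroup.normalizer ((P : Subgroup K) : Set K) ≠ ⊤ := by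
    intro htop
    have : (P : Subgroup K).Normal := Subgroup.normalizer_eq_top_iff.mp htop
    have : Subgroup.normalClosure (Yh : Set K) ≤ (P : Subgroup K) :=
      Subgroup.normalClosure_le_normal hYP
    rw [h.ncl] at this
    exact hPtop (top_le_iff.mp this)
  have hNR : Subgroup.normalizer ((P : Subgroup K) : Set K) ≤ R :=
    h.max _ (le_trans hYP Subgroup.le_normalizer) hNP
  have h1 : (n : K) * k⁻¹ ∈ R := hNR hmemN
  have h2 : k⁻¹ ∈ R := by
    have : k⁻¹ = (n : K)⁻¹ * ((n : K) * k⁻¹) := by group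
    rw [this]
    exact R.mul_mem (R.inv_mem n.2) h1
  exact hk (by simpa using R.inv_mem h2)

end Cfsg.Agent.Lib.Helper31.FL
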