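import Mathlib
import Cfsg.Agent.Lib.Helper48.FL.Defs
import Cfsg.Agent.Lib.Helper31.FLDih
import Cfsg.Agent.Lib.Helper31.FLInv

/-!
# Project FL (S2863, helper48): module FL-[SZSTAR] (helper31)

`fpf_of_sz_facts`: the Suzuki case at the module level, from the three facts `F1`, `F2`, `F3` about `Sz(q)`.
Self-contained: uses FL-[INV], FL-[DIHCONJ] (helper31) and a local copy of FL-[POW].
-/

set_option autoImplicit false

namespace Cfsg.Agent.Lib.Helper31.FL

open Cfsg Cfsg.Agent.Lib.Helper48 Cfsg.Agent.Lib.Helper48.FL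

universe u

/-- local copy of FL-[POW]: it suffices to treat odd-order elements. -/
theorem fpf_of_odd_aux {K : Type u} [Group K] [Finite K] {W : Type u} [CommGroup W] (φ : K →* MulAut W)
    (hodd : ∀ h : K, h ≠ 1 → Odd (orderOf h) → Fpf φ h)
    (k : K) (hk : ¬ ∃ n : ℕ, orderOf k = 2 ^ n) : Fpf φ k := by
  have hpos : 0 < orderOf k := orderOf_pos k
  obtain ⟨a, m, hm, hkm⟩ := Nat.exists_eq_two_pow_mul_odd hpos.ne'
  have hm1 : m ≠ 1 := by
    rintro rfl
    exact hk ⟨a, by rw [hkm, mul_one]⟩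
  have hord : orderOf (k ^ (2 ^ a)) = m := by
    rw [orderOf_pow' k (pow_ne_zero a two_ne_zero), hkm]
    have hg : Nat.gcd (2 ^ a * m) (2 ^ a) = 2 ^ a := Nat.gcd_eq_right (Dvd.intro m rfl)
    rw [hg, Nat.mul_div_cancel_left m (pow_pos two_pos a)]
  have hne : k ^ (2 ^ a) ≠ 1 := by
    intro h1
    rw [h1, orderOf_one] at hord
    exact hm1 hord.symm
  have hf := hodd (k ^ (2 ^ a)) hne (hord ▸ hm)
  intro x hx
  apply hf x
  have : ∀ n : ℕ, φ (k ^ n) x = x := by
    intro n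
    induction n with
    | zero => simp
    | succ n ih => rw [pow_succ, map_mul, MulAut.mul_apply, hx, ih]
  exact this _

/-- **FL-[SZSTAR]**. -/
theorem fpf_of_sz_facts {K : Type u} [Group K] [Finite K] {W : Type u} [CommGroup W]
    (φ : K →* MulAut W) {Yh R : Subgroup K} {W1 : Subgroup W} (hQ : LQuot 2 Yh R)
    (hM : LMod φ Yh R W1)
    (F1 : ∀ y ∈ Yh, y ≠ 1 → ∀ c : K, c * y = y * c → c ∈ R)
    (F2 : ∀ y ∈ Yh, y ≠ 1 → ∀ k : K, k ∉ R → Odd (orderOf (y * (k * y * k⁻¹))))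
    (F3 : ∀ h : K, h ≠ 1 → Odd (orderOf h) →
      ∃ k : K, ∃ y ∈ Yh, y ≠ 1 ∧ (k * y * k⁻¹) * h * (k * y * k⁻¹)⁻¹ = h⁻¹)
    (k : K) (hk : ¬ ∃ n : ℕ, orderOf k = 2 ^ n) : Fpf φ k := by
  apply fpf_of_odd_aux φ _ k hk
  intro h h1 hodd
  obtain ⟨k1, y, hy, hy1, hinv⟩ := F3 h h1 hodd
  have hY2 : IsPGroup 2 Yh := by
    intro z
    refine ⟨1, ?_⟩
    have := hQ.ea.2 (z : K) z.2
    apply Subtype.ext
    simpa using this
  -- `C_W(y) ≤ W1`
  have hstar : ∀ x : W, φ y x = x → x ∈ W1 := by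
    intro x hx
    obtain ⟨k0, hk0⟩ : ∃ k0 : K, k0 ∉ R := by
      by_contra hall
      exact hQ.ne_top (eq_top_iff.mpr fun g _ => by
        by_contra hg
        exact hall ⟨g, hg⟩)
    have hyy : y * y = 1 := by
      have := hQ.ea.2 y hy
      rwa [pow_two] at this
    have hy'y' : (k0 * y * k0⁻¹) * (k0 * y * k0⁻¹) = 1 := by
      calc (k0 * y * k0⁻¹) * (k0 * y * k0⁻¹) = k0 * (y * y) * k0⁻¹ := by group
        _ = 1 := by rw [hyy]; group
    obtain ⟨d, hd, hdy⟩ := dihedral_conj y (k0 * y * k0⁻¹) hyy hy'y' (F2 y hy hy1 k0 hk0)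
    -- `c = d⁻¹ k0` commutes with `y`
    have hc : d⁻¹ * k0 ∈ R := by
      apply F1 y hy hy1
      have : d⁻¹ * (d * y * d⁻¹) * d = y := by group
      rw [hdy] at this
      calc d⁻¹ * k0 * y = (d⁻¹ * (k0 * y * k0⁻¹) * d) * (d⁻¹ * k0) := by group
        _ = y * (d⁻¹ * k0) := by rw [this]
    obtain ⟨a, ha, b, hb, hxab⟩ := hM.span k0 hk0 x
    -- `y` and `y'` fix `x2 = φ k0 b`
    have hfix1 : φ y (φ k0 b) = φ k0 b := by
      have h1 : φ y x = φ y a * φ y (φ k0 b) := by rw [hxab, map_mul]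
      rw [hx, hM.cent y hy a ha] at h1
      have h2 : a * φ k0 b = a * φ y (φ k0 b) := by rw [← hxab]; exact h1
      exact (mul_left_cancel h2).symm
    have hfix2 : φ (k0 * y * k0⁻¹) (φ k0 b) = φ k0 b := by
      rw [← MulAut.mul_apply, ← map_mul]
      have : k0 * y * k0⁻¹ * k0 = k0 * y := by group
      rw [this, map_mul, MulAut.mul_apply, hM.cent y hy b hb]
    -- hence `d` fixes it
    have hfixall : ∀ g ∈ Subgroup.closure ({y, k0 * y * k0⁻¹} : Set K), φ g (φ k0 b) = φ k0 b := by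
      intro g hg
      induction hg using Subgroup.closure_induction with
      | mem z hz =>
        rcases hz with rfl | hz
        · exact hfix1
        · have hz' : z = k0 * y * k0⁻¹ := hz
          rw [hz']; exact hfix2
      | one => simp
      | mul u v _ _ hu hv => rw [map_mul, MulAut.mul_apply, hv, hu]
      | inv u _ hu =>
        have : φ u⁻¹ (φ u (φ k0 b)) = φ k0 b := by
          rw [← MulAut.mul_apply, ← map_mul, inv_mul_cancel, map_one, MulAut.one_apply]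
        rwa [hu] at this
    have hfixd : φ d⁻¹ (φ k0 b) = φ k0 b :=
      hfixall d⁻¹ (Subgroup.inv_mem _ hd)
    -- `φ k0 b = φ (d⁻¹ k0) b ∈ W1`
    have hmem : φ k0 b ∈ W1 := by
      rw [← hfixd, ← MulAut.mul_apply, ← map_mul]
      exact hM.stab _ hc b hb
    have hb1 : b = 1 := hM.disj k0 hk0 b hb hmem
    rw [hxab, hb1, map_one, mul_one]
    exact ha
  exact fpf_of_inverted φ hM hQ.norm hY2 y hy hstar k1 h hodd h1 hinv

end Cfsg.Agent.Lib.Helper31.FL
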