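/-
helper31 shared library: local `k`-balance hypotheses stated for the simple quotient `L / Z(L)` of a
component.
All declarations live in `Cfsg.Agent.Lib.Helper31`.
-/
import Mathlib
import Cfsg.Prelude.Def_Local
import Cfsg.Prelude.Def_Balance
import Cfsg.Agent.Lib.Helper31.KBalanceLocal
import Cfsg.Agent.Lib.Helper24.RankTwo

set_option autoImplicit false

namespace Cfsg.Agent.Lib.Helper31

open Cfsg
open scoped commutatorElement

universe u

section KBalanceCenter

variable {G : Type u} [Group G]

/-- **From local `k`-balance of `L / Z(L)` to the automizer hypothesis.** -/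
theorem exists_hom_of_isLocallyKBalanced_quotient_center {p k : ℕ} [Finite G] {L : Subgroup G}
    (hL : IsComponent L) (hloc : IsLocallyKBalanced p k (↥L ⧸ Subgroup.center ↥L))
    {B : Subgroup G} (hB : IsElementaryAbelian p B)
    (hBk : Nat.card B = p ^ k) (hBC : B ⊓ Subgroup.centralizer (L : Set G) = ⊥)
    {H : Subgroup G} (hLH : L ≤ H) (hHL : H ≤ Subgroup.normalizer (L : Set G)) (hBH : B ≤ H) :
    ∃ (T : Type u) (_ : Group T) (π : ↥H →* T), Function.Surjective π ∧
      π.ker = (Subgroup.centralizer (L : Set G)).subgroupOf H ∧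
      signalizerDelta p ((B.subgroupOf H).map π) = ⊥ := by
  set φ : ↥H →* MulAut ↥L := L.normalizerMonoidHom.comp (Subgroup.inclusion hHL) with hφ
  have hφapp : ∀ (g : ↥H) (l : ↥L), ((φ g l : ↥L) : G) = (g : G) * (l : G) * (g : G)⁻¹ := by
    intro g l
    simp [hφ]
  have hpres : ∀ g : ↥H, ∀ n ∈ Subgroup.center ↥L, φ g n ∈ Subgroup.center ↥L := by
    intro g n hn
    rw [Subgroup.mem_center_iff] at hn ⊢
    intro y
    have h1 := hn ((φ g).symm y)
    have h2 := congrArg (φ g) h1
    simpa using h2
  set ψ : ↥H →* MulAut (↥L ⧸ Subgroup.center ↥L) :=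
    Cfsg.Agent.Lib.Helper24.quotAut (Subgroup.center ↥L) φ hpres with hψ
  have hψmk : ∀ (g : ↥H) (l : ↥L), ψ g (QuotientGroup.mk l) = QuotientGroup.mk (φ g l) :=
    fun g l => Cfsg.Agent.Lib.Helper24.quotAut_mk (Subgroup.center ↥L) φ hpres g l
  have hker : ψ.ker = (Subgroup.centralizer (L : Set G)).subgroupOf H := by
    apply le_antisymm
    · -- the kernel acts trivially on `L / Z(L)`, hence on the perfect group `L`
      set M : Subgroup G := ψ.ker.map H.subtype with hM
      have hML : ⁅⁅M, L⁆, L⁆ = ⊥ := by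
        rw [Subgroup.commutator_eq_bot_iff_le_centralizer, Subgroup.commutator_le]
        rintro _ ⟨g, hg, rfl⟩ l hl
        have h1 : ψ g (QuotientGroup.mk ⟨l, hl⟩) = QuotientGroup.mk ⟨l, hl⟩ := by
          rw [MonoidHom.mem_ker.mp hg]; rfl
        rw [hψmk, QuotientGroup.eq_iff_div_mem] at h1
        -- `(φ g l) / l ∈ Z(L)`
        rw [Subgroup.mem_center_iff] at h1
        rw [Subgroup.mem_centralizer_iff]
        intro y hy
        have h2 := congrArg Subtype.val (h1 ⟨y, hy⟩)
        have h4 : ⁅(H.subtype g : G), l⁆ = (g : G) * l * (g : G)⁻¹ / l := by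
          simp only [commutatorElement_def, Subgroup.coe_subtype, div_eq_mul_inv]
        rw [h4]
        simpa [hφapp] using h2
      have hperf : ⁅L, L⁆ = L := Cfsg.Agent.Lib.Helper22.component_commutator_self hL
      have h6 := Cfsg.Agent.Lib.Helper21.commutator_eq_bot_of_perfect hperf hML
      rw [Subgroup.commutator_comm, Subgroup.commutator_eq_bot_iff_le_centralizer] at h6
      intro g hg
      exact h6 (show (g : G) ∈ M from ⟨g, hg, rfl⟩)
    · intro g hg
      rw [MonoidHom.mem_ker]
      ext q
      induction q using QuotientGroup.induction_on with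
      | H l =>
        rw [hψmk]
        have : φ g l = l := by
          apply Subtype.ext
          rw [hφapp]
          have hg' : (g : G) ∈ Subgroup.centralizer (L : Set G) := hg
          rw [Subgroup.mem_centralizer_iff] at hg'
          rw [← hg' _ l.2]; group
        rw [this]; rfl
  have hInn : (MulAut.conj : (↥L ⧸ Subgroup.center ↥L) →* MulAut (↥L ⧸ Subgroup.center ↥L)).range ≤
      ψ.range := by
    rintro _ ⟨q, rfl⟩
    induction q using QuotientGroup.induction_on with
    | H l =>
      refine ⟨⟨l, hLH l.2⟩, ?_⟩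
      ext q'
      induction q' using QuotientGroup.induction_on with
      | H y =>
        rw [hψmk]
        have : φ ⟨l, hLH l.2⟩ y = l * y * l⁻¹ := by
          apply Subtype.ext
          rw [hφapp]
          simp
        rw [this]
        simp [MulAut.conj_apply]
  refine ⟨↥ψ.range, inferInstance, ψ.rangeRestrict, ψ.rangeRestrict_surjective, ?_, ?_⟩
  · rw [MonoidHom.ker_rangeRestrict, hker]
  · apply hloc ψ.range hInn
    · exact isElementaryAbelian_map _ (by
        have := hB.1
        refine ⟨⟨⟨?_⟩⟩, ?_⟩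
        · rintro ⟨a, ha⟩ ⟨b, hb⟩
          apply Subtype.ext
          have h1 := mul_comm' (⟨(a : G), ha⟩ : B) ⟨(b : G), hb⟩
          have h2 : (a : G) * (b : G) = (b : G) * (a : G) := congrArg Subtype.val h1
          exact Subtype.ext h2
        · intro a ha
          apply Subtype.ext
          have := hB.2 (a : G) ha
          simpa using this)
    · rw [card_map_of_inf_ker_eq_bot, Nat.card_congr (Subgroup.subgroupOfEquivOfLe hBH).toEquiv, hBk]
      rw [MonoidHom.ker_rangeRestrict, hker, eq_bot_iff]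
      intro y hy
      have h1 : (y : G) ∈ B ⊓ Subgroup.centralizer (L : Set G) := ⟨hy.1, hy.2⟩
      rw [hBC, Subgroup.mem_bot] at h1
      rw [Subgroup.mem_bot]
      exact Subtype.ext h1

/-- **Local `k`-balance of `L / Z(L)` for all components gives `Δ_G(B) = 1`** (`O_{p'}(G) = 1`,
`|B| = p^k`, `k ≥ 1`). -/
theorem signalizerDelta_eq_bot_of_isLocallyKBalanced_quotient_center {p k : ℕ} [Fact p.Prime]
    [Finite G] (hG : pPrimeCore p G = ⊥) (hk : 1 ≤ k) {B : Subgroup G}
    (hB : IsElementaryAbelian p B) (hBk : Nat.card B = p ^ k)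
    (hloc : ∀ L : Subgroup G, IsComponent L →
      IsLocallyKBalanced p k (↥L ⧸ Subgroup.center ↥L)) :
    signalizerDelta p B = ⊥ := by
  have hB1 : B ≠ ⊥ := ne_bot_of_pow_le_card hk hBk.ge
  apply signalizerDelta_eq_bot_of_hom hG hB hB1
  intro L hL _ hBC H hLH hHL hBH
  exact exists_hom_of_isLocallyKBalanced_quotient_center hL (hloc L hL) hB hBk hBC hLH hHL hBH

/-- The image of `B ≤ C_G(b)` in `C_G(b) / O_{p'}(C_G(b))` is elementary abelian of the same
order. -/
theorem image_elementaryAbelian_card {p : ℕ} [Fact p.Prime] [Finite G] {b : G} {B : Subgroup G}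
    (hB : IsElementaryAbelian p B) (hBC : B ≤ Subgroup.centralizer ({b} : Set G)) :
    IsElementaryAbelian p ((B.subgroupOf (Subgroup.centralizer ({b} : Set G))).map
      (QuotientGroup.mk' (pPrimeCore p ↥(Subgroup.centralizer ({b} : Set G))))) ∧
    Nat.card ((B.subgroupOf (Subgroup.centralizer ({b} : Set G))).map
      (QuotientGroup.mk' (pPrimeCore p ↥(Subgroup.centralizer ({b} : Set G))))) = Nat.card B := by
  set C : Subgroup G := Subgroup.centralizer ({b} : Set G) with hC
  have hS : IsElementaryAbelian p (B.subgroupOf C) := by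
    have := hB.1
    refine ⟨⟨⟨?_⟩⟩, ?_⟩
    · rintro ⟨x, hx⟩ ⟨y, hy⟩
      apply Subtype.ext
      have h1 := mul_comm' (⟨(x : G), hx⟩ : B) ⟨(y : G), hy⟩
      have h2 : (x : G) * (y : G) = (y : G) * (x : G) := congrArg Subtype.val h1
      exact Subtype.ext h2
    · intro x hx
      apply Subtype.ext
      have := hB.2 (x : G) hx
      simpa using this
  refine ⟨isElementaryAbelian_map _ hS, ?_⟩
  rw [card_map_of_inf_ker_eq_bot, Nat.card_congr (Subgroup.subgroupOfEquivOfLe hBC).toEquiv]
  rw [QuotientGroup.ker_mk']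
  exact Cfsg.Agent.Lib.Helper97.inf_eq_bot_of_isPGroup_of_coprime
    (isPGroup_of_elementaryAbelian hS) (Cfsg.Agent.Lib.Helper22.pPrimeCore_card_coprime p)

/-- **`k`-balance from local `k`-balance** of the simple quotients of the components of
`C_G(x) / O_{p'}(C_G(x))`, `x` of order `p`. -/
theorem isKBalanced_of_isLocallyKBalanced_quotient_center [Finite G] (p k : ℕ) [Fact p.Prime]
    (hk : 1 ≤ k)
    (h : ∀ x : G, orderOf x = p → ∀ K : Subgroup (↥(Subgroup.centralizer ({x} : Set G)) ⧸
        pPrimeCore p ↥(Subgroup.centralizer ({x} : Set G))),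
      IsComponent K → IsLocallyKBalanced p k (↥K ⧸ Subgroup.center ↥K)) :
    IsKBalanced p k G := by
  intro A hA hAk b hb hcomm
  apply signalizerDelta_inf_centralizer_le_of_quotient hA
  have hAC : A ≤ Subgroup.centralizer ({b} : Set G) := by
    intro a ha
    rw [Subgroup.mem_centralizer_iff]
    intro t ht
    rw [Set.mem_singleton_iff] at ht
    rw [ht]
    exact (hcomm a ha).symm
  obtain ⟨h1, h2⟩ := image_elementaryAbelian_card hA hAC
  exact signalizerDelta_eq_bot_of_isLocallyKBalanced_quotient_center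
    (Cfsg.Agent.Lib.Helper97.pPrimeCore_quotient_pPrimeCore p) hk h1 (h2.trans hAk) (h b hb)

/-- Local balance (for involutions) is local `1`-balance for the prime `2`. -/
theorem isLocallyKBalanced_of_isLocallyBalanced {T : Type*} [Group T]
    (h : IsLocallyBalanced T) : IsLocallyKBalanced 2 1 T := by
  intro H hH A hA hAk
  have hA1 : A ≠ ⊥ := by
    intro h0
    rw [h0, Subgroup.card_bot] at hAk
    norm_num at hAk
  obtain ⟨x', hx1'⟩ := (Subgroup.ne_bot_iff_exists_ne_one).mp hA1
  have hx : (x' : ↥H) ∈ A := x'.2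
  have hx1 : (x' : ↥H) ≠ 1 := fun h0 => hx1' (Subtype.ext h0)
  have hord : orderOf (x' : ↥H) = 2 := orderOf_eq_prime (hA.2 _ hx) hx1
  rw [eq_bot_iff, ← h H hH (x' : ↥H) hord]
  exact signalizerDelta_le hx hx1

/-- For an involution `x`, `Δ(⟨x⟩) = O(C(x))`. -/
theorem centralizerPPrimeCore_le_signalizerDelta_zpowers {x : G} (hx : x ^ 2 = 1) (p : ℕ) :
    centralizerPPrimeCore p x ≤ signalizerDelta p (Subgroup.zpowers x) := by
  unfold signalizerDelta
  refine le_iInf fun a => ?_
  obtain ⟨n, hn⟩ := Subgroup.mem_zpowers_iff.mp a.2.1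
  have h1 : x ^ n = x ^ (n % 2) := by
    conv_lhs => rw [← Int.emod_add_mul_ediv n 2, zpow_add, zpow_mul]
    have : x ^ (2 : ℤ) = 1 := by exact_mod_cast hx
    rw [this, one_zpow, mul_one]
  rcases Int.emod_two_eq_zero_or_one n with h2 | h2
  · exfalso
    apply a.2.2
    rw [← hn, h1, h2, zpow_zero]
  · have : (a : G) = x := by rw [← hn, h1, h2, zpow_one]
    rw [this]

/-- **Balance from local balance** of the simple quotients of the components of
`C_G(x) / O(C_G(x))`, `x` an involution. -/
theorem isBalanced_of_isLocallyBalanced_quotient_center [Finite G]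
    (h : ∀ x : G, orderOf x = 2 → ∀ K : Subgroup (↥(Subgroup.centralizer ({x} : Set G)) ⧸
        pPrimeCore 2 ↥(Subgroup.centralizer ({x} : Set G))),
      IsComponent K → IsLocallyBalanced (↥K ⧸ Subgroup.center ↥K)) :
    IsBalanced G := by
  haveI : Fact (Nat.Prime 2) := ⟨Nat.prime_two⟩
  have hkb : IsKBalanced 2 1 G :=
    isKBalanced_of_isLocallyKBalanced_quotient_center 2 1 le_rfl
      (fun x hx K hK => isLocallyKBalanced_of_isLocallyBalanced (h x hx K hK))
  have key : ∀ x y : G, orderOf x = 2 → orderOf y = 2 → x * y = y * x →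
      centralizerPPrimeCore 2 x ⊓ Subgroup.centralizer {y} ≤
        centralizerPPrimeCore 2 y ⊓ Subgroup.centralizer {x} := by
    intro x y hx hy hxy
    have hx2 : x ^ 2 = 1 := by rw [← hx]; exact pow_orderOf_eq_one x
    have hZ : IsElementaryAbelian 2 (Subgroup.zpowers x) := by
      refine ⟨inferInstance, ?_⟩
      intro a ha
      obtain ⟨n, rfl⟩ := Subgroup.mem_zpowers_iff.mp ha
      rw [← zpow_natCast, ← zpow_mul, mul_comm, zpow_mul, zpow_natCast, hx2, one_zpow]
    have hZc : Nat.card (Subgroup.zpowers x) = 2 ^ 1 := by rw [Nat.card_zpowers, hx, pow_one]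
    have hcomm : ∀ a ∈ Subgroup.zpowers x, a * y = y * a := by
      intro a ha
      obtain ⟨n, rfl⟩ := Subgroup.mem_zpowers_iff.mp ha
      have : Commute x y := hxy
      exact (this.zpow_left n).eq
    have h1 := hkb (Subgroup.zpowers x) hZ hZc y hy hcomm
    refine le_inf ?_ (inf_le_left.trans (centralizerPPrimeCore_le 2 x))
    exact (inf_le_inf_right _ (centralizerPPrimeCore_le_signalizerDelta_zpowers hx2 2)).trans h1
  intro x y hx hy hxy
  exact le_antisymm (key x y hx hy hxy) (key y x hy hx hxy.symm)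

end KBalanceCenter

end Cfsg.Agent.Lib.Helper31
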