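import Mathlib
import Cfsg.Prelude.Def_OddOrderLocal
import Cfsg.Agent.Lib.Helper55.Cores
import Cfsg.Agent.Lib.Helper49.RankOneCyclic

set_option autoImplicit false

/-!
Modules [NB] and [CYC] for helper51 (BG Theorem 15.7): the subgroups `O_q(H)` of a nilpotent
subgroup `H` of a finite group `G`, written `(Cfsg.pCore q ↥H).map H.subtype`.
By helper31.
-/

namespace Cfsg.Agent.Lib.Helper31.NilpCore

open Cfsg Cfsg.Agent.Lib.Helper55
open scoped commutatorElement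

set_option linter.style.haveILetI false
set_option linter.unusedSectionVars false

section General

variable {K : Type*} [Group K] [Finite K]

/-- A subgroup containing a Sylow `r`-subgroup for every prime `r` is everything. -/
theorem eq_top_of_forall_sylow_le (D : Subgroup K)
    (h : ∀ r : ℕ, ∀ _ : Fact r.Prime, ∃ S : Sylow r K, (S : Subgroup K) ≤ D) : D = ⊤ := by
  apply Subgroup.eq_top_of_card_eq
  refine Nat.dvd_antisymm (Subgroup.card_subgroup_dvd_card D) ?_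
  rw [← Nat.factorization_prime_le_iff_dvd Nat.card_pos.ne' Nat.card_pos.ne']
  intro r hr
  haveI := Fact.mk hr
  obtain ⟨S, hS⟩ := h r ⟨hr⟩
  rw [← hr.pow_dvd_iff_le_factorization Nat.card_pos.ne', ← S.card_eq_multiplicity]
  exact Subgroup.card_dvd_of_le hS

/-- In a nilpotent finite group the `q`-core is a Sylow `q`-subgroup. -/
theorem exists_sylow_eq_pCore' (hK : Group.IsNilpotent K) (q : ℕ) [Fact q.Prime] :
    ∃ S : Sylow q K, (S : Subgroup K) = Cfsg.pCore q K := by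
  let S : Sylow q K := default
  refine ⟨S, le_antisymm ?_ (pCore_le_sylow S)⟩
  have hn : (S : Subgroup K).Normal := inferInstance
  exact le_pCore hn S.2

theorem le_pCore_of_isPGroup' (hK : Group.IsNilpotent K) (q : ℕ) [Fact q.Prime]
    {B : Subgroup K} (hB : IsPGroup q B) : B ≤ Cfsg.pCore q K := by
  obtain ⟨S, hS⟩ := hB.exists_le_sylow
  have hn : (S : Subgroup K).Normal := inferInstance
  exact hS.trans (le_pCore hn S.2)

theorem pCore_le_pPrimeCore' (q r : ℕ) [Fact q.Prime] [Fact r.Prime] (hqr : q ≠ r) :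
    Cfsg.pCore r K ≤ Cfsg.pPrimeCore q K := by
  apply le_pPrimeCore (pCore_normal' r)
  obtain ⟨n, hn⟩ := IsPGroup.iff_card.mp (isPGroup_pCore (G := K) r)
  rw [hn]
  apply Nat.Coprime.pow_left
  exact (Nat.coprime_primes Fact.out Fact.out).mpr (Ne.symm hqr)

theorem pCore_sup_pPrimeCore_eq_top (hK : Group.IsNilpotent K) (q : ℕ) [Fact q.Prime] :
    Cfsg.pCore q K ⊔ Cfsg.pPrimeCore q K = ⊤ := by
  apply eq_top_of_forall_sylow_le
  intro r hr
  obtain ⟨S, hS⟩ := exists_sylow_eq_pCore' hK r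
  refine ⟨S, ?_⟩
  rw [hS]
  by_cases hqr : q = r
  · subst hqr
    exact le_sup_left
  · exact (pCore_le_pPrimeCore' q r hqr).trans le_sup_right

theorem pCore_disjoint_pPrimeCore (p : ℕ) [Fact p.Prime] :
    Disjoint (Cfsg.pCore p K) (Cfsg.pPrimeCore p K) := by
  apply Subgroup.disjoint_of_coprime_natCard
  obtain ⟨n, hn⟩ := IsPGroup.iff_card.mp (isPGroup_pCore (G := K) p)
  rw [hn]
  exact Nat.Coprime.pow_left _ (card_pPrimeCore_coprime p).symm

theorem commute_pCore_pPrimeCore (p : ℕ) [Fact p.Prime] {a b : K}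
    (ha : a ∈ Cfsg.pCore p K) (hb : b ∈ Cfsg.pPrimeCore p K) : a * b = b * a :=
  Subgroup.commute_of_normal_of_disjoint _ _ (pCore_normal' p) (pPrimeCore_normal' p)
    (pCore_disjoint_pPrimeCore p) a b ha hb

theorem pCore_inf_commutator_le' (hK : Group.IsNilpotent K) (q : ℕ) [Fact q.Prime] :
    Cfsg.pCore q K ⊓ ⁅(⊤ : Subgroup K), ⊤⁆ ≤ ⁅Cfsg.pCore q K, Cfsg.pCore q K⁆ := by
  set Q := Cfsg.pCore q K with hQ
  set C := Cfsg.pPrimeCore q K with hC
  haveI hQn : Q.Normal := pCore_normal' q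
  haveI hCn : C.Normal := pPrimeCore_normal' q
  have htop : Q ⊔ C = ⊤ := pCore_sup_pPrimeCore_eq_top hK q
  have hcomm : ∀ a ∈ Q, ∀ c ∈ C, a * c = c * a := fun a ha c hc =>
    commute_pCore_pPrimeCore q ha hc
  -- every element is a product
  have hprod : ∀ g : K, ∃ a ∈ Q, ∃ c ∈ C, g = a * c := by
    intro g
    have hg : g ∈ Q ⊔ C := by rw [htop]; trivial
    rw [← SetLike.mem_coe, Subgroup.mul_normal Q C] at hg
    obtain ⟨a, ha, c, hc, rfl⟩ := Set.mem_mul.mp hg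
    exact ⟨a, ha, c, hc, rfl⟩
  have hderived : ⁅(⊤ : Subgroup K), ⊤⁆ ≤ ⁅Q, Q⁆ ⊔ ⁅C, C⁆ := by
    rw [Subgroup.commutator_le]
    intro g₁ _ g₂ _
    obtain ⟨a₁, ha₁, c₁, hc₁, rfl⟩ := hprod g₁
    obtain ⟨a₂, ha₂, c₂, hc₂, rfl⟩ := hprod g₂
    have h1 : ⁅a₁ * c₁, a₂ * c₂⁆ = ⁅a₁, a₂⁆ * ⁅c₁, c₂⁆ := by
      rw [commutatorElement_def, commutatorElement_def, commutatorElement_def]
      have e1 := hcomm a₁ ha₁ c₁ hc₁
      have e2 := hcomm a₂ ha₂ c₂ hc₂
      have e3 := hcomm a₁ ha₁ c₂ hc₂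
      have e4 := hcomm a₂ ha₂ c₁ hc₁
      have e5 := hcomm a₁⁻¹ (Q.inv_mem ha₁) c₁ hc₁
      have e6 := hcomm a₂⁻¹ (Q.inv_mem ha₂) c₁ hc₁
      have e7 := hcomm a₁⁻¹ (Q.inv_mem ha₁) c₂ hc₂
      have e8 := hcomm a₂⁻¹ (Q.inv_mem ha₂) c₂ hc₂
      have e9 := hcomm a₁⁻¹ (Q.inv_mem ha₁) c₁⁻¹ (C.inv_mem hc₁)
      have e10 := hcomm a₂⁻¹ (Q.inv_mem ha₂) c₁⁻¹ (C.inv_mem hc₁)
      have e11 := hcomm a₂⁻¹ (Q.inv_mem ha₂) c₂⁻¹ (C.inv_mem hc₂)
      simp only [mul_inv_rev]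
      calc a₁ * c₁ * (a₂ * c₂) * (c₁⁻¹ * a₁⁻¹) * (c₂⁻¹ * a₂⁻¹)
          = a₁ * (c₁ * a₂) * c₂ * c₁⁻¹ * (a₁⁻¹ * c₂⁻¹) * a₂⁻¹ := by group
        _ = a₁ * (a₂ * c₁) * c₂ * c₁⁻¹ * (c₂⁻¹ * a₁⁻¹) * a₂⁻¹ := by
            rw [← e4, hcomm a₁⁻¹ (Q.inv_mem ha₁) c₂⁻¹ (C.inv_mem hc₂)]
        _ = a₁ * a₂ * ((c₁ * c₂ * c₁⁻¹ * c₂⁻¹) * a₁⁻¹) * a₂⁻¹ := by group
        _ = a₁ * a₂ * (a₁⁻¹ * (c₁ * c₂ * c₁⁻¹ * c₂⁻¹)) * a₂⁻¹ := by
            rw [hcomm a₁⁻¹ (Q.inv_mem ha₁) (c₁ * c₂ * c₁⁻¹ * c₂⁻¹)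
              (C.mul_mem (C.mul_mem (C.mul_mem hc₁ hc₂) (C.inv_mem hc₁)) (C.inv_mem hc₂))]
        _ = a₁ * a₂ * a₁⁻¹ * ((c₁ * c₂ * c₁⁻¹ * c₂⁻¹) * a₂⁻¹) := by group
        _ = a₁ * a₂ * a₁⁻¹ * (a₂⁻¹ * (c₁ * c₂ * c₁⁻¹ * c₂⁻¹)) := by
            rw [hcomm a₂⁻¹ (Q.inv_mem ha₂) (c₁ * c₂ * c₁⁻¹ * c₂⁻¹)
              (C.mul_mem (C.mul_mem (C.mul_mem hc₁ hc₂) (C.inv_mem hc₁)) (C.inv_mem hc₂))]
        _ = a₁ * a₂ * a₁⁻¹ * a₂⁻¹ * (c₁ * c₂ * c₁⁻¹ * c₂⁻¹) := by group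
    rw [h1]
    exact Subgroup.mul_mem _
      (Subgroup.mem_sup_left (Subgroup.commutator_mem_commutator ha₁ ha₂))
      (Subgroup.mem_sup_right (Subgroup.commutator_mem_commutator hc₁ hc₂))
  intro y hy
  obtain ⟨hyQ, hyD⟩ := Subgroup.mem_inf.mp hy
  have hy2 := hderived hyD
  haveI : (⁅C, C⁆).Normal := Subgroup.commutator_normal C C
  rw [← SetLike.mem_coe, Subgroup.mul_normal] at hy2
  obtain ⟨u, hu, v, hv, huv⟩ := Set.mem_mul.mp hy2
  have huQ : u ∈ Q := Subgroup.commutator_le_left Q Q hu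
  have hvC : v ∈ C := Subgroup.commutator_le_left C C hv
  have hvQ : v ∈ Q := by
    have : v = u⁻¹ * y := by rw [← huv]; group
    rw [this]
    exact Q.mul_mem (Q.inv_mem huQ) hyQ
  have hv1 : v = 1 := by
    have := (pCore_disjoint_pPrimeCore (K := K) q)
    rw [Subgroup.disjoint_def] at this
    exact this hvQ hvC
  rw [← huv, hv1, mul_one]
  exact hu

end General

section Sub

variable {G : Type*} [Group G] [Finite G]

/-- NB1 -/
theorem exists_sylow_eq_pCore (H : Subgroup G) (hH : Group.IsNilpotent H) (q : ℕ) [Fact q.Prime] :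
    ∃ S : Sylow q ↥H, (S : Subgroup ↥H) = Cfsg.pCore q ↥H :=
  exists_sylow_eq_pCore' hH q

/-- NB1' -/
theorem le_map_pCore_of_isPGroup (H : Subgroup G) (hH : Group.IsNilpotent H) (q : ℕ)
    [Fact q.Prime] {B : Subgroup G} (hBH : B ≤ H) (hB : IsPGroup q B) :
    B ≤ (Cfsg.pCore q ↥H).map H.subtype := by
  have h1 : IsPGroup q (B.subgroupOf H) := hB.comap_subtype
  have h2 := le_pCore_of_isPGroup' hH q h1
  intro x hx
  exact ⟨⟨x, hBH hx⟩, h2 (Subgroup.mem_subgroupOf.mpr hx), rfl⟩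

/-- NB2 -/
theorem le_of_forall_map_pCore_le (H : Subgroup G) (hH : Group.IsNilpotent H) {C : Subgroup G}
    (h : ∀ q : ℕ, q.Prime → (Cfsg.pCore q ↥H).map H.subtype ≤ C) : H ≤ C := by
  have h1 : C.subgroupOf H = ⊤ := by
    apply eq_top_of_forall_sylow_le
    intro r hr
    obtain ⟨S, hS⟩ := exists_sylow_eq_pCore' hH r
    refine ⟨S, ?_⟩
    rw [hS]
    intro x hx
    rw [Subgroup.mem_subgroupOf]
    exact h r hr.out ⟨x, hx, rfl⟩
  exact Subgroup.subgroupOf_eq_top.mp h1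

/-- NB3 -/
theorem map_pCore_ne_bot (H : Subgroup G) (hH : Group.IsNilpotent H) (q : ℕ) [Fact q.Prime]
    (hq : q ∣ Nat.card H) : (Cfsg.pCore q ↥H).map H.subtype ≠ ⊥ := by
  obtain ⟨S, hS⟩ := exists_sylow_eq_pCore' hH q
  have h1 : (S : Subgroup ↥H) ≠ ⊥ := S.ne_bot_of_dvd_card hq
  rw [hS] at h1
  intro h2
  apply h1
  rwa [Subgroup.map_eq_bot_iff_of_injective _ H.subtype_injective] at h2

/-- NB5 -/
theorem commute_of_mem_map_pCore_pPrimeCore (H : Subgroup G) (p : ℕ) [Fact p.Prime] {a b : G}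
    (ha : a ∈ (Cfsg.pCore p ↥H).map H.subtype) (hb : b ∈ (Cfsg.pPrimeCore p ↥H).map H.subtype) :
    a * b = b * a := by
  obtain ⟨a', ha', rfl⟩ := ha
  obtain ⟨b', hb', rfl⟩ := hb
  have := commute_pCore_pPrimeCore p ha' hb'
  have h2 := congrArg H.subtype this
  simpa using h2

/-- NB4 -/
theorem commute_of_mem_map_pCore (H : Subgroup G) (q r : ℕ) [Fact q.Prime] [Fact r.Prime]
    (hqr : q ≠ r) {a b : G} (ha : a ∈ (Cfsg.pCore q ↥H).map H.subtype)
    (hb : b ∈ (Cfsg.pCore r ↥H).map H.subtype) : a * b = b * a :=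
  commute_of_mem_map_pCore_pPrimeCore H q ha
    (Subgroup.map_mono (pCore_le_pPrimeCore' q r hqr) hb)

/-- NB6 -/
theorem map_pCore_inf_commutator_le (H : Subgroup G) (hH : Group.IsNilpotent H) (q : ℕ)
    [Fact q.Prime] :
    (Cfsg.pCore q ↥H).map H.subtype ⊓ ⁅H, H⁆ ≤
      ⁅(Cfsg.pCore q ↥H).map H.subtype, (Cfsg.pCore q ↥H).map H.subtype⁆ := by
  have h1 := pCore_inf_commutator_le' hH q
  have h2 : ⁅H, H⁆ = Subgroup.map H.subtype (⁅(⊤ : Subgroup ↥H), (⊤ : Subgroup ↥H)⁆) := by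
    rw [Subgroup.map_commutator, ← MonoidHom.range_eq_map, Subgroup.range_subtype]
  rw [h2, ← Subgroup.map_inf _ _ _ H.subtype_injective, ← Subgroup.map_commutator]
  exact Subgroup.map_mono h1

/-- NB7 -/
theorem normalizer_le_normalizer_map_pCore (H : Subgroup G) (hH : Group.IsNilpotent H) (q : ℕ)
    [Fact q.Prime] :
    Subgroup.normalizer (H : Set G) ≤
      Subgroup.normalizer (((Cfsg.pCore q ↥H).map H.subtype : Subgroup G) : Set G) := by
  set Q := (Cfsg.pCore q ↥H).map H.subtype with hQ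
  have hQH : Q ≤ H := Subgroup.map_subtype_le _
  have hQp : IsPGroup q Q := (isPGroup_pCore q).map _
  have key : ∀ g : G, g ∈ Subgroup.normalizer (H : Set G) → Q.map (MulAut.conj g).toMonoidHom ≤ Q := by
    intro g hg
    apply le_map_pCore_of_isPGroup H hH q _ (hQp.map _)
    have hg' := Subgroup.mem_normalizer_iff_map_conj_eq.mp hg
    calc Q.map (MulAut.conj g).toMonoidHom ≤ H.map (MulAut.conj g).toMonoidHom :=
          Subgroup.map_mono hQH
      _ = H := hg'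
  intro g hg
  rw [Subgroup.mem_normalizer_iff_map_conj_eq]
  apply le_antisymm (key g hg)
  have h2 := key g⁻¹ (Subgroup.inv_mem _ hg)
  intro x hx
  refine ⟨g⁻¹ * x * g, ?_, by simp [mul_assoc]⟩
  apply h2
  exact ⟨x, hx, by simp⟩

end Sub

section Cyc

/-- [CYC] -/
theorem isCyclic_of_comm_of_pRankLE_one {A : Type*} [Group A] [Finite A]
    (hodd : Odd (Nat.card A)) (hc : ∀ a b : A, a * b = b * a)
    (hr : ∀ q : ℕ, q.Prime → Cfsg.PRankLE q 1 A) : IsCyclic A := by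
  haveI hZ : IsZGroup A := by
    refine ⟨fun p hp P => ?_⟩
    haveI := Fact.mk hp
    by_cases hp2 : p = 2
    · subst hp2
      obtain ⟨n, hn⟩ := IsPGroup.iff_card.mp P.isPGroup'
      have hdvd : Nat.card (P : Subgroup A) ∣ Nat.card A := Subgroup.card_subgroup_dvd_card _
      have hn0 : n = 0 := by
        by_contra hn0
        have h2 : 2 ∣ Nat.card A := by
          refine dvd_trans ?_ hdvd
          rw [hn]
          exact dvd_pow_self 2 hn0
        exact (Nat.not_even_iff_odd.mpr hodd) (even_iff_two_dvd.mpr h2)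
      rw [hn0, pow_zero] at hn
      haveI : Subsingleton (P : Subgroup A) := (Nat.card_eq_one_iff_unique.mp hn).1
      exact isCyclic_of_subsingleton
    apply Cfsg.Agent.Lib.Helper49.isCyclic_of_pRankLE_one hp2 P.isPGroup'
    intro B hB hBp
    have h1 := hr p hp (B.map (P : Subgroup A).subtype) ⟨⟨fun a b => Subtype.ext (hc _ _)⟩⟩ (by
      rintro _ ⟨b, hb, rfl⟩
      have := hBp b hb
      have h2 := congrArg (P : Subgroup A).subtype this
      simpa using h2)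
    rwa [Subgroup.card_map_of_injective (Subgroup.subtype_injective _)] at h1
  letI : CommGroup A := { (inferInstance : Group A) with mul_comm := hc }
  exact IsCyclic.of_exponent_eq_card (IsZGroup.exponent_eq_card A)

end Cyc

end Cfsg.Agent.Lib.Helper31.NilpCore
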