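/-
helper31 shared library (for S2924): general lemmas on odd-order normal subgroups.

* `inverts_of_fpf`, `commute_of_inverts` : a fixed-point-free involution inverts, inverted subgroups
  are commutative;
* `odd_card_of_forall_odd_orderOf` : a finite subgroup all of whose elements have odd order has odd
  order;
* `commute_of_normalizing_of_coprime` : mutually normalizing subgroups of coprime orders commute;
* `OIn_eq_bot_of_charP` : a group of characteristic `p` has trivial `p'`-core;
* `le_oddCore_of_centralizes` : in a finite group `C` with `E(C) = 1`, a subgroup of odd-order elements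
  centralizing `O_2(C)` and `O(C)` lies in `O(C)`; `le_OIn_of_centralizes` is its ambient form.
-/
import Mathlib
import Cfsg.Prelude.Def_Local
import Cfsg.Prelude.Def_CaseTheorems
import Cfsg.Agent.Lib.Helper31.CharPLocals
import Cfsg.Agent.Lib.Helper31.PCT2
import Cfsg.Agent.Lib.Helper97.Cores

set_option autoImplicit false

namespace Cfsg.Agent.Lib.Helper31.OddCores

open Cfsg Cfsg.Agent.Lib.Helper31 Cfsg.Agent.Lib.Helper49

variable {G : Type*} [Group G]

/-- An involution normalizing a finite subgroup `K` and commuting with no nonidentity element of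
`K` inverts `K`. -/
theorem inverts_of_fpf [Finite G] {u : G} (huu : u * u = 1) (K : Subgroup G)
    (hnorm : ∀ k ∈ K, u * k * u⁻¹ ∈ K) (hfpf : ∀ k ∈ K, u * k = k * u → k = 1) :
    ∀ k ∈ K, u * k * u⁻¹ = k⁻¹ := by
  let φ : ↥K →* ↥K :=
    { toFun := fun k => ⟨u * k.1 * u⁻¹, hnorm k.1 k.2⟩
      map_one' := by
        apply Subtype.ext
        show u * (1 : G) * u⁻¹ = 1
        group
      map_mul' := by
        intro a b
        apply Subtype.ext
        show u * ((a : G) * (b : G)) * u⁻¹ = u * (a : G) * u⁻¹ * (u * (b : G) * u⁻¹)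
        group }
  have hφ : MonoidHom.FixedPointFree φ := by
    intro k hk
    have hk' : u * (k : G) * u⁻¹ = (k : G) := congrArg Subtype.val hk
    have h1 : (k : G) = 1 := by
      apply hfpf k.1 k.2
      calc u * (k : G) = u * (k : G) * u⁻¹ * u := by group
        _ = (k : G) * u := by rw [hk']
    exact Subtype.ext h1
  have h2 : Function.Involutive φ := by
    intro k
    apply Subtype.ext
    show u * (u * (k : G) * u⁻¹) * u⁻¹ = (k : G)
    calc u * (u * (k : G) * u⁻¹) * u⁻¹ = (u * u) * (k : G) * (u * u)⁻¹ := by group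
      _ = (k : G) := by rw [huu]; group
  have key := MonoidHom.FixedPointFree.coe_eq_inv_of_involutive hφ h2
  intro k hk
  have := congrFun key ⟨k, hk⟩
  exact congrArg Subtype.val this

/-- A subgroup inverted elementwise by an element is commutative. -/
theorem commute_of_inverts {u : G} {D : Subgroup G} (hinv : ∀ d ∈ D, u * d * u⁻¹ = d⁻¹)
    {a b : G} (ha : a ∈ D) (hb : b ∈ D) : a * b = b * a := by
  have h1 : u * (a * b) * u⁻¹ = (a * b)⁻¹ := hinv _ (D.mul_mem ha hb)
  have h2 : u * (a * b) * u⁻¹ = a⁻¹ * b⁻¹ := by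
    calc u * (a * b) * u⁻¹ = (u * a * u⁻¹) * (u * b * u⁻¹) := by group
      _ = a⁻¹ * b⁻¹ := by rw [hinv a ha, hinv b hb]
  have h3 : (a * b)⁻¹ = a⁻¹ * b⁻¹ := by rw [← h1, h2]
  have h4 : a * b = (a⁻¹ * b⁻¹)⁻¹ := by rw [← h3, inv_inv]
  rw [h4]
  group

/-- A finite subgroup all of whose elements have odd order has odd order. -/
theorem odd_card_of_forall_odd_orderOf [Finite G] (K : Subgroup G)
    (h : ∀ k ∈ K, Odd (orderOf k)) : Odd (Nat.card K) := by
  by_contra hcon
  rw [Nat.not_odd_iff_even] at hcon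
  have : Fact (Nat.Prime 2) := ⟨Nat.prime_two⟩
  obtain ⟨x, hx⟩ := exists_prime_orderOf_dvd_card' (G := K) 2 hcon.two_dvd
  have h1 := h x.1 x.2
  rw [Subgroup.orderOf_coe, hx] at h1
  exact absurd h1 (by decide)

/-- Elements of a subgroup of order prime to `2` have odd order. -/
theorem odd_orderOf_of_mem_of_coprime {K : Subgroup G} (hK : (Nat.card K).Coprime 2) {g : G}
    (hg : g ∈ K) : Odd (orderOf g) := by
  have h1 : orderOf g ∣ Nat.card K := Subgroup.orderOf_dvd_natCard K hg
  exact (Nat.coprime_two_right.mp hK).of_dvd_nat h1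

/-- Two subgroups of coprime orders normalizing each other commute elementwise. -/
theorem commute_of_normalizing_of_coprime {A B : Subgroup G}
    (hAB : A ≤ Subgroup.normalizer (B : Set G)) (hBA : B ≤ Subgroup.normalizer (A : Set G))
    (hcop : (Nat.card A).Coprime (Nat.card B)) : ∀ a ∈ A, ∀ b ∈ B, Commute a b := by
  intro a ha b hb
  have h1 : a * b * a⁻¹ * b⁻¹ ∈ B :=
    B.mul_mem ((Subgroup.mem_normalizer_iff.mp (hAB ha) b).mp hb) (B.inv_mem hb)
  have h2 : a * b * a⁻¹ * b⁻¹ ∈ A := by
    have : b * a⁻¹ * b⁻¹ ∈ A := (Subgroup.mem_normalizer_iff.mp (hBA hb) _).mp (A.inv_mem ha)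
    have e : a * b * a⁻¹ * b⁻¹ = a * (b * a⁻¹ * b⁻¹) := by group
    rw [e]
    exact A.mul_mem ha this
  have h3 : a * b * a⁻¹ * b⁻¹ ∈ A ⊓ B := ⟨h2, h1⟩
  have hd : Disjoint A B := Subgroup.disjoint_of_coprime_natCard hcop
  rw [hd.eq_bot, Subgroup.mem_bot] at h3
  show a * b = b * a
  calc a * b = (a * b * a⁻¹ * b⁻¹) * (b * a) := by group
    _ = b * a := by rw [h3, one_mul]

/-- The order of `O_p(L)` is coprime to any number coprime to `p`. -/
theorem coprime_card_pCoreIn {p : ℕ} [Fact p.Prime] [Finite G] (L : Subgroup G) {n : ℕ}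
    (hn : n.Coprime p) : n.Coprime (Nat.card (pCoreIn p L)) := by
  obtain ⟨k, hk⟩ := (isPGroup_pCoreIn p L).exists_card_eq
  rw [hk]
  exact hn.pow_right k

/-- A group of characteristic `p` has trivial `p'`-core. -/
theorem OIn_eq_bot_of_charP {p : ℕ} [Fact p.Prime] [Finite G] {L : Subgroup G} (h : CharP p L) :
    OIn p L = ⊥ := by
  rw [eq_bot_iff]
  intro x hx
  rw [Subgroup.mem_bot]
  have hcop : (Nat.card (OIn p L)).Coprime (Nat.card (pCoreIn p L)) :=
    coprime_card_pCoreIn L (card_OIn_coprime p L)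
  have hcomm := commute_of_normalizing_of_coprime (A := OIn p L) (B := pCoreIn p L)
    ((OIn_le p L).trans (le_normalizer_pCoreIn p L))
    ((pCoreIn_le p L).trans (le_normalizer_OIn p L)) hcop
  apply charP_iff_forall.mp h x (OIn_le p L hx)
  · rw [Subgroup.mem_centralizer_iff]
    intro r hr
    exact (hcomm x hx r hr).eq.symm
  · exact Nat.Coprime.coprime_dvd_left (Subgroup.orderOf_dvd_natCard _ hx) (card_OIn_coprime p L)

/-! ### The key lemma: odd-order subgroups centralizing `O_2(C)` and `O(C)` when `E(C) = 1` -/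

section Key

variable {C : Type*} [Group C]

/-- The elements of odd order of a commutative subgroup. -/
def oddPart (Z : Subgroup C) (hZ : ∀ a ∈ Z, ∀ b ∈ Z, a * b = b * a) : Subgroup C where
  carrier := {g | g ∈ Z ∧ Odd (orderOf g)}
  one_mem' := ⟨Z.one_mem, by rw [orderOf_one]; exact odd_one⟩
  mul_mem' := by
    rintro a b ⟨ha, hoa⟩ ⟨hb, hob⟩
    refine ⟨Z.mul_mem ha hb, ?_⟩
    have hc : Commute a b := hZ a ha b hb
    have h1 := hc.orderOf_mul_dvd_lcm
    have h2 : Odd ((orderOf a).lcm (orderOf b)) := by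
      have h3 : (orderOf a).lcm (orderOf b) ∣ orderOf a * orderOf b := Nat.lcm_dvd_mul _ _
      exact (hoa.mul hob).of_dvd_nat h3
    exact h2.of_dvd_nat h1
  inv_mem' := by
    rintro a ⟨ha, hoa⟩
    exact ⟨Z.inv_mem ha, by rw [orderOf_inv]; exact hoa⟩

theorem mem_oddPart {Z : Subgroup C} {hZ : ∀ a ∈ Z, ∀ b ∈ Z, a * b = b * a} {g : C} :
    g ∈ oddPart Z hZ ↔ g ∈ Z ∧ Odd (orderOf g) := Iff.rfl

theorem oddPart_normal {Z : Subgroup C} (hZ : ∀ a ∈ Z, ∀ b ∈ Z, a * b = b * a) (hn : Z.Normal) :
    (oddPart Z hZ).Normal := by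
  constructor
  rintro n ⟨hn1, hn2⟩ g
  refine ⟨hn.conj_mem n hn1 g, ?_⟩
  have := MulEquiv.orderOf_eq (MulAut.conj g) n
  rw [MulAut.conj_apply] at this
  rw [this]
  exact hn2

theorem odd_card_oddPart [Finite C] {Z : Subgroup C} (hZ : ∀ a ∈ Z, ∀ b ∈ Z, a * b = b * a) :
    Odd (Nat.card (oddPart Z hZ)) :=
  odd_card_of_forall_odd_orderOf _ fun _ hk => hk.2

/-- **Key lemma.** Let `C` be a finite group with `E(C) = 1`. A subgroup all of whose elements have odd
order and which centralizes `O_2(C)` and `O(C)` lies in `O(C)`. -/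
theorem le_oddCore_of_centralizes [Finite C] (hE : layer C = ⊥) (P : Subgroup C)
    (hodd : ∀ g ∈ P, Odd (orderOf g))
    (h2 : P ≤ Subgroup.centralizer (pCore 2 C : Set C))
    (ho : P ≤ Subgroup.centralizer (oddCore C : Set C)) : P ≤ oddCore C := by
  have hF : generalizedFittingSubgroup C = fittingSubgroup C := by
    unfold generalizedFittingSubgroup
    rw [hE, bot_sup_eq]
  -- `P` centralizes `F*(C)`
  have hPF : P ≤ Subgroup.centralizer (generalizedFittingSubgroup C : Set C) := by
    rw [hF, Subgroup.le_centralizer_iff, Cfsg.Agent.Lib.Helper1.fittingSubgroup_eq_iSup_pCore]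
    refine iSup_le fun q => ?_
    by_cases hq : (q : ℕ) = 2
    · rw [hq]
      exact Subgroup.le_centralizer_iff.mp h2
    · have hqp : Fact (q : ℕ).Prime := ⟨q.2⟩
      have h3 : pCore (q : ℕ) C ≤ oddCore C := by
        apply Cfsg.Agent.Lib.Helper97.le_oddCore_of_normal_of_odd
          (Cfsg.Agent.Lib.Helper1.pCore_normal (q : ℕ))
        obtain ⟨k, hk⟩ := (Cfsg.Agent.Lib.Helper1.pCore_isPGroup (G := C) (q : ℕ)).exists_card_eq
        rw [hk]
        exact (q.2.eq_two_or_odd'.resolve_left hq).pow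
      exact h3.trans (Subgroup.le_centralizer_iff.mp ho)
  set Z := Subgroup.centralizer (generalizedFittingSubgroup C : Set C) with hZdef
  have hZle : Z ≤ generalizedFittingSubgroup C :=
    Cfsg.Agent.Lib.Helper22.centralizer_generalizedFittingSubgroup_le
  have hZc : ∀ a ∈ Z, ∀ b ∈ Z, a * b = b * a := by
    intro a ha b hb
    exact ((Subgroup.mem_centralizer_iff.mp ha) b (hZle hb)).symm
  have hZn : Z.Normal := by
    have := Cfsg.Agent.Lib.Helper29.generalizedFittingSubgroup_normal C
    exact Subgroup.normal_centralizer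
  have h4 : oddPart Z hZc ≤ oddCore C :=
    Cfsg.Agent.Lib.Helper97.le_oddCore_of_normal_of_odd (oddPart_normal hZc hZn)
      (odd_card_oddPart hZc)
  intro g hg
  exact h4 ⟨hPF hg, hodd g hg⟩

end Key

/-- Ambient form of the key lemma. -/
theorem le_OIn_of_centralizes [Finite G] {C P : Subgroup G} (hE : layer ↥C = ⊥) (hPC : P ≤ C)
    (hodd : ∀ g ∈ P, Odd (orderOf g))
    (h2 : P ≤ Subgroup.centralizer ((pCoreIn 2 C : Subgroup G) : Set G))
    (ho : P ≤ Subgroup.centralizer ((OIn 2 C : Subgroup G) : Set G)) : P ≤ OIn 2 C := by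
  have key : P.subgroupOf C ≤ oddCore ↥C := by
    apply le_oddCore_of_centralizes hE
    · intro g hg
      rw [← Subgroup.orderOf_coe]
      exact hodd _ (Subgroup.mem_subgroupOf.mp hg)
    · intro g hg
      rw [Subgroup.mem_centralizer_iff]
      intro r hr
      apply Subtype.ext
      have hr' : (r : G) ∈ pCoreIn 2 C := Subgroup.mem_map_of_mem _ hr
      exact (Subgroup.mem_centralizer_iff.mp (h2 (Subgroup.mem_subgroupOf.mp hg))) _ hr'
    · intro g hg
      rw [Subgroup.mem_centralizer_iff]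
      intro r hr
      apply Subtype.ext
      have hr' : (r : G) ∈ OIn 2 C := Subgroup.mem_map_of_mem _ hr
      exact (Subgroup.mem_centralizer_iff.mp (ho (Subgroup.mem_subgroupOf.mp hg))) _ hr'
  have := Subgroup.map_mono (f := C.subtype) key
  rwa [Subgroup.map_subgroupOf_eq_of_le hPC] at this

end Cfsg.Agent.Lib.Helper31.OddCores
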