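/-
helper31 shared library (for S2924): the cores `O(C_X(y))`, `y` running over the nonidentity elements of
an elementary abelian 2-subgroup `Y` of order at least 8, when no `C_X(y)` has a component and
`F*(C_X(z)) = O_2(C_X(z))` for some `z ∈ Y`.

Main results (namespace `Cfsg.Agent.Lib.Helper31.OddCores`):
* `Setup.inverts` : `z` inverts `O(C_X(S))` for every `S ⊆ Y`;
* `Setup.OIn_inf_centralizer_le` : `O(C_X(y)) ∩ C_X(a) ≤ O(C_X(a))`;
* `Setup.commute_OIn` : the cores commute pairwise;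
* `Setup.main` : they generate a subgroup of odd order normalized by `N_X(Y)`.
-/
import Mathlib
import Cfsg.Agent.Lib.Helper31.OddCoresA
import Cfsg.Agent.Lib.Helper87.GoldGen

set_option autoImplicit false

namespace Cfsg.Agent.Lib.Helper31.OddCores

open Cfsg Cfsg.Agent.Lib.Helper31 Cfsg.Agent.Lib.Helper49

variable {X : Type*} [Group X]

theorem mem_centralizer_pair {a y x : X} :
    x ∈ Subgroup.centralizer ({a, y} : Set X) ↔ x * a = a * x ∧ x * y = y * x := by
  rw [Subgroup.mem_centralizer_iff]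
  constructor
  · intro h
    exact ⟨(h a (by simp)).symm, (h y (by simp)).symm⟩
  · rintro ⟨h1, h2⟩ s hs
    rcases hs with rfl | hs
    · exact h1.symm
    · rw [Set.mem_singleton_iff] at hs
      rw [hs]
      exact h2.symm

/-- Standing hypotheses: `Y` is an elementary abelian 2-subgroup, `z ∈ Y` has a centralizer of
characteristic 2, and no centralizer of a nonidentity element of `Y` has a component. -/
structure Setup (Y : Subgroup X) (z : X) : Prop where
  comm : ∀ a ∈ Y, ∀ b ∈ Y, a * b = b * a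
  sq : ∀ a ∈ Y, a * a = 1
  zmem : z ∈ Y
  charp : CharP 2 (Subgroup.centralizer ({z} : Set X))
  layer : ∀ x ∈ Y, x ≠ 1 → Cfsg.layer ↥(Subgroup.centralizer ({x} : Set X)) = ⊥

namespace Setup

variable {Y : Subgroup X} {z : X}

theorem isPGroup (h : Setup Y z) : IsPGroup 2 Y := by
  intro g
  refine ⟨1, ?_⟩
  apply Subtype.ext
  rw [pow_one, pow_two]
  exact h.sq g.1 g.2

theorem le_centralizer (h : Setup Y z) {S : Set X} (hS : S ⊆ Y) : Y ≤ Subgroup.centralizer S := by
  intro y hy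
  rw [Subgroup.mem_centralizer_iff]
  intro s hs
  exact h.comm s (hS hs) y hy

theorem inv_eq (h : Setup Y z) {a : X} (ha : a ∈ Y) : a⁻¹ = a :=
  inv_eq_of_mul_eq_one_right (h.sq a ha)

/-- `O(C_X(S)) ∩ C_X(z) = 1` for `S ⊆ Y`. -/
theorem OIn_inf_eq_bot [Finite X] (h : Setup Y z) {S : Set X} (hS : S ⊆ Y) :
    OIn 2 (Subgroup.centralizer S) ⊓ Subgroup.centralizer ({z} : Set X) = ⊥ := by
  have : Fact (Nat.Prime 2) := ⟨Nat.prime_two⟩
  have hVY : Subgroup.closure S ≤ Y := (Subgroup.closure_le Y).mpr hS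
  have hV : IsPGroup 2 (Subgroup.closure S) := h.isPGroup.to_le hVY
  have hVH : Subgroup.closure S ≤ Subgroup.centralizer ({z} : Set X) :=
    hVY.trans (h.le_centralizer (by simpa using h.zmem))
  have h1 := charP_inf_centralizer h.charp hVH hV
  rw [Subgroup.centralizer_closure] at h1
  have h2 := OIn_eq_bot_of_charP h1
  rw [eq_bot_iff, ← h2]
  apply le_OIn
  · exact fun x hx => ⟨hx.2, OIn_le 2 _ hx.1⟩
  · intro x hx
    exact Cfsg.Agent.Lib.Helper49.mem_normalizer_inf (le_normalizer_OIn 2 _ hx.2)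
      (Subgroup.le_normalizer hx.1)
  · exact Nat.Coprime.coprime_dvd_left (Subgroup.card_dvd_of_le inf_le_left)
      (card_OIn_coprime 2 _)

/-- `z` inverts `O(C_X(S))` for `S ⊆ Y`. -/
theorem inverts [Finite X] (h : Setup Y z) {S : Set X} (hS : S ⊆ Y) :
    ∀ k ∈ OIn 2 (Subgroup.centralizer S), z * k * z⁻¹ = k⁻¹ := by
  apply inverts_of_fpf (h.sq z h.zmem)
  · intro k hk
    have hz : z ∈ Subgroup.centralizer S := h.le_centralizer hS h.zmem
    exact (Subgroup.mem_normalizer_iff.mp (le_normalizer_OIn 2 _ hz) k).mp hk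
  · intro k hk hzk
    have h1 : k ∈ OIn 2 (Subgroup.centralizer S) ⊓ Subgroup.centralizer ({z} : Set X) :=
      ⟨hk, Subgroup.mem_centralizer_singleton_iff.mpr hzk.symm⟩
    rw [h.OIn_inf_eq_bot hS] at h1
    exact h1

/-- `O(C_X(a) ∩ C_X(y)) ≤ O(C_X(a))` for `a ∈ Y^#`, `y ∈ Y`. -/
theorem OIn_pair_le [Finite X] (h : Setup Y z) {a y : X} (ha : a ∈ Y) (ha1 : a ≠ 1)
    (hy : y ∈ Y) :
    OIn 2 (Subgroup.centralizer ({a, y} : Set X)) ≤ OIn 2 (Subgroup.centralizer ({a} : Set X)) := by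
  have : Fact (Nat.Prime 2) := ⟨Nat.prime_two⟩
  have hSa : ({a} : Set X) ⊆ Y := by simpa using ha
  have hSay : ({a, y} : Set X) ⊆ Y := by
    intro s hs
    rcases hs with rfl | hs
    · exact ha
    · rw [Set.mem_singleton_iff] at hs
      rw [hs]
      exact hy
  have hinvP := h.inverts hSay
  have hinvR := h.inverts hSa
  set C := Subgroup.centralizer ({a} : Set X) with hC
  set D := Subgroup.centralizer ({a, y} : Set X) with hD
  have hDC : D ≤ C := Subgroup.centralizer_le (by simp)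
  have hDy : ∀ d ∈ D, Commute d y := fun d hd => (mem_centralizer_pair.mp hd).2
  have hyC : y ∈ C := h.le_centralizer hSa hy
  have hcopD : (Nat.card (OIn 2 D)).Coprime 2 := card_OIn_coprime 2 D
  apply le_OIn_of_centralizes (h.layer a ha ha1) ((OIn_le 2 D).trans hDC)
  · intro g hg
    exact odd_orderOf_of_mem_of_coprime hcopD hg
  · -- Thompson's `A × B` lemma
    intro x hx
    rw [Subgroup.mem_centralizer_iff]
    intro r hr
    have hxD : x ∈ D := OIn_le 2 D hx
    have hQn : Subgroup.zpowers y ≤ Subgroup.normalizer ((pCoreIn 2 C : Subgroup X) : Set X) :=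
      (Subgroup.zpowers_le.mpr hyC).trans (le_normalizer_pCoreIn 2 C)
    have hQ : IsPGroup 2 (Subgroup.zpowers y) := h.isPGroup.to_le (Subgroup.zpowers_le.mpr hy)
    have hT : IsPGroup 2 (Subgroup.zpowers y ⊔ pCoreIn 2 C : Subgroup X) :=
      IsPGroup.to_sup_of_normal_right' hQ (isPGroup_pCoreIn 2 C) hQn
    have key := commute_of_AxB (T := Subgroup.zpowers y ⊔ pCoreIn 2 C) (R := pCoreIn 2 C)
      (Q := Subgroup.zpowers y) hT le_sup_right le_sup_left hQn
      (le_normalizer_pCoreIn 2 C (hDC hxD))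
      (Nat.Coprime.coprime_dvd_left (Subgroup.orderOf_dvd_natCard _ hx) hcopD)
      (by
        intro q hq
        obtain ⟨n, rfl⟩ := Subgroup.mem_zpowers_iff.mp hq
        exact (hDy x hxD).zpow_right n)
      (by
        intro r hr hrq
        have hrC : r ∈ C := pCoreIn_le 2 C hr
        have hrD : r ∈ D := by
          rw [hD, mem_centralizer_pair]
          exact ⟨Subgroup.mem_centralizer_singleton_iff.mp hrC,
            (hrq y (Subgroup.mem_zpowers y)).eq⟩
        have hBn : D ≤ Subgroup.normalizer ((pCoreIn 2 C ⊓ D : Subgroup X) : Set X) := by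
          intro d hd
          exact Cfsg.Agent.Lib.Helper49.mem_normalizer_inf (le_normalizer_pCoreIn 2 C (hDC hd))
            (Subgroup.le_normalizer hd)
        have hcomm := commute_of_normalizing_of_coprime (A := OIn 2 D) (B := pCoreIn 2 C ⊓ D)
          ((OIn_le 2 D).trans hBn) (inf_le_right.trans (le_normalizer_OIn 2 D))
          (by
            have h1 := coprime_card_pCoreIn C hcopD
            exact Nat.Coprime.coprime_dvd_right (Subgroup.card_dvd_of_le inf_le_left) h1)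
        exact hcomm x hx r ⟨hr, hrD⟩)
    exact (key r hr).eq.symm
  · -- inversion by `z`
    intro g hg
    rw [Subgroup.mem_centralizer_iff]
    intro r hr
    have hgC : g ∈ C := hDC (OIn_le 2 D hg)
    have hgr : g * r * g⁻¹ ∈ OIn 2 C :=
      (Subgroup.mem_normalizer_iff.mp (le_normalizer_OIn 2 C hgC) r).mp hr
    have e1 : z * (g * r * g⁻¹) * z⁻¹ = (g * r * g⁻¹)⁻¹ := hinvR _ hgr
    have e2 : z * (g * r * g⁻¹) * z⁻¹ = (z * g * z⁻¹) * (z * r * z⁻¹) * (z * g * z⁻¹)⁻¹ := by
      group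
    rw [hinvP g hg, hinvR r hr] at e2
    have e3 : g * r⁻¹ * g⁻¹ = g⁻¹ * r⁻¹ * g := by
      calc g * r⁻¹ * g⁻¹ = (g * r * g⁻¹)⁻¹ := by group
        _ = g⁻¹ * r⁻¹ * g⁻¹⁻¹ := e1.symm.trans e2
        _ = g⁻¹ * r⁻¹ * g := by rw [inv_inv]
    have e4 : Commute (g * g) r⁻¹ := by
      show (g * g) * r⁻¹ = r⁻¹ * (g * g)
      calc (g * g) * r⁻¹ = g * (g * r⁻¹ * g⁻¹) * g := by group
        _ = g * (g⁻¹ * r⁻¹ * g) * g := by rw [e3]
        _ = r⁻¹ * (g * g) := by group
    have e5 : Commute (g * g) r := by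
      have := e4.inv_right
      rwa [inv_inv] at this
    have hodd : Odd (orderOf g) := odd_orderOf_of_mem_of_coprime hcopD hg
    obtain ⟨m, hm⟩ := hodd
    have hgpow : g = (g * g) ^ (m + 1) := by
      rw [← pow_two, ← pow_mul]
      have e : 2 * (m + 1) = orderOf g + 1 := by omega
      rw [e, pow_succ, pow_orderOf_eq_one, one_mul]
    have e6 : Commute g r := by
      rw [hgpow]
      exact e5.pow_left _
    exact e6.eq.symm

/-- `O(C_X(y)) ∩ C_X(a) ≤ O(C_X(a))` for `a ∈ Y^#`, `y ∈ Y`. -/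
theorem OIn_inf_centralizer_le [Finite X] (h : Setup Y z) {a y : X} (ha : a ∈ Y) (ha1 : a ≠ 1)
    (hy : y ∈ Y) :
    OIn 2 (Subgroup.centralizer ({y} : Set X)) ⊓ Subgroup.centralizer ({a} : Set X) ≤
      OIn 2 (Subgroup.centralizer ({a} : Set X)) := by
  refine le_trans ?_ (h.OIn_pair_le ha ha1 hy)
  apply le_OIn
  · intro x hx
    rw [mem_centralizer_pair]
    exact ⟨Subgroup.mem_centralizer_singleton_iff.mp hx.2,
      Subgroup.mem_centralizer_singleton_iff.mp (OIn_le 2 _ hx.1)⟩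
  · intro d hd
    rw [mem_centralizer_pair] at hd
    apply Cfsg.Agent.Lib.Helper49.mem_normalizer_inf
    · exact le_normalizer_OIn 2 _ (Subgroup.mem_centralizer_singleton_iff.mpr hd.2)
    · exact Subgroup.le_normalizer (Subgroup.mem_centralizer_singleton_iff.mpr hd.1)
  · exact Nat.Coprime.coprime_dvd_left (Subgroup.card_dvd_of_le inf_le_left)
      (card_OIn_coprime 2 _)

/-! ### Hyperplanes of `Y` -/

/-- If `Y = K⟨k⟩` then every element of `Y` lies in `K` or in `Kk`. -/
theorem mem_or_mul_mem (h : Setup Y z) {K : Subgroup X} (hKY : K ≤ Y) {k : X} (hk : k ∈ Y)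
    (hle : Y ≤ K ⊔ Subgroup.zpowers k) : ∀ y ∈ Y, y ∈ K ∨ y * k ∈ K := by
  let M : Subgroup X :=
    { carrier := {x | x ∈ Y ∧ (x ∈ K ∨ x * k ∈ K)}
      one_mem' := ⟨Y.one_mem, Or.inl K.one_mem⟩
      mul_mem' := by
        rintro a b ⟨ha, hKa⟩ ⟨hb, hKb⟩
        refine ⟨Y.mul_mem ha hb, ?_⟩
        rcases hKa with hKa | hKa
        · rcases hKb with hKb | hKb
          · exact Or.inl (K.mul_mem hKa hKb)
          · right
            rw [mul_assoc]
            exact K.mul_mem hKa hKb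
        · rcases hKb with hKb | hKb
          · right
            have e : a * b * k = (a * k) * b := by
              rw [mul_assoc, h.comm b hb k hk, ← mul_assoc]
            rw [e]
            exact K.mul_mem hKa hKb
          · left
            have e : a * b = (a * k) * (b * k) := by
              calc a * b = a * b * (k * k) := by rw [h.sq k hk, mul_one]
                _ = a * (b * k) * k := by group
                _ = a * (k * b) * k := by rw [h.comm b hb k hk]
                _ = (a * k) * (b * k) := by group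
            rw [e]
            exact K.mul_mem hKa hKb
      inv_mem' := by
        rintro a ⟨ha, hKa⟩
        show a⁻¹ ∈ Y ∧ (a⁻¹ ∈ K ∨ a⁻¹ * k ∈ K)
        rw [h.inv_eq ha]
        exact ⟨ha, hKa⟩ }
  have hKM : K ≤ M := fun x hx => ⟨hKY hx, Or.inl hx⟩
  have hkM : Subgroup.zpowers k ≤ M := by
    rw [Subgroup.zpowers_le]
    refine ⟨hk, Or.inr ?_⟩
    rw [h.sq k hk]
    exact K.one_mem
  intro y hy
  exact ((sup_le hKM hkM) (hle hy)).2

theorem mul_mem_of_iff (h : Setup Y z) {K : Subgroup X} {k : X} (hk : k ∈ Y)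
    (hm : ∀ y ∈ Y, y ∈ K ∨ y * k ∈ K) {y1 y2 : X} (h1 : y1 ∈ Y) (h2 : y2 ∈ Y)
    (hiff : y1 ∈ K ↔ y2 ∈ K) : y1 * y2 ∈ K := by
  by_cases hy : y1 ∈ K
  · exact K.mul_mem hy (hiff.mp hy)
  · have hy2 : y2 ∉ K := fun h' => hy (hiff.mpr h')
    have hK1 := (hm y1 h1).resolve_left hy
    have hK2 := (hm y2 h2).resolve_left hy2
    have e : y1 * y2 = (y1 * k) * (y2 * k) := by
      calc y1 * y2 = y1 * y2 * (k * k) := by rw [h.sq k hk, mul_one]
        _ = y1 * (y2 * k) * k := by group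
        _ = y1 * (k * y2) * k := by rw [h.comm y2 h2 k hk]
        _ = (y1 * k) * (y2 * k) := by group
    rw [e]
    exact K.mul_mem hK1 hK2

open Cfsg.Agent.Lib.Helper22.Gold in
/-- Two hyperplanes of `Y` meet nontrivially when `|Y| ≥ 8`. -/
theorem exists_ne_one_mem_inf [Finite X] (h : Setup Y z) (h8 : 8 ≤ Nat.card Y)
    {K K' : Subgroup X} (hK : CycQuot Y K) (hK' : CycQuot Y K') :
    ∃ a, a ∈ K ∧ a ∈ K' ∧ a ≠ 1 := by
  classical
  obtain ⟨hKY, k, hk, hle⟩ := hK
  obtain ⟨hKY', k', hk', hle'⟩ := hK'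
  have hm := h.mem_or_mul_mem hKY hk hle
  have hm' := h.mem_or_mul_mem hKY' hk' hle'
  have := Fintype.ofFinite ↥Y
  let f : ↥Y → Bool × Bool := fun y => (decide ((y : X) ∈ K), decide ((y : X) ∈ K'))
  have hcard : Fintype.card (Bool × Bool) < Fintype.card ↥Y := by
    have e1 : Nat.card ↥Y = Fintype.card ↥Y := Nat.card_eq_fintype_card
    have e2 : Fintype.card (Bool × Bool) = 4 := by simp
    omega
  obtain ⟨y1, y2, hne, hf⟩ := Fintype.exists_ne_map_eq_of_card_lt f hcard
  have hf1 : ((y1 : X) ∈ K ↔ (y2 : X) ∈ K) := by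
    have := congrArg Prod.fst hf
    simpa [f] using this
  have hf2 : ((y1 : X) ∈ K' ↔ (y2 : X) ∈ K') := by
    have := congrArg Prod.snd hf
    simpa [f] using this
  refine ⟨(y1 : X) * (y2 : X), h.mul_mem_of_iff hk hm y1.2 y2.2 hf1,
    h.mul_mem_of_iff hk' hm' y1.2 y2.2 hf2, ?_⟩
  intro e
  apply hne
  apply Subtype.ext
  have : (y1 : X) = (y2 : X)⁻¹ := eq_inv_of_mul_eq_one_left e
  rw [this, h.inv_eq y2.2]

/-! ### The cores commute pairwise -/

open Cfsg.Agent.Lib.Helper22.Gold in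
theorem commute_OIn [Finite X] (h : Setup Y z) (h8 : 8 ≤ Nat.card Y) {y y' : X} (hy : y ∈ Y)
    (hy' : y' ∈ Y) :
    OIn 2 (Subgroup.centralizer ({y} : Set X)) ≤
      Subgroup.centralizer ((OIn 2 (Subgroup.centralizer ({y'} : Set X)) : Subgroup X) : Set X) := by
  have hyp : ∀ y ∈ Y, Hyp Y (OIn 2 (Subgroup.centralizer ({y} : Set X))) := fun y hy =>
    ⟨h.isPGroup, h.comm, Nat.coprime_two_right.mp (card_OIn_coprime 2 _),
      (h.le_centralizer (by simpa using hy)).trans (le_normalizer_OIn 2 _)⟩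
  have g1 := Cfsg.Agent.Lib.Helper87.Gold.gen_fix (hyp y hy)
  have g2 := Cfsg.Agent.Lib.Helper87.Gold.gen_fix (hyp y' hy')
  refine le_trans (le_of_eq g1) (iSup_le fun K => ?_)
  rw [Subgroup.le_centralizer_iff]
  refine le_trans (le_of_eq g2) (iSup_le fun K' => ?_)
  obtain ⟨a, haK, haK', ha1⟩ := h.exists_ne_one_mem_inf h8 K.2 K'.2
  have haY : a ∈ Y := K.2.1 haK
  have hp : ∀ y ∈ Y, ∀ L : Subgroup X, a ∈ L →
      OIn 2 (Subgroup.centralizer ({y} : Set X)) ⊓ Subgroup.centralizer (L : Set X) ≤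
        OIn 2 (Subgroup.centralizer ({a} : Set X)) := by
    intro y hy L haL
    refine le_trans (inf_le_inf_left _ (Subgroup.centralizer_le ?_))
      (h.OIn_inf_centralizer_le haY ha1 hy)
    simpa using haL
  intro v hv
  rw [Subgroup.mem_centralizer_iff]
  intro u hu
  exact commute_of_inverts (h.inverts (S := {a}) (by simpa using haY)) (hp y hy K haK hu)
    (hp y' hy' K' haK' hv)

/-! ### Conjugation -/

theorem map_conj_OIn_le [Finite X] (p : ℕ) (g y : X) :
    (OIn p (Subgroup.centralizer ({y} : Set X))).map (MulAut.conj g).toMonoidHom ≤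
      OIn p (Subgroup.centralizer ({g * y * g⁻¹} : Set X)) := by
  apply le_OIn
  · rintro _ ⟨k, hk, rfl⟩
    have hk' : k * y = y * k := Subgroup.mem_centralizer_singleton_iff.mp (OIn_le p _ hk)
    rw [Subgroup.mem_centralizer_singleton_iff]
    show g * k * g⁻¹ * (g * y * g⁻¹) = g * y * g⁻¹ * (g * k * g⁻¹)
    calc g * k * g⁻¹ * (g * y * g⁻¹) = g * (k * y) * g⁻¹ := by group
      _ = g * (y * k) * g⁻¹ := by rw [hk']
      _ = g * y * g⁻¹ * (g * k * g⁻¹) := by group
  · rw [Subgroup.le_normalizer_iff]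
    rintro c hc _ ⟨k, hk, rfl⟩
    have hc' : c * (g * y * g⁻¹) = g * y * g⁻¹ * c := Subgroup.mem_centralizer_singleton_iff.mp hc
    have hc2 : g⁻¹ * c * g ∈ Subgroup.centralizer ({y} : Set X) := by
      rw [Subgroup.mem_centralizer_singleton_iff]
      calc g⁻¹ * c * g * y = g⁻¹ * (c * (g * y * g⁻¹)) * g := by group
        _ = g⁻¹ * (g * y * g⁻¹ * c) * g := by rw [hc']
        _ = y * (g⁻¹ * c * g) := by group
    have h3 := (Subgroup.mem_normalizer_iff.mp (le_normalizer_OIn p _ hc2) k).mp hk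
    refine ⟨g⁻¹ * c * g * k * (g⁻¹ * c * g)⁻¹, h3, ?_⟩
    show g * (g⁻¹ * c * g * k * (g⁻¹ * c * g)⁻¹) * g⁻¹ = c * (g * k * g⁻¹) * c⁻¹
    group
  · rw [Subgroup.card_map_of_injective (MulAut.conj g).injective]
    exact card_OIn_coprime p _

/-! ### Main result -/

/-- The subgroup generated by the cores `O(C_X(y))`, `y ∈ Y^#`, has odd order and is normalized by
`N_X(Y)`. -/
theorem main [Finite X] (h : Setup Y z) (h8 : 8 ≤ Nat.card Y) :
    Odd (Nat.card ↥(⨆ y : {y : X // y ∈ Y ∧ y ≠ 1},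
      OIn 2 (Subgroup.centralizer ({(y : X)} : Set X)))) ∧
    Subgroup.normalizer (Y : Set X) ≤ Subgroup.normalizer
      ((⨆ y : {y : X // y ∈ Y ∧ y ≠ 1},
        OIn 2 (Subgroup.centralizer ({(y : X)} : Set X)) : Subgroup X) : Set X) := by
  set W : Subgroup X := ⨆ y : {y : X // y ∈ Y ∧ y ≠ 1},
    OIn 2 (Subgroup.centralizer ({(y : X)} : Set X)) with hW
  constructor
  · have hWc : W ≤ Subgroup.centralizer (W : Set X) := by
      refine iSup_le fun y => ?_
      rw [Subgroup.le_centralizer_iff]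
      refine iSup_le fun y' => ?_
      exact h.commute_OIn h8 y'.2.1 y.2.1
    apply odd_card_of_forall_odd_orderOf
    intro w hw
    refine Subgroup.iSup_induction' (C := fun x _ => Odd (orderOf x)) _ ?_ ?_ ?_ hw
    · intro i x hx
      exact odd_orderOf_of_mem_of_coprime (card_OIn_coprime 2 _) hx
    · rw [orderOf_one]
      exact odd_one
    · intro x y hx hy ox oy
      have hc : Commute x y := ((Subgroup.mem_centralizer_iff.mp (hWc hx)) y hy).symm
      have h1 := hc.orderOf_mul_dvd_lcm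
      have h2 : Odd ((orderOf x).lcm (orderOf y)) :=
        (ox.mul oy).of_dvd_nat (Nat.lcm_dvd_mul _ _)
      exact h2.of_dvd_nat h1
  · rw [Subgroup.le_normalizer_iff]
    intro g hg w hw
    have hmap : W.map (MulAut.conj g).toMonoidHom ≤ W := by
      rw [hW, Subgroup.map_iSup]
      refine iSup_le fun y => ?_
      have hgy : g * y.1 * g⁻¹ ∈ Y := (Subgroup.mem_normalizer_iff.mp hg y.1).mp y.2.1
      have hgy1 : g * y.1 * g⁻¹ ≠ 1 := by
        intro e
        apply y.2.2
        calc (y : X) = g⁻¹ * (g * y.1 * g⁻¹) * g := by group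
          _ = 1 := by rw [e]; group
      exact le_trans (map_conj_OIn_le 2 g y.1)
        (le_iSup (fun y : {y : X // y ∈ Y ∧ y ≠ 1} =>
          OIn 2 (Subgroup.centralizer ({(y : X)} : Set X))) ⟨g * y.1 * g⁻¹, hgy, hgy1⟩)
    exact hmap ⟨w, hw, rfl⟩

end Setup

end Cfsg.Agent.Lib.Helper31.OddCores
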