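import Mathlib
import Cfsg.Agent.Lib.Helper31.PFCubeFinal
import Cfsg.Agent.Lib.Helper46.PFTenVFinal

/-!
# Peterfalvi (10.10), unconditional on the book data (helper31)

All inputs of helper46's `no_typeV` are on main: (10.8) = `Helper24.PFCyc.pf10_noncoherent_coatom`,
(10.2), the residual cases (a*) = `Helper22.SibC.noResidualTI` and (c*) = `noResidualCube`.
-/

set_option autoImplicit false

namespace Cfsg.Agent.Lib.Helper31.PFCube

open Cfsg Cfsg.Agent.Lib.Helper4.PF Cfsg.Agent.Lib.Helper24.PFCyc Cfsg.Agent.Lib.Helper46.PF10V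

universe u

variable {G : Type u} [Group G] [Fintype G]

/-- the residual case (c*) of (10.10) does not occur -/
theorem noResidualCube_book (hG : IsMinSimpleOddOrder G) (bg : BookBGData G)
    (pf8 : BookPF8Data G) : NoResidualCube G :=
  noResidualCube hG bg pf8 (fun M _ hM h => pf10_noncoherent_coatom hG bg pf8 M hM h)

/-- **Peterfalvi (10.10)**: in a minimal simple group of odd order no maximal subgroup is of
Type V. -/
theorem no_typeV_book (hG : IsMinSimpleOddOrder G) (bg : BookBGData G) (pf8 : BookPF8Data G) :
    ∀ M : Subgroup G, IsCoatom M → ¬ IsOfTypeV M :=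
  no_typeV_of_cube hG bg pf8 (noResidualCube_book hG bg pf8)

end Cfsg.Agent.Lib.Helper31.PFCube
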