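/-
helper31 shared library: relative `q'`-balance inside a `q`-constrained subgroup, and solvability of
`A ⊔ K` for `K` normal.
All declarations live in `Cfsg.Agent.Lib.Helper31`.
-/
import Mathlib
import Cfsg.Prelude.Def_Local
import Cfsg.Agent.Lib.Helper22.SolvableLocal
import Cfsg.Agent.Lib.Helper34.CoreOf

set_option autoImplicit false
set_option linter.style.haveILetI false
set_option linter.deprecated false

namespace Cfsg.Agent.Lib.Helper31

open Cfsg Cfsg.Agent.Lib.Helper34
open scoped commutatorElement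

section QBalanceRel

variable {G : Type*} [Group G]

/-- Relative `q'`-balance: if the subgroup `L` is `q`-constrained, `T ≤ L` is a `q`-subgroup and
`X ≤ C_L(T)` is a `q'`-subgroup normalized by `C_L(T)`, then `X ≤ O_{q'}(L)`. -/
theorem le_coreOf_of_isPConstrained [Finite G] (q : ℕ) [Fact q.Prime] {L T X : Subgroup G}
    (hL : IsPConstrained q ↥L) (hTL : T ≤ L) (hT : IsPGroup q T)
    (hXL : X ≤ L) (hXT : X ≤ Subgroup.centralizer (T : Set G)) (hX : (Nat.card X).Coprime q)
    (hn : L ⊓ Subgroup.centralizer (T : Set G) ≤ Subgroup.normalizer (X : Set G)) :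
    X ≤ coreOf q L := by
  have hT' : IsPGroup q (T.subgroupOf L) := hT.comap_subtype
  have hX' : (Nat.card (X.subgroupOf L)).Coprime q := by
    rw [Nat.card_congr (Subgroup.subgroupOfEquivOfLe hXL).toEquiv]; exact hX
  have hXT' : X.subgroupOf L ≤ Subgroup.centralizer ((T.subgroupOf L : Subgroup L) : Set L) := by
    intro x hx
    rw [Subgroup.mem_centralizer_iff]
    intro t ht
    apply Subtype.ext
    exact Subgroup.mem_centralizer_iff.mp (hXT (Subgroup.mem_subgroupOf.mp hx)) (t : G)
      (Subgroup.mem_subgroupOf.mp ht)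
  have hn' : Subgroup.centralizer ((T.subgroupOf L : Subgroup L) : Set L) ≤
      Subgroup.normalizer ((X.subgroupOf L : Subgroup L) : Set L) := by
    intro y hy
    have hyG : (y : G) ∈ L ⊓ Subgroup.centralizer (T : Set G) := by
      refine Subgroup.mem_inf.mpr ⟨y.2, ?_⟩
      rw [Subgroup.mem_centralizer_iff]
      intro t ht
      have := Subgroup.mem_centralizer_iff.mp hy ⟨t, hTL ht⟩ (Subgroup.mem_subgroupOf.mpr ht)
      exact congrArg Subtype.val this
    have hyN := hn hyG
    rw [Subgroup.mem_normalizer_iff] at hyN ⊢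
    intro x
    rw [Subgroup.mem_subgroupOf, Subgroup.mem_subgroupOf]
    exact hyN (x : G)
  have key := Cfsg.Agent.Lib.Helper22.le_pPrimeCore_of_normal_centralizer (G := ↥L) q hL
    (T.subgroupOf L) hT' (X.subgroupOf L) hX' hXT' hn'
  calc X = (X.subgroupOf L).map L.subtype := (Subgroup.map_subgroupOf_eq_of_le hXL).symm
    _ ≤ coreOf q L := Subgroup.map_mono key

/-- `A ⊔ K` is solvable when `A` and the normal subgroup `K` are. -/
theorem isSolvable_sup_of_normal {A K : Subgroup G} [K.Normal] (hA : Group.IsSolvable ↥A)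
    (hK : Group.IsSolvable ↥K) : Group.IsSolvable ↥(A ⊔ K) := by
  haveI := hA
  haveI := hK
  have e := QuotientGroup.quotientInfEquivProdNormalQuotient A K
  haveI : Group.IsSolvable (↥(A ⊔ K) ⧸ K.subgroupOf (A ⊔ K)) :=
    solvable_of_surjective (f := e.toMonoidHom) e.surjective
  refine solvable_of_ker_le_range (Subgroup.inclusion (le_sup_right : K ≤ A ⊔ K))
    (QuotientGroup.mk' (K.subgroupOf (A ⊔ K))) ?_
  rw [QuotientGroup.ker_mk', Subgroup.inclusion_range]

/-- The subgroup generated by two commuting elements is solvable. -/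
theorem isSolvable_closure_pair {y z : G} (h : y * z = z * y) :
    Group.IsSolvable ↥(Subgroup.closure ({y, z} : Set G)) := by
  letI : CommGroup ↥(Subgroup.closure ({y, z} : Set G)) :=
    Subgroup.closureCommGroupOfComm (by
      intro a ha b hb
      simp only [Set.mem_insert_iff, Set.mem_singleton_iff] at ha hb
      rcases ha with rfl | rfl <;> rcases hb with rfl | rfl
      · rfl
      · exact h
      · exact h.symm
      · rfl)
  infer_instance

/-- The "centralizer of `K` modulo `N`" as a subgroup, for `N` normal. -/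
def centralizerMod (K N : Subgroup G) [N.Normal] : Subgroup G where
  carrier := {g | ∀ k ∈ K, ⁅k, g⁆ ∈ N}
  one_mem' := by
    intro k _
    rw [commutatorElement_one_right]
    exact N.one_mem
  mul_mem' := by
    intro a b ha hb k hk
    have e : ⁅k, a * b⁆ = ⁅k, a⁆ * (a * ⁅k, b⁆ * a⁻¹) := by
      simp only [commutatorElement_def]; group
    rw [e]
    exact N.mul_mem (ha k hk) (Subgroup.Normal.conj_mem inferInstance _ (hb k hk) a)
  inv_mem' := by
    intro a ha k hk
    have e : ⁅k, a⁻¹⁆ = a⁻¹ * (⁅k, a⁆)⁻¹ * a⁻¹⁻¹ := by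
      simp only [commutatorElement_def]; group
    rw [e]
    exact Subgroup.Normal.conj_mem inferInstance _ (N.inv_mem (ha k hk)) a⁻¹

theorem mem_centralizerMod {K N : Subgroup G} [N.Normal] {g : G} :
    g ∈ centralizerMod K N ↔ ∀ k ∈ K, ⁅k, g⁆ ∈ N := Iff.rfl

/-- `centralizerMod K N` is stable under conjugation when `K` and `N` are normal. -/
theorem conj_mem_centralizerMod {K N : Subgroup G} [hK : K.Normal] [hN : N.Normal] {a : G}
    (ha : a ∈ centralizerMod K N) (g : G) : g * a * g⁻¹ ∈ centralizerMod K N := by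
  intro k hk
  have e : ⁅k, g * a * g⁻¹⁆ = g * ⁅g⁻¹ * k * g⁻¹⁻¹, a⁆ * g⁻¹ := by
    simp only [commutatorElement_def]; group
  rw [e]
  exact hN.conj_mem _ (ha _ (hK.conj_mem k hk g⁻¹)) g

/-- If every element of `D` conjugates `A` into itself then `D` normalizes `A`. -/
theorem le_normalizer_of_conj_mem_rel {D A : Subgroup G}
    (h : ∀ g ∈ D, ∀ a ∈ A, g * a * g⁻¹ ∈ A) : D ≤ Subgroup.normalizer (A : Set G) := by
  intro g hg
  rw [Subgroup.mem_normalizer_iff]
  intro a
  constructor
  · exact h g hg a
  · intro ha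
    have := h g⁻¹ (D.inv_mem hg) _ ha
    have e : g⁻¹ * (g * a * g⁻¹) * g⁻¹⁻¹ = a := by group
    rwa [e] at this

end QBalanceRel

end Cfsg.Agent.Lib.Helper31
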