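import Mathlib
import Cfsg.Agent.Lib.Helper61.ReeX.Aff

/-!
# Project REEX (S3626, helper61): module REEX-[X-AFF] (helper31)

Element orders in the affine group `V : Γ` (`aff_pow`, `aff_eq_one_iff`, `range_orderOf_affSubgroup`,
`card_le_card_affSubgroup`).
-/

set_option autoImplicit false

namespace Cfsg.Agent.Lib.Helper31.ReeX

open Cfsg.Agent.Lib.Helper61.ReeX

variable {R : Type*} [Ring R] {V : Type*} [AddCommGroup V] [Module R V]

theorem aff_pow (A : V ≃ₗ[R] V) (w : V) (k : ℕ) :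
    aff A w ^ k = aff (A ^ k) (∑ i ∈ Finset.range k, (A ^ i) w) := by
  induction k with
  | zero => simp [aff_one]
  | succ k ih =>
    rw [pow_succ, ih, aff_mul, pow_succ, Finset.sum_range_succ, add_comm]

theorem aff_eq_one_iff (A : V ≃ₗ[R] V) (w : V) : aff A w = 1 ↔ A = 1 ∧ w = 0 := by
  constructor
  · intro h
    have h0 : w = 0 := by
      have := congrArg (fun π : Equiv.Perm V => π 0) h
      simpa [aff_apply] using this
    refine ⟨?_, h0⟩
    ext v
    have := congrArg (fun π : Equiv.Perm V => π v) h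
    simpa [aff_apply, h0] using this
  · rintro ⟨rfl, rfl⟩
    exact aff_one

theorem aff_injective_right (A : V ≃ₗ[R] V) {w w' : V} (h : aff A w = aff A w') : w = w' := by
  have := congrArg (fun π : Equiv.Perm V => π 0) h
  simpa [aff_apply] using this

/-- `aff A 0` has the order of `A`. -/
theorem orderOf_aff_zero (A : V ≃ₗ[R] V) : orderOf (aff A (0 : V)) = orderOf A := by
  rw [orderOf_eq_orderOf_iff]
  intro n
  rw [aff_pow, aff_eq_one_iff]
  simp

/-- conjugating `aff A 0` by the translation by `u`. -/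
theorem aff_conj_translation (A : V ≃ₗ[R] V) (u : V) :
    aff (1 : V ≃ₗ[R] V) u * aff A 0 * (aff (1 : V ≃ₗ[R] V) u)⁻¹ = aff A (u - A u) := by
  rw [aff_inv, aff_mul, aff_mul]
  congr 1
  · simp
    abel

theorem range_orderOf_affSubgroup [Finite V] (h3 : ∀ v : V, 3 • v = 0)
    (Γ : Subgroup (V ≃ₗ[R] V)) (Ω : Set ℕ) (hdiv : ∀ n ∈ Ω, ∀ d : ℕ, d ∣ n → d ∈ Ω)
    (hΓ : ∀ A ∈ Γ, ((∀ v : V, A v = v → v = 0) ∧ orderOf A ∈ Ω) ∨ (∃ n : ℕ, 3 * n ∈ Ω ∧ A ^ n = 1) ∨
      (∃ n ∈ Ω, A ^ n = 1 ∧ ∀ v : V, ∑ i ∈ Finset.range n, (A ^ i) v = 0))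
    (hex : ∀ n ∈ Ω, ∃ n' : ℕ, n ∣ n' ∧ ∃ A ∈ Γ, ∃ w : V, orderOf (aff A w) = n') :
    Set.range (orderOf : ↥(affSubgroup Γ) → ℕ) = Ω := by
  ext n
  constructor
  · rintro ⟨⟨x, hx⟩, rfl⟩
    rw [← Subgroup.orderOf_coe]
    obtain ⟨A, hA, w, rfl⟩ := hx
    show orderOf (aff A w) ∈ Ω
    rcases hΓ A hA with ⟨hfpf, hord⟩ | ⟨n, hn, hAn⟩ | ⟨n, hn, hAn, hsum⟩
    · -- fixed-point-free: conjugate to `aff A 0`
      have hinj : Function.Injective (fun v : V => v - A v) := by
        intro v v' hvv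
        have h1 : A (v - v') = v - v' := by
          have : v - A v = v' - A v' := hvv
          rw [map_sub]
          have h2 : A v - A v' = v - v' := by
            have e : A v - A v' = (v - v') - ((v - A v) - (v' - A v')) := by abel
            rw [e, this, sub_self, sub_zero]
          exact h2
        exact sub_eq_zero.mp (hfpf _ h1)
      have hsurj : Function.Surjective (fun v : V => v - A v) := Finite.surjective_of_injective hinj
      obtain ⟨u, hu⟩ := hsurj w
      have hu' : u - A u = w := hu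
      rw [← hu', ← aff_conj_translation]
      have := (MulAut.conj (aff (1 : V ≃ₗ[R] V) u)).orderOf_eq (aff A 0)
      rw [MulAut.conj_apply] at this
      rw [this, orderOf_aff_zero]
      exact hord
    · -- `A ^ n = 1`, `3 n ∈ Ω`
      apply hdiv _ hn
      apply orderOf_dvd_of_pow_eq_one
      rw [mul_comm, pow_mul, aff_pow, hAn, aff_pow, one_pow, aff_eq_one_iff]
      refine ⟨rfl, ?_⟩
      simp only [one_pow, LinearEquiv.coe_one, id_eq, Finset.sum_const, Finset.card_range]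
      exact h3 _
    · apply hdiv _ hn
      apply orderOf_dvd_of_pow_eq_one
      rw [aff_pow, hAn, hsum, aff_one]
  · intro hn
    obtain ⟨n', hnn', A, hA, w, hord⟩ := hex n hn
    have hx : aff A w ∈ affSubgroup Γ := ⟨A, hA, w, rfl⟩
    have hn'0 : orderOf (aff A w) ≠ 0 := (orderOf_pos (aff A w)).ne'
    refine ⟨⟨aff A w, hx⟩ ^ (n' / n), ?_⟩
    rw [← Subgroup.orderOf_coe, Subgroup.coe_pow]
    show orderOf (aff A w ^ (n' / n)) = n
    rw [← hord]
    exact orderOf_pow_orderOf_div hn'0 (hord ▸ hnn')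

theorem card_le_card_affSubgroup [Finite V] (Γ : Subgroup (V ≃ₗ[R] V)) :
    Nat.card V ≤ Nat.card ↥(affSubgroup Γ) := by
  apply Nat.card_le_card_of_injective
    (fun w : V => (⟨aff (1 : V ≃ₗ[R] V) w, ⟨1, Γ.one_mem, w, rfl⟩⟩ : ↥(affSubgroup Γ)))
  intro w w' h
  have : aff (1 : V ≃ₗ[R] V) w = aff (1 : V ≃ₗ[R] V) w' := congrArg Subtype.val h
  exact aff_injective_right _ this

end Cfsg.Agent.Lib.Helper31.ReeX
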