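import Mathlib

/-!
# Project REEX (S3626, helper61): module REEX-[X-FPF] (helper31)

`fpf_twisted`: in characteristic 3 with `-1` a non-square, for `g ∈ SL(2,K)` with `τ = tr g`, `τ³ ≠ τ`, the twisted
action `M ↦ g M (g^Frob)ᵀ` on 2×2 matrices has neither the eigenvalue `1` nor `-1`.
-/

set_option autoImplicit false

namespace Cfsg.Agent.Lib.Helper31.ReeX

open Matrix

/-- Cayley–Hamilton for a 2×2 matrix of determinant 1. -/
theorem sq_eq_of_det_one {K : Type*} [CommRing K] (A : Matrix (Fin 2) (Fin 2) K) (hA : A.det = 1) :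
    A * A = A.trace • A - 1 := by
  rw [Matrix.det_fin_two] at hA
  ext i j
  fin_cases i <;> fin_cases j <;>
    simp [Matrix.mul_apply, Fin.sum_univ_two, Matrix.trace_fin_two] <;>
    first | ring1 | linear_combination (-1 : K) * hA

/-- the core computation. -/
theorem fpf_core {K : Type*} [Field K] (G Ht M : Matrix (Fin 2) (Fin 2) K) (hG : G.det = 1)
    (hH : Ht.det = 1) (ε : K) (hε : ε * ε = 1) (hne : G.trace ≠ ε * Ht.trace)
    (hM : G * M * Ht = ε • M) : M = 0 := by
  set Kk := adjugate Ht with hKk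
  have h1 : Ht * Kk = 1 := by rw [hKk, mul_adjugate, hH, one_smul]
  have h2 : Kk * Ht = 1 := by rw [hKk, adjugate_mul, hH, one_smul]
  have hdetK : Kk.det = 1 := by rw [hKk, det_adjugate, hH, one_pow]
  have htrK : Kk.trace = Ht.trace := by
    rw [hKk, adjugate_fin_two, trace_fin_two_of, trace_fin_two]; ring
  have hGM : G * M = ε • (M * Kk) := by
    have : G * M * Ht * Kk = ε • M * Kk := by rw [hM]
    rw [Matrix.mul_assoc (G * M), h1, Matrix.mul_one] at this
    rw [this, Matrix.smul_mul]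
  have hG2 := sq_eq_of_det_one G hG
  have hK2 := sq_eq_of_det_one Kk hdetK
  rw [htrK] at hK2
  -- `G * G * M` in two ways
  have e1 : G * G * M = G.trace • (ε • (M * Kk)) - M := by
    rw [hG2, Matrix.sub_mul, Matrix.smul_mul, Matrix.one_mul, hGM]
  have e2 : G * G * M = Ht.trace • (M * Kk) - M := by
    rw [Matrix.mul_assoc, hGM, Matrix.mul_smul, ← Matrix.mul_assoc, hGM, Matrix.smul_mul, smul_smul,
      hε, one_smul, Matrix.mul_assoc, hK2, Matrix.mul_sub, Matrix.mul_smul, Matrix.mul_one]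
  have e3 : (G.trace * ε - Ht.trace) • (M * Kk) = 0 := by
    have := e1.symm.trans e2
    rw [sub_smul, ← smul_smul]
    have h3 : G.trace • (ε • (M * Kk)) = Ht.trace • (M * Kk) := by
      have := sub_left_injective this
      exact this
    rw [h3, sub_self]
  have hc : G.trace * ε - Ht.trace ≠ 0 := by
    intro h0
    apply hne
    have : G.trace * ε = Ht.trace := sub_eq_zero.mp h0
    calc G.trace = G.trace * (ε * ε) := by rw [hε, mul_one]
      _ = ε * (G.trace * ε) := by ring
      _ = ε * Ht.trace := by rw [this]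
  have hMK : M * Kk = 0 := by
    rcases smul_eq_zero.mp e3 with h | h
    · exact absurd h hc
    · exact h
  calc M = M * (Kk * Ht) := by rw [h2, Matrix.mul_one]
    _ = (M * Kk) * Ht := by rw [Matrix.mul_assoc]
    _ = 0 := by rw [hMK, Matrix.zero_mul]

/-- **REEX-[X-FPF]**. -/
theorem fpf_twisted {K : Type*} [Field K] [CharP K 3] (hK : ∀ x : K, x ^ 2 ≠ -1)
    (g : Matrix.SpecialLinearGroup (Fin 2) K)
    (hτ : (Matrix.trace (g : Matrix (Fin 2) (Fin 2) K)) ^ 3 ≠ Matrix.trace (g : Matrix (Fin 2) (Fin 2) K))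
    (M : Matrix (Fin 2) (Fin 2) K) :
    ((g : Matrix (Fin 2) (Fin 2) K) * M * Matrix.transpose ((g : Matrix (Fin 2) (Fin 2) K).map (fun x => x ^ 3)) = M → M = 0) ∧
    ((g : Matrix (Fin 2) (Fin 2) K) * M * Matrix.transpose ((g : Matrix (Fin 2) (Fin 2) K).map (fun x => x ^ 3)) = -M → M = 0) := by
  have : Fact (Nat.Prime 3) := ⟨Nat.prime_three⟩
  set G : Matrix (Fin 2) (Fin 2) K := (g : Matrix (Fin 2) (Fin 2) K) with hGdef
  have hdetG : G.det = 1 := g.2
  have hdetG' : G 0 0 * G 1 1 - G 0 1 * G 1 0 = 1 := by rw [← Matrix.det_fin_two]; exact hdetG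
  set Ht : Matrix (Fin 2) (Fin 2) K := Matrix.transpose (G.map (fun x => x ^ 3)) with hHt
  have hdetH : Ht.det = 1 := by
    rw [hHt, Matrix.det_transpose, Matrix.det_fin_two]
    simp only [Matrix.map_apply]
    have : G 0 0 ^ 3 * G 1 1 ^ 3 - G 0 1 ^ 3 * G 1 0 ^ 3 = (G 0 0 * G 1 1 - G 0 1 * G 1 0) ^ 3 := by
      rw [sub_pow_char (G 0 0 * G 1 1) (G 0 1 * G 1 0) (p := 3)]
      ring
    rw [this, hdetG', one_pow]
  have htrH : Ht.trace = G.trace ^ 3 := by
    rw [hHt, Matrix.trace_transpose, Matrix.trace_fin_two, Matrix.trace_fin_two]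
    simp only [Matrix.map_apply]
    rw [add_pow_char (G 0 0) (G 1 1) (p := 3)]
  constructor
  · intro hM
    apply fpf_core G Ht M hdetG hdetH 1 (by ring) _ (by rw [hM, one_smul])
    rw [one_mul, htrH]
    exact fun h => hτ h.symm
  · intro hM
    apply fpf_core G Ht M hdetG hdetH (-1) (by ring) _ (by rw [hM, neg_one_smul])
    rw [htrH]
    intro h
    -- `τ = -τ³`, so `τ (1 + τ²) = 0`
    have h0 : G.trace * (1 + G.trace ^ 2) = 0 := by
      have : G.trace + G.trace ^ 3 = 0 := by
        nth_rewrite 1 [h]; ring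
      linear_combination this
    rcases mul_eq_zero.mp h0 with h1 | h1
    · apply hτ
      rw [h1]; ring
    · exact hK G.trace (by linear_combination h1)

end Cfsg.Agent.Lib.Helper31.ReeX
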