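/-
helper31: module SLMD-[N-H] of helper32's sheet (S2332, minimal degree of SL_n(q)), `_of` form:
`h + q^k = c + 1` under `M1`, from [N-HFORM], [N-A1], [G-PSI] and [N-UPPER-K1]/[N-UPPER-K2], which enter
as hypotheses stated exactly as in `Skel.lean.txt`.
-/
import Mathlib
import Cfsg.Agent.Lib.Helper32.SLMD.Defs2

set_option autoImplicit false
set_option linter.unusedSectionVars false
set_option linter.unusedVariables false

namespace Cfsg.Agent.Lib.Helper32.SLMD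

open Matrix Cfsg.Agent.Lib.Helper41 Cfsg.Agent.Lib.Helper39 Module
open scoped LinearAlgebra.Projectivization

variable {F : Type*} [Field F] [Fintype F] [DecidableEq F] {k : ℕ}

section gg

variable {V : Type*} [AddCommGroup V] [Module ℂ V] [FiniteDimensional ℂ V]

/-- [N-H], `_of` form -/
theorem h_formula_of [NeZero k] (ρ : Representation ℂ (GG F k) V) (hM : M1 ρ)
    (Hhform : ∃ m' : ℕ, (∀ lam : Multiplicative (Fin k → F) →* ℂˣ, lam ≠ 1 →
        finrank ℂ ↥(eigenSub ρ (qHom : _ →* GG F k) 1 ⊓ eigenSub ρ (a2Hom : _ →* GG F k) lam) = m') ∧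
      hR ρ + (Fintype.card F ^ k - 1) * m' = cQ ρ)
    (Ha1 : ∀ ψ : Multiplicative F →* ℂˣ, ψ ≠ 1 →
      finrank ℂ ↥(eigenSub ρ (qHom : _ →* GG F k) 1 ⊓
        eigenSub ρ (a2Hom : _ →* GG F k) (prChar ψ 0)) ≤ 1)
    (Hpsi : ∃ ψ : Multiplicative F →* ℂˣ, ψ ≠ 1)
    (HprChar : ∀ ψ : Multiplicative F →* ℂˣ, ψ ≠ 1 →
      (prChar ψ 0 : Multiplicative (Fin k → F) →* ℂˣ) ≠ 1)
    (Hupper : hR ρ + 1 ≤ cQ ρ) :
    hR ρ + Fintype.card F ^ k = cQ ρ + 1 := by
  obtain ⟨m', hm', hsum⟩ := Hhform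
  obtain ⟨ψ, hψ⟩ := Hpsi
  have h1 : m' ≤ 1 := by
    rw [← hm' (prChar ψ 0) (HprChar ψ hψ)]
    exact Ha1 ψ hψ
  have hq : 1 ≤ Fintype.card F ^ k := Nat.one_le_pow _ _ Fintype.card_pos
  interval_cases m'
  · rw [mul_zero, add_zero] at hsum
    omega
  · rw [mul_one] at hsum
    omega

end gg

end Cfsg.Agent.Lib.Helper32.SLMD
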