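/-
helper31: module SLMD-[N-WDIM] of helper32's sheet (S2332, minimal degree of SL_n(q)), `_of` form:
`1 ≤ dim (C_V(A₂) ∩ V_{A₁, prChar ψ j})` under `M1`, from [G-PSI] (`qChar_ne_one`), [N-ORB-COMM],
[N-ORB-TORUS] and [N-VEC], which enter as hypotheses stated exactly as in `Skel.lean.txt`.
-/
import Mathlib
import Cfsg.Agent.Lib.Helper32.SLMD.Defs2

set_option autoImplicit false
set_option linter.unusedSectionVars false
set_option linter.unusedVariables false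

namespace Cfsg.Agent.Lib.Helper32.SLMD

open Matrix Cfsg.Agent.Lib.Helper41 Cfsg.Agent.Lib.Helper39 Module
open scoped LinearAlgebra.Projectivization

variable {F : Type*} [Field F] [Fintype F] [DecidableEq F] {k : ℕ}

section gg

variable {V : Type*} [AddCommGroup V] [Module ℂ V] [FiniteDimensional ℂ V]

/-- [N-WDIM], `_of` form -/
theorem wdim_of [NeZero k] (hkq : k = 1 ∨ 3 ≤ k ∨ ∃ e : Fˣ, e ^ 2 ≠ 1)
    (ρ : Representation ℂ (GG F k) V) (hM : M1 ρ) (ψ : Multiplicative F →* ℂˣ) (hψ : ψ ≠ 1)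
    (j : Fin k)
    (HqChar : (qChar ψ j : Multiplicative (F × (Fin k → F)) →* ℂˣ) ≠ 1)
    (Horb_comm : 3 ≤ k → ∀ (i : Fin k), i ≠ j → ∀ (ℓ : V),
      ℓ ∈ eigenSub ρ (qHom : _ →* GG F k) (qChar ψ j) → ∀ b : F,
      ρ (a2El (Pi.single i b)) ℓ = ℓ)
    (Horb_torus : ∀ e : Fˣ, e ^ 2 ≠ 1 → ∀ (i : Fin k), i ≠ j → ∀ (ℓ : V),
      ℓ ∈ eigenSub ρ (qHom : _ →* GG F k) (qChar ψ j) → ∀ b : F,
      ρ (a2El (Pi.single i b)) ℓ = ℓ)
    (Hvec : ∀ (ℓ : V), ℓ ∈ eigenSub ρ (qHom : _ →* GG F k) (qChar ψ j) → ℓ ≠ 0 →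
      (∀ i : Fin k, i ≠ j → ∀ b : F, ρ (a2El (Pi.single i b)) ℓ = ℓ) →
      (∑ s : F, ρ (a2El (Pi.single j s)) ℓ) ≠ 0 ∧
        (∑ s : F, ρ (a2El (Pi.single j s)) ℓ) ∈
          eigenSub ρ (a2Hom : _ →* GG F k) 1 ⊓
            eigenSub ρ (a1Hom : _ →* GG F k) (prChar ψ j)) :
    1 ≤ finrank ℂ ↥(eigenSub ρ (a2Hom : _ →* GG F k) 1 ⊓
      eigenSub ρ (a1Hom : _ →* GG F k) (prChar ψ j)) := by
  have h1 : finrank ℂ ↥(eigenSub ρ (qHom : _ →* GG F k) (qChar ψ j)) = 1 := hM _ HqChar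
  have hpos : 0 < finrank ℂ ↥(eigenSub ρ (qHom : _ →* GG F k) (qChar ψ j)) := by omega
  rw [Module.finrank_pos_iff_exists_ne_zero] at hpos
  obtain ⟨⟨ℓ, hℓ⟩, hℓ0⟩ := hpos
  have hℓ0' : ℓ ≠ 0 := fun h => hℓ0 (Subtype.ext h)
  have hfix : ∀ i : Fin k, i ≠ j → ∀ b : F, ρ (a2El (Pi.single i b)) ℓ = ℓ := by
    rcases hkq with hk1 | hk3 | ⟨e, he⟩
    · subst hk1
      intro i hij
      exact absurd (Subsingleton.elim i j) hij
    · intro i hij b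
      exact Horb_comm hk3 i hij ℓ hℓ b
    · intro i hij b
      exact Horb_torus e he i hij ℓ hℓ b
  obtain ⟨hne, hmem⟩ := Hvec ℓ hℓ hℓ0' hfix
  have : 0 < finrank ℂ ↥(eigenSub ρ (a2Hom : _ →* GG F k) 1 ⊓
      eigenSub ρ (a1Hom : _ →* GG F k) (prChar ψ j)) := by
    rw [Module.finrank_pos_iff_exists_ne_zero]
    exact ⟨⟨_, hmem⟩, fun h => hne (congrArg Subtype.val h)⟩
  omega

end gg

end Cfsg.Agent.Lib.Helper32.SLMD
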