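/-
helper31 (hedge for helper71): module SPMD-[P-Q] of helper43's sheet (S2347): the Heisenberg group `Q_v`.
The Heisenberg element `(u, β)` is realised as the product of commuting transvections
`t_{u+v,1} t_{u,-1} t_{v,β-1}`.
-/
import Mathlib
import Cfsg.Agent.Lib.Helper43.SPMD.Defs
import Cfsg.Agent.Lib.Helper43.SPMD.PZ

set_option autoImplicit false
set_option linter.unusedSectionVars false
set_option linter.unusedSimpArgs false

namespace Cfsg.Agent.Lib.Helper43.SPMD

open Matrix Module Cfsg.Agent.Lib.Helper13 Cfsg.Agent.Lib.Helper43.SUMD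

namespace H31Q

variable {n : ℕ} {F : Type*} [Field F]

/-- elements of `SpG` are determined by their action -/
theorem ext_mulVec {g g' : SpG n F} (h : ∀ x, sm g *ᵥ x = sm g' *ᵥ x) : g = g' := by
  apply sm_injective
  rw [Matrix.ext_iff_mulVec]
  exact h

/-- the Heisenberg element `(u, β)` of `Q_v` -/
def heis (v u : Vec n F) (β : F) : SpG n F :=
  tvElt (u + v) 1 * tvElt u (-1) * tvElt v (β - 1)

theorem isHeis_heis {v u : Vec n F} (hu : Cfsg.sympForm n F u v = 0) (β : F) :
    IsHeis v u β (heis v u β) := by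
  have hvu : Cfsg.sympForm n F v u = 0 := by rw [sympForm_swap, hu, neg_zero]
  intro x
  unfold heis
  rw [sm_mul, sm_mul, ← mulVec_mulVec, ← mulVec_mulVec, sm_tvElt_mulVec, sm_tvElt_mulVec,
    sm_tvElt_mulVec]
  simp only [sympForm_add_left, sympForm_add_right, sympForm_smul_left, sympForm_smul_right,
    sympForm_self, hu, hvu, mul_zero, add_zero, zero_add]
  module

theorem heis_mem_Qs {v u : Vec n F} (hu : Cfsg.sympForm n F u v = 0) (β : F) :
    heis v u β ∈ Qs v := ⟨u, β, hu, isHeis_heis hu β⟩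

theorem isHeis_unique {v u u' : Vec n F} {β β' : F} {g g' : SpG n F} (hg : IsHeis v u β g)
    (hg' : IsHeis v u' β' g') (hu : u = u') (hβ : β = β') : g = g' := by
  subst hu hβ
  exact ext_mulVec (fun x => by rw [hg x, hg' x])

/-- the composition law of `Q_v` -/
theorem isHeis_mul {v u u' : Vec n F} {β β' : F} {g g' : SpG n F}
    (hu : Cfsg.sympForm n F u v = 0) (hu' : Cfsg.sympForm n F u' v = 0)
    (hg : IsHeis v u β g) (hg' : IsHeis v u' β' g') :
    IsHeis v (u + u') (β + β' + Cfsg.sympForm n F u' u) (g * g') := by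
  have hvu : Cfsg.sympForm n F v u = 0 := by rw [sympForm_swap, hu, neg_zero]
  have hvu' : Cfsg.sympForm n F v u' = 0 := by rw [sympForm_swap, hu', neg_zero]
  intro x
  rw [sm_mul, ← mulVec_mulVec, hg' x, hg]
  simp only [sympForm_add_left, sympForm_add_right, sympForm_smul_left, sympForm_smul_right,
    sympForm_self, hu, hu', hvu, hvu', mul_zero, add_zero, zero_add]
  module

theorem isHeis_tvElt (v : Vec n F) (c : F) : IsHeis v 0 c (tvElt v c) := by
  intro x
  rw [sm_tvElt_mulVec, sympForm_zero_right]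
  simp

/-- a Heisenberg element whose vector is a multiple of `v` is a transvection -/
theorem eq_tvElt_of_isHeis_smul {v : Vec n F} {a β : F} {g : SpG n F} (hg : IsHeis v (a • v) β g) :
    g = tvElt v (2 * a + β) := by
  apply ext_mulVec
  intro x
  rw [hg x, sm_tvElt_mulVec, sympForm_smul_right]
  module

end H31Q

section P
variable {n : ℕ} {F : Type*} [Field F]

open H31Q

/-- **[P-Q]** -/
theorem Zs_le_Qs (v : Vec n F) : Zs v ≤ Qs v := by
  rintro g ⟨c, rfl⟩
  exact ⟨0, c, sympForm_zero_left v, isHeis_tvElt v c⟩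

/-- **[P-Q]** -/
theorem Zs_central_Qs (v : Vec n F) : ∀ s ∈ Qs v, ∀ z ∈ Zs v, s * z = z * s := by
  rintro s ⟨u, β, hu, hs⟩ z ⟨c, rfl⟩
  have h0 : Cfsg.sympForm n F (0 : Vec n F) v = 0 := sympForm_zero_left v
  have h1 := isHeis_mul hu h0 hs (isHeis_tvElt v c)
  have h2 := isHeis_mul h0 hu (isHeis_tvElt v c) hs
  refine isHeis_unique h1 h2 (by rw [add_zero, zero_add]) ?_
  rw [sympForm_zero_left, sympForm_zero_right]
  ring

/-- **[P-Q]** commutators in `Q_v` realise every element of `Z_v` -/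
theorem Qs_comm_exists (h2 : (2 : F) ≠ 0) {v w : Vec n F} (h : Cfsg.sympForm n F v w = 1)
    (s : SpG n F) (hs : s ∈ Qs v) (hsZ : s ∉ Zs v) (c₀ : F) :
    ∃ s' ∈ Qs v, s' * s * s'⁻¹ = s * tvElt v c₀ := by
  obtain ⟨u, β, hu, hsH⟩ := hs
  have hvu : Cfsg.sympForm n F v u = 0 := by rw [sympForm_swap, hu, neg_zero]
  -- `u₀ = u - ω(u,w) v` is non-zero and orthogonal to `v`, `w`
  set u₀ : Vec n F := u - Cfsg.sympForm n F u w • v with hu₀
  have hu₀ne : u₀ ≠ 0 := by
    intro h0
    apply hsZ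
    have hu' : u = Cfsg.sympForm n F u w • v := sub_eq_zero.mp h0
    rw [hu'] at hsH
    exact ⟨_, eq_tvElt_of_isHeis_smul hsH⟩
  obtain ⟨y, hy⟩ := exists_partner hu₀ne
  have hu₀v : Cfsg.sympForm n F u₀ v = 0 := by
    rw [hu₀, sympForm_sub_left, sympForm_smul_left, sympForm_self, hu, mul_zero, sub_zero]
  have hu₀w : Cfsg.sympForm n F u₀ w = 0 := by
    rw [hu₀, sympForm_sub_left, sympForm_smul_left, h, mul_one, sub_self]
  -- `y' = y + ω(y,v) w` is orthogonal to `v` and `ω(u, y') = 1`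
  set y' : Vec n F := y + Cfsg.sympForm n F y v • w with hy'
  have hwv : Cfsg.sympForm n F w v = -1 := by rw [sympForm_swap, h]
  have hy'v : Cfsg.sympForm n F y' v = 0 := by
    rw [hy', sympForm_add_left, sympForm_smul_left, hwv]; ring
  have hvy' : Cfsg.sympForm n F v y' = 0 := by rw [sympForm_swap, hy'v, neg_zero]
  have huy' : Cfsg.sympForm n F u y' = 1 := by
    have hu_eq : u = u₀ + Cfsg.sympForm n F u w • v := by rw [hu₀]; abel
    rw [hu_eq, sympForm_add_left, sympForm_smul_left, hvy', mul_zero, add_zero, hy',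
      sympForm_add_right, sympForm_smul_right, hu₀w, mul_zero, add_zero, hy]
  -- `u' = (c₀ / 2) y'`
  set u' : Vec n F := (2⁻¹ * c₀) • y' with hu'
  have hu'v : Cfsg.sympForm n F u' v = 0 := by
    rw [hu', sympForm_smul_left, hy'v, mul_zero]
  have huu' : Cfsg.sympForm n F u u' = 2⁻¹ * c₀ := by
    rw [hu', sympForm_smul_right, huy', mul_one]
  have hu'u : Cfsg.sympForm n F u' u = -(2⁻¹ * c₀) := by rw [sympForm_swap, huu']
  refine ⟨heis v u' 0, heis_mem_Qs hu'v 0, ?_⟩
  rw [mul_inv_eq_iff_eq_mul]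
  have h0 : Cfsg.sympForm n F (0 : Vec n F) v = 0 := sympForm_zero_left v
  have hL := isHeis_mul hu'v hu (isHeis_heis hu'v 0) hsH
  have hR1 := isHeis_mul hu h0 hsH (isHeis_tvElt v c₀)
  have hR := isHeis_mul (by rw [add_zero]; exact hu) hu'v hR1 (isHeis_heis hu'v 0)
  refine isHeis_unique hL hR (by rw [add_zero, add_comm]) ?_
  rw [sympForm_zero_left, sympForm_add_right, sympForm_zero_right, huu', hu'u]
  have h22 : (2⁻¹ : F) + 2⁻¹ = 1 := by rw [← two_mul, mul_inv_cancel₀ h2]
  linear_combination c₀ * h22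

/-- **[P-Q]** `|Q_v| ≥ q^(2n-1)` -/
theorem card_Qs_ge [Fintype F] {q : ℕ} (hq : Fintype.card F = q) (hn : 1 ≤ n) {v w : Vec n F}
    (h : Cfsg.sympForm n F v w = 1) : q ^ (2 * n - 1) ≤ Nat.card (Qs v) := by
  classical
  let φ : Vec n F →ₗ[F] F × F := ((sympBilin n F).flip v).prod ((sympBilin n F).flip w)
  have hφ : ∀ x, φ x = (Cfsg.sympForm n F x v, Cfsg.sympForm n F x w) := fun x => rfl
  have hK : ∀ u : ↥(LinearMap.ker φ), Cfsg.sympForm n F u.1 v = 0 ∧ Cfsg.sympForm n F u.1 w = 0 := by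
    intro u
    have := u.2
    rw [LinearMap.mem_ker, hφ, Prod.mk_eq_zero] at this
    exact this
  let Ψ : ↥(LinearMap.ker φ) × F → ↥(Qs v) :=
    fun p => ⟨heis v p.1.1 p.2, heis_mem_Qs (hK p.1).1 p.2⟩
  have hwv : Cfsg.sympForm n F w v = -1 := by rw [sympForm_swap, h]
  have hΨ : Function.Injective Ψ := by
    rintro ⟨u, β⟩ ⟨u', β'⟩ hp
    have hp' : heis v u.1 β = heis v u'.1 β' := congrArg Subtype.val hp
    have h1 := isHeis_heis (hK u).1 β w
    have h2 := isHeis_heis (hK u').1 β' w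
    rw [hp', h2] at h1
    have hwu : Cfsg.sympForm n F w u.1 = 0 := by rw [sympForm_swap, (hK u).2, neg_zero]
    have hwu' : Cfsg.sympForm n F w u'.1 = 0 := by rw [sympForm_swap, (hK u').2, neg_zero]
    rw [hwv, hwu, hwu'] at h1
    have h3 : u.1 + β • v = u'.1 + β' • v := by
      have h4 : (w + (-1 : F) • u'.1 + (0 : F) • v + (β' * -1) • v) -
          (w + (-1 : F) • u.1 + (0 : F) • v + (β * -1) • v) = 0 := sub_eq_zero.mpr h1
      have h5 : u.1 + β • v - (u'.1 + β' • v) =
          (w + (-1 : F) • u'.1 + (0 : F) • v + (β' * -1) • v) -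
          (w + (-1 : F) • u.1 + (0 : F) • v + (β * -1) • v) := by module
      exact sub_eq_zero.mp (h5.trans h4)
    have h6 := congrArg (fun z => Cfsg.sympForm n F z w) h3
    simp only [sympForm_add_left, sympForm_smul_left, (hK u).2, (hK u').2, h, mul_one,
      zero_add] at h6
    subst h6
    have h7 : u.1 = u'.1 := add_right_cancel h3
    exact Prod.ext (Subtype.ext h7) rfl
  have hfin : Finite ↥(Qs v) := inferInstance
  have hle := Nat.card_le_card_of_injective Ψ hΨ
  rw [Nat.card_prod, Nat.card_eq_fintype_card (α := F), hq,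
    Module.natCard_eq_pow_finrank (K := F) (V := ↥(LinearMap.ker φ)),
    Nat.card_eq_fintype_card (α := F), hq] at hle
  have hrk := LinearMap.finrank_range_add_finrank_ker φ
  have hV : finrank F (Vec n F) = 2 * n := by
    rw [Module.finrank_pi, Fintype.card_sum, Fintype.card_fin]; ring
  have hr : finrank F ↥(LinearMap.range φ) ≤ 2 := by
    have := Submodule.finrank_le (LinearMap.range φ)
    rwa [Module.finrank_prod, Module.finrank_self] at this
  have hker : 2 * n - 2 ≤ finrank F ↥(LinearMap.ker φ) := by omega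
  have hq1 : 1 ≤ q := by rw [← hq]; exact Fintype.card_pos
  calc q ^ (2 * n - 1) = q ^ (2 * n - 2) * q := by
        rw [← pow_succ]; congr 1; omega
    _ ≤ q ^ finrank F ↥(LinearMap.ker φ) * q :=
        Nat.mul_le_mul_right _ (Nat.pow_le_pow_right hq1 hker)
    _ ≤ Nat.card ↥(Qs v) := hle

/-- **[P-Q]** an element of `Q_{v'}` fixing `v'` and mapping `v ↦ v + b v'` -/
theorem exists_heis_fix {v w v' : Vec n F} (h : Cfsg.sympForm n F v w = 1)
    (hv'v : Cfsg.sympForm n F v' v = 0) (hv'w : Cfsg.sympForm n F v' w = 0) (b : F) :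
    ∃ g : SpG n F, sm g *ᵥ v' = v' ∧ sm g *ᵥ v = v + b • v' := by
  have hwv' : Cfsg.sympForm n F w v' = 0 := by rw [sympForm_swap, hv'w, neg_zero]
  have hvv' : Cfsg.sympForm n F v v' = 0 := by rw [sympForm_swap, hv'v, neg_zero]
  have hu : Cfsg.sympForm n F (b • w) v' = 0 := by rw [sympForm_smul_left, hwv', mul_zero]
  have hH := isHeis_heis hu (0 : F)
  refine ⟨heis v' (b • w) 0, ?_, ?_⟩
  · rw [hH v', sympForm_self, sympForm_smul_right, hv'w]
    simp
  · rw [hH v, hvv', sympForm_smul_right, h]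
    simp

end P

end Cfsg.Agent.Lib.Helper43.SPMD
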