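/-
helper31 (hedge for helper71): module SPMD-[R-DECOMP] of helper43's sheet (S2347):
a representation of the additive group of a finite field `F` is the direct sum of its weight spaces:
`dim X = Σ_s dim (wtτ τ ψ s)`.
-/
import Mathlib
import Cfsg.Agent.Lib.Helper43.SPMD.Defs

set_option autoImplicit false
set_option linter.unusedSectionVars false

namespace Cfsg.Agent.Lib.Helper43.SPMD

open Matrix Module Cfsg.Agent.Lib.Helper13 Cfsg.Agent.Lib.Helper43.SUMD

namespace H31

section
variable {F : Type*} [Field F] [Fintype F]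
variable {X : Type*} [AddCommGroup X] [Module ℂ X]

/-- the projection onto the weight space `wtτ τ ψ s` -/
noncomputable def wproj (ψ : AddChar F ℂ) (τ : F → Module.End ℂ X) (s : F) : Module.End ℂ X :=
  ((Fintype.card F : ℂ)⁻¹) • ∑ c : F, ψ (-(s * c)) • τ c

theorem wproj_apply (ψ : AddChar F ℂ) (τ : F → Module.End ℂ X) (s : F) (x : X) :
    wproj ψ τ s x = ((Fintype.card F : ℂ)⁻¹) • ∑ c : F, ψ (-(s * c)) • τ c x := by
  simp only [wproj, LinearMap.smul_apply, LinearMap.sum_apply]

theorem isProj_wproj (ψ : AddChar F ℂ) (τ : F → Module.End ℂ X)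
    (hadd : ∀ c d, τ (c + d) = τ c * τ d) (s : F) :
    LinearMap.IsProj (wtτ τ ψ s) (wproj ψ τ s) := by
  have hn : (Fintype.card F : ℂ) ≠ 0 := Nat.cast_ne_zero.mpr Fintype.card_ne_zero
  constructor
  · intro x c
    rw [wproj_apply, map_smul, map_sum, smul_comm (ψ (s * c))]
    congr 1
    rw [Finset.smul_sum,
      ← Equiv.sum_comp (Equiv.addLeft c) (fun w => ψ (s * c) • ψ (-(s * w)) • τ w x)]
    refine Finset.sum_congr rfl fun w _ => ?_
    rw [Equiv.coe_addLeft, map_smul, hadd, Module.End.mul_apply, smul_smul,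
      ← AddChar.map_add_eq_mul]
    congr 2
    ring
  · intro x hx
    rw [wproj_apply]
    have : ∀ c : F, ψ (-(s * c)) • τ c x = x := by
      intro c
      rw [hx c, smul_smul, ← AddChar.map_add_eq_mul, neg_add_cancel, AddChar.map_zero_eq_one,
        one_smul]
    rw [Finset.sum_congr rfl (fun z _ => this z), Finset.sum_const, Finset.card_univ,
      ← Nat.cast_smul_eq_nsmul ℂ, smul_smul, inv_mul_cancel₀ hn, one_smul]

theorem sum_wproj (ψ : AddChar F ℂ) (hψ : ψ ≠ 1) (τ : F → Module.End ℂ X) (h0 : τ 0 = 1) :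
    ∑ s : F, wproj ψ τ s = 1 := by
  classical
  have hn : (Fintype.card F : ℂ) ≠ 0 := Nat.cast_ne_zero.mpr Fintype.card_ne_zero
  unfold wproj
  rw [← Finset.smul_sum, Finset.sum_comm]
  simp_rw [← Finset.sum_smul]
  have h3 : ∀ c : F, ∑ s : F, ψ (-(s * c)) = if c = 0 then (Fintype.card F : ℂ) else 0 := by
    intro c
    have := AddChar.sum_mulShift (ψ := ψ) (-c) (AddChar.IsPrimitive.of_ne_one hψ)
    simp only [neg_eq_zero] at this
    have h4 : ((if c = 0 then Fintype.card F else 0 : ℕ) : ℂ) =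
        if c = 0 then (Fintype.card F : ℂ) else 0 := by
      split_ifs <;> simp
    rw [← h4, ← this]
    refine Finset.sum_congr rfl (fun a _ => ?_)
    congr 1
    ring
  simp_rw [h3]
  rw [Finset.sum_eq_single (0 : F)]
  · rw [if_pos rfl, h0, smul_smul, inv_mul_cancel₀ hn, one_smul]
  · intro c _ hc
    rw [if_neg hc, zero_smul]
  · intro h; exact absurd (Finset.mem_univ _) h

end

end H31

section R
variable {F : Type*} [Field F] [Fintype F]
variable {X : Type*} [AddCommGroup X] [Module ℂ X] [FiniteDimensional ℂ X]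

/-- **[R-DECOMP]** a representation of the additive group of `F` is the direct sum of its weight spaces -/
theorem finrank_eq_sum_wtτ (ψ : AddChar F ℂ) (hψ : ψ ≠ 1) (τ : F → Module.End ℂ X) (h0 : τ 0 = 1)
    (hadd : ∀ c d, τ (c + d) = τ c * τ d) :
    finrank ℂ X = ∑ s : F, finrank ℂ (wtτ τ ψ s) := by
  have h1 : (LinearMap.trace ℂ X) (∑ s : F, H31.wproj ψ τ s) = (finrank ℂ X : ℂ) := by
    rw [H31.sum_wproj ψ hψ τ h0, LinearMap.trace_one]
  rw [map_sum] at h1
  have h2 : ∀ s : F, (LinearMap.trace ℂ X) (H31.wproj ψ τ s) = (finrank ℂ (wtτ τ ψ s) : ℂ) :=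
    fun s => (H31.isProj_wproj ψ τ hadd s).trace
  rw [Finset.sum_congr rfl (fun s _ => h2 s)] at h1
  have : ((finrank ℂ X : ℕ) : ℂ) = ((∑ s : F, finrank ℂ (wtτ τ ψ s) : ℕ) : ℂ) := by
    rw [← h1]; push_cast; rfl
  exact_mod_cast this

end R

end Cfsg.Agent.Lib.Helper43.SPMD
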