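/-
helper31 (hedge for helper71): module SPMD-[T-STEP1] of helper43's sheet (S2347): the Heisenberg bound
`q^(n-1) ≤ dim V_s` for a non-zero weight space of `Z_v`, `s ≠ 0`.
-/
import Mathlib
import Cfsg.Agent.Lib.Helper43.SPMD.Defs
import Cfsg.Agent.Lib.Helper43.SPMD.PZ
import Cfsg.Agent.Lib.Helper31.SpmdPQ
import Cfsg.Agent.Lib.Helper95.SumdRHeis

set_option autoImplicit false
set_option linter.unusedSectionVars false

namespace Cfsg.Agent.Lib.Helper43.SPMD

open Matrix Module Cfsg.Agent.Lib.Helper13 Cfsg.Agent.Lib.Helper43.SUMD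

section T
variable {n : ℕ} {F : Type*} [Field F] [Fintype F]
variable {X : Type*} [AddCommGroup X] [Module ℂ X] [FiniteDimensional ℂ X]

/-- **[T-STEP1]** the Heisenberg bound for the weight spaces of `Z_v` -/
theorem step1 {q : ℕ} (hq : Fintype.card F = q) (h2 : (2 : F) ≠ 0) (ψ : AddChar F ℂ) (hψ : ψ ≠ 1)
    (hn : 1 ≤ n) {v w : Vec n F} (h : Cfsg.sympForm n F v w = 1)
    (ρ : Representation ℂ (SpG n F) X) (s : F) (hs : s ≠ 0) (hW : wtv ρ ψ v s ≠ ⊥) :
    q ^ (n - 1) ≤ finrank ℂ (wtv ρ ψ v s) := by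
  classical
  have hv : v ≠ 0 := by
    rintro rfl
    rw [sympForm_zero_left] at h
    exact zero_ne_one h
  obtain ⟨χ, hχ⟩ := exists_zchar ψ hv s
  have hwt : wtSp ρ (Zs v) χ = wtv ρ ψ v s := by
    ext x
    rw [mem_wtSp, mem_wtv]
    constructor
    · intro hx c
      rw [← hχ c]
      exact hx ⟨tvElt v c, tvElt_mem_Zs v c⟩
    · rintro hx ⟨g, c, rfl⟩
      rw [hχ c]
      exact hx c
  obtain ⟨a, ha⟩ : ∃ a : F, ψ a ≠ 1 := by
    by_contra hcon
    push Not at hcon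
    exact hψ (DFunLike.ext _ _ (fun a => by rw [hcon a]; rfl))
  have hfin : Finite ↥(Qs v) := inferInstance
  have hb := heis_bound ρ (Qs v) (Zs v) (Zs_le_Qs v) (Zs_central_Qs v) χ (by rw [hwt]; exact hW)
    (by
      intro s' hs' hs'Z
      obtain ⟨s'', hs'', heq⟩ := Qs_comm_exists h2 h s' hs' hs'Z (s⁻¹ * a)
      refine ⟨s'', hs'', ⟨tvElt v (s⁻¹ * a), tvElt_mem_Zs v _⟩, heq, ?_⟩
      intro h1
      apply ha
      have := hχ (s⁻¹ * a)
      rw [h1, Units.val_one, ← mul_assoc, mul_inv_cancel₀ hs, one_mul] at this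
      exact this.symm)
  rw [hwt, card_Zs hv, hq] at hb
  have hge := card_Qs_ge hq hn h
  set d := finrank ℂ ↥(wtv ρ ψ v s) with hd
  have hq1 : 1 ≤ q := by rw [← hq]; exact Fintype.card_pos
  by_contra hlt
  push Not at hlt
  have h3 : q ^ (2 * n - 1) = q * (q ^ (n - 1)) ^ 2 := by
    rw [← pow_mul, ← pow_succ']
    congr 1
    omega
  have h4 : d ^ 2 < (q ^ (n - 1)) ^ 2 := Nat.pow_lt_pow_left hlt two_ne_zero
  have h5 : q * d ^ 2 < q * (q ^ (n - 1)) ^ 2 := Nat.mul_lt_mul_of_pos_left h4 hq1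
  omega

end T

end Cfsg.Agent.Lib.Helper43.SPMD
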