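/-
helper31: module SPMD-[W-MUL] of helper43's sheet (S2347, minimal degree of Sp_2n(q), q odd):
the Weyl relations `W(v) W(v') = ψ(ω(v',v)/2) W(v+v')` and `W(0) = 1`.
-/
import Mathlib
import Cfsg.Agent.Lib.Helper43.SPMD.Defs

set_option autoImplicit false
set_option linter.unusedSectionVars false

namespace Cfsg.Agent.Lib.Helper43.SPMD

open Matrix Module Cfsg.Agent.Lib.Helper13 Cfsg.Agent.Lib.Helper43.SUMD

namespace H31

variable {n : ℕ} {F : Type*} [Field F]

theorem sympForm_eq_dot (u v : Vec n F) :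
    Cfsg.sympForm n F u v = rr u ⬝ᵥ pp v - pp u ⬝ᵥ rr v := by
  rw [sympForm_eq_sum, dotProduct, dotProduct, ← Finset.sum_sub_distrib]
  rfl

theorem pp_add (v v' : Vec n F) : pp (v + v') = pp v + pp v' := rfl

theorem rr_add (v v' : Vec n F) : rr (v + v') = rr v + rr v' := rfl

theorem pp_smul (a : F) (v : Vec n F) : pp (a • v) = a • pp v := rfl

theorem rr_smul (a : F) (v : Vec n F) : rr (a • v) = a • rr v := rfl

theorem pp_zero : pp (0 : Vec n F) = 0 := rfl

theorem rr_zero : rr (0 : Vec n F) = 0 := rfl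

end H31

section W
variable {n : ℕ} {F : Type*} [Field F] [Fintype F]

/-- **[W-MUL]** the Weyl relations -/
theorem weyl_mul (h2 : (2 : F) ≠ 0) (ψ : AddChar F ℂ) (v v' : Vec n F) :
    weyl ψ v * weyl ψ v' = ψ (2⁻¹ * Cfsg.sympForm n F v' v) • weyl ψ (v + v') := by
  apply LinearMap.ext
  intro f
  funext x
  rw [Module.End.mul_apply, weyl_apply, weyl_apply, LinearMap.smul_apply, Pi.smul_apply,
    weyl_apply, smul_eq_mul, H31.pp_add, H31.rr_add, ← mul_assoc, ← mul_assoc,
    ← AddChar.map_add_eq_mul, ← AddChar.map_add_eq_mul, add_assoc x]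
  congr 2
  rw [H31.sympForm_eq_dot, dotProduct_add, add_dotProduct, add_dotProduct, dotProduct_add,
    dotProduct_add, dotProduct_comm (pp v) (rr v')]
  have h : (2⁻¹ : F) + 2⁻¹ = 1 := by
    rw [← two_mul, mul_inv_cancel₀ h2]
  linear_combination (-(rr v' ⬝ᵥ pp v)) * h

/-- **[W-MUL]** -/
theorem weyl_zero (ψ : AddChar F ℂ) : weyl ψ (0 : Vec n F) = 1 := by
  apply LinearMap.ext
  intro f
  funext x
  rw [weyl_apply, H31.pp_zero, H31.rr_zero, zero_dotProduct, zero_dotProduct, mul_zero, add_zero,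
    AddChar.map_zero_eq_one, one_mul, add_zero, Module.End.one_apply]

end W

end Cfsg.Agent.Lib.Helper43.SPMD
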