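/-
helper31: module SPMD-[W-TV] of helper43's sheet (S2347, minimal degree of Sp_2n(q), q odd):
an invertible intertwiner `M = Σ_a ψ(-a²/(2c)) W(a u)` for the transvection `t_{u,c}`.
-/
import Mathlib
import Cfsg.Agent.Lib.Helper43.SPMD.Defs
import Cfsg.Agent.Lib.Helper31.SpmdWMul

set_option autoImplicit false
set_option linter.unusedSectionVars false

namespace Cfsg.Agent.Lib.Helper43.SPMD

open Matrix Module Cfsg.Agent.Lib.Helper13 Cfsg.Agent.Lib.Helper43.SUMD

namespace H31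

variable {n : ℕ} {F : Type*} [Field F] [Fintype F]

/-- the Gaussian operator `Σ_a ψ(-a²/(2c)) W(a u)` -/
noncomputable def gaussOp (ψ : AddChar F ℂ) (u : Vec n F) (c : F) : Module.End ℂ (Fn n F) :=
  ∑ a : F, ψ (-(2 * c)⁻¹ * a ^ 2) • weyl ψ (a • u)

theorem gaussOp_mul_weyl (h2 : (2 : F) ≠ 0) (ψ : AddChar F ℂ) (u : Vec n F) {c : F} (hc : c ≠ 0)
    (v : Vec n F) :
    gaussOp ψ u c * weyl ψ v =
      weyl ψ (v + (c * Cfsg.sympForm n F v u) • u) * gaussOp ψ u c := by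
  set lam := Cfsg.sympForm n F v u with hlam
  have huv : Cfsg.sympForm n F u v = -lam := by rw [sympForm_swap]
  unfold gaussOp
  rw [Finset.sum_mul, Finset.mul_sum]
  rw [← Fintype.sum_equiv (Equiv.addRight (c * lam)) (fun a => ψ (-(2 * c)⁻¹ * (a + c * lam) ^ 2) •
    weyl ψ ((a + c * lam) • u) * weyl ψ v) (fun a => ψ (-(2 * c)⁻¹ * a ^ 2) • weyl ψ (a • u) * weyl ψ v)
    (fun a => rfl)]
  refine Finset.sum_congr rfl (fun a _ => ?_)
  rw [smul_mul_assoc, mul_smul_comm, weyl_mul h2, weyl_mul h2, smul_smul, smul_smul,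
    ← AddChar.map_add_eq_mul, ← AddChar.map_add_eq_mul]
  have hvec : (a + c * lam) • u + v = v + (c * lam) • u + a • u := by
    rw [add_smul]; abel
  rw [hvec]
  congr 2
  rw [sympForm_smul_right, sympForm_smul_left, sympForm_add_right, sympForm_smul_right,
    sympForm_self, huv, ← hlam]
  field_simp
  ring

theorem gaussOp_mul_gaussOp (h2 : (2 : F) ≠ 0) (ψ : AddChar F ℂ) (hψ : ψ ≠ 1) (u : Vec n F) {c : F}
    (hc : c ≠ 0) :
    gaussOp ψ u c * gaussOp ψ u (-c) = (Fintype.card F : ℂ) • (1 : Module.End ℂ (Fn n F)) := by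
  classical
  unfold gaussOp
  rw [Finset.sum_mul]
  simp_rw [Finset.mul_sum]
  -- reindex the inner sum `b = s - a`
  have h1 : ∀ a : F, ∑ b : F, ψ (-(2 * c)⁻¹ * a ^ 2) • weyl ψ (a • u) *
        ψ (-(2 * -c)⁻¹ * b ^ 2) • weyl ψ (b • u) =
      ∑ s : F, (ψ ((2 * c)⁻¹ * s ^ 2) * ψ (s * (-c⁻¹ * a))) • weyl ψ (s • u) := by
    intro a
    rw [← Fintype.sum_equiv (Equiv.subRight a) (fun s => ψ (-(2 * c)⁻¹ * a ^ 2) • weyl ψ (a • u) *
      ψ (-(2 * -c)⁻¹ * (s - a) ^ 2) • weyl ψ ((s - a) • u)) (fun b => ψ (-(2 * c)⁻¹ * a ^ 2) •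
      weyl ψ (a • u) * ψ (-(2 * -c)⁻¹ * b ^ 2) • weyl ψ (b • u)) (fun s => rfl)]
    refine Finset.sum_congr rfl (fun s _ => ?_)
    rw [smul_mul_assoc, mul_smul_comm, weyl_mul h2, smul_smul, smul_smul,
      ← AddChar.map_add_eq_mul, ← AddChar.map_add_eq_mul, ← AddChar.map_add_eq_mul]
    have hvec : a • u + (s - a) • u = s • u := by
      rw [← add_smul]; congr 1; ring
    rw [hvec, sympForm_smul_left, sympForm_smul_right, sympForm_self]
    congr 2
    field_simp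
    ring
  rw [Finset.sum_congr rfl (fun a _ => h1 a), Finset.sum_comm]
  simp_rw [← Finset.sum_smul, ← Finset.mul_sum]
  have h3 : ∀ s : F, ∑ a : F, ψ (s * (-c⁻¹ * a)) = if s = 0 then (Fintype.card F : ℂ) else 0 := by
    intro s
    have := AddChar.sum_mulShift (ψ := ψ) (-c⁻¹ * s) (AddChar.IsPrimitive.of_ne_one hψ)
    have hiff : (-c⁻¹ * s = 0) ↔ s = 0 := by
      constructor
      · intro h
        rcases mul_eq_zero.mp h with h | h
        · exact absurd (neg_eq_zero.mp h) (inv_ne_zero hc)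
        · exact h
      · intro h; rw [h, mul_zero]
    simp only [hiff] at this
    have h4 : ((if s = 0 then Fintype.card F else 0 : ℕ) : ℂ) =
        if s = 0 then (Fintype.card F : ℂ) else 0 := by
      split_ifs <;> simp
    rw [← h4, ← this]
    refine Finset.sum_congr rfl (fun a _ => ?_)
    congr 1
    ring
  simp_rw [h3]
  rw [Finset.sum_eq_single (0 : F)]
  · rw [if_pos rfl, zero_smul, weyl_zero]
    congr 1
    rw [zero_pow two_ne_zero, mul_zero, AddChar.map_zero_eq_one, one_mul]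
  · intro s _ hs
    rw [if_neg hs, mul_zero, zero_smul]
  · intro h; exact absurd (Finset.mem_univ _) h

end H31

section W
variable {n : ℕ} {F : Type*} [Field F] [Fintype F]

/-- **[W-TV]** an invertible intertwiner for each transvection -/
theorem exists_intertwiner_tv (h2 : (2 : F) ≠ 0) (ψ : AddChar F ℂ) (hψ : ψ ≠ 1) (u : Vec n F) (c : F) :
    ∃ M : (Module.End ℂ (Fn n F))ˣ, Intertwines ψ (tvElt u c) (M : Module.End ℂ (Fn n F)) := by
  by_cases hc : c = 0
  · refine ⟨1, fun v => ?_⟩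
    rw [hc, tvElt_zero, sm_one, one_mulVec, Units.val_one, one_mul, mul_one]
  · have hq : (Fintype.card F : ℂ) ≠ 0 := Nat.cast_ne_zero.mpr Fintype.card_ne_zero
    have hnc : -c ≠ 0 := neg_ne_zero.mpr hc
    have h1 := H31.gaussOp_mul_gaussOp h2 ψ hψ u hc
    have h1' := H31.gaussOp_mul_gaussOp h2 ψ hψ u hnc
    rw [neg_neg] at h1'
    refine ⟨⟨H31.gaussOp ψ u c, (Fintype.card F : ℂ)⁻¹ • H31.gaussOp ψ u (-c), ?_, ?_⟩, fun v => ?_⟩
    · rw [mul_smul_comm, h1, smul_smul, inv_mul_cancel₀ hq, one_smul]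
    · rw [smul_mul_assoc, h1', smul_smul, inv_mul_cancel₀ hq, one_smul]
    · show H31.gaussOp ψ u c * weyl ψ v = weyl ψ (sm (tvElt u c) *ᵥ v) * H31.gaussOp ψ u c
      rw [sm_tvElt_mulVec]
      exact H31.gaussOp_mul_weyl h2 ψ u hc v

end W

end Cfsg.Agent.Lib.Helper43.SPMD
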