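/-
helper31: project STEINBERG (helper35), module P2-[MONO2], abstract core: the elements of `M̄` have the refined
monomial property.  The only matrix-side input is the injectivity of `u ↦ x_r(u)` (S1023 + S1024), a hypothesis here.
-/
import Cfsg.Agent.Lib.Helper35.StDefs2
import Cfsg.Agent.Lib.Helper31.StMono

set_option autoImplicit false

namespace Cfsg.Agent.Lib.Helper31.St

open Cfsg.Lie Cfsg.Agent.Lib.Helper35.St

universe u v

variable {D : ChevalleyDatum} {K : Type u} [Field K] {Γ : Type v} [Group Γ] (M : Model D K Γ)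

/-- The matrix of `π (n̄_r(t))` is `n_r(t)`. -/
theorem π_nbar {r : ℕ} (hr : r < D.nroots) (hn : D.neg r < D.nroots) (t : K) :
    ((M.π (M.nbar r t) : GL D.Idx K) : Matrix D.Idx D.Idx K) = D.nMat K r t := by
  unfold Model.nbar ChevalleyDatum.nMat ChevalleyDatum.nWord ChevalleyDatum.wordMat
  simp only [map_mul, Units.val_mul, M.hπ r hr, M.hπ _ hn, List.map_cons, List.map_nil, List.prod_cons,
    List.prod_nil, mul_one, mul_assoc]

/-- The matrix form of a conjugation relation in `Γ`. -/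
theorem π_conj {g : Γ} {a b : ℕ} (ha : a < D.nroots) (hb : b < D.nroots) {x y : K}
    (h : g * M.X a x * g⁻¹ = M.X b y) :
    ((M.π g : GL D.Idx K) : Matrix D.Idx D.Idx K) * D.x K a x
      = D.x K b y * ((M.π g : GL D.Idx K) : Matrix D.Idx D.Idx K) := by
  have h' : g * M.X a x = M.X b y * g := by rw [← h]; group
  have := congrArg (fun z => ((M.π z : GL D.Idx K) : Matrix D.Idx D.Idx K)) h'
  simpa only [map_mul, Units.val_mul, M.hπ a ha, M.hπ b hb] using this

/-- Cancellation of the matrix of a unit on the right. -/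
theorem cancel_right_unit {A B : Matrix D.Idx D.Idx K} (g : GL D.Idx K)
    (h : A * (g : Matrix D.Idx D.Idx K) = B * (g : Matrix D.Idx D.Idx K)) : A = B := by
  have := congrArg (fun z => z * ((g⁻¹ : GL D.Idx K) : Matrix D.Idx D.Idx K)) h
  simpa only [mul_assoc, Units.mul_inv, mul_one] using this

/-- The constant of a conjugation relation is determined by the matrix side. -/
theorem const_eq (hinj : ∀ r, r < D.nroots → ∀ a b : K, D.x K r a = D.x K r b → a = b)
    {g : Γ} {a b : ℕ} (ha : a < D.nroots) (hb : b < D.nroots) {c c' : K}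
    (h : ∀ u : K, g * M.X a u * g⁻¹ = M.X b (c * u))
    (hG : ∀ u : K, ((M.π g : GL D.Idx K) : Matrix D.Idx D.Idx K) * D.x K a u
      = D.x K b (c' * u) * ((M.π g : GL D.Idx K) : Matrix D.Idx D.Idx K)) : c = c' := by
  have h1 := π_conj M ha hb (h 1)
  rw [hG 1] at h1
  have h2 := hinj b hb _ _ (cancel_right_unit (M.π g) h1)
  simpa using h2.symm

theorem isMono2_one : M.IsMono2 1 := by
  refine ⟨id, fun _ => 1, fun s hs => ⟨hs, one_ne_zero, rfl, by simp⟩, fun s _ u => ?_⟩
  simp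

theorem isMono2_mul {g h : Γ} (hg : M.IsMono2 g) (hh : M.IsMono2 h) : M.IsMono2 (g * h) := by
  obtain ⟨ρ₁, c₁, h1, h1'⟩ := hg
  obtain ⟨ρ₂, c₂, h2, h2'⟩ := hh
  refine ⟨fun s => ρ₁ (ρ₂ s), fun s => c₁ (ρ₂ s) * c₂ s, fun s hs => ⟨?_, ?_, ?_, ?_⟩, fun s hs u => ?_⟩
  · exact (h1 _ (h2 s hs).1).1
  · exact mul_ne_zero (h1 _ (h2 s hs).1).2.1 (h2 s hs).2.1
  · show ρ₁ (ρ₂ (D.neg s)) = D.neg (ρ₁ (ρ₂ s))
    rw [(h2 s hs).2.2.1, (h1 _ (h2 s hs).1).2.2.1]
  · show c₁ (ρ₂ (D.neg s)) * c₂ (D.neg s) = (c₁ (ρ₂ s) * c₂ s)⁻¹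
    rw [(h2 s hs).2.2.1, (h1 _ (h2 s hs).1).2.2.2, (h2 s hs).2.2.2, mul_inv]
  · have : g * h * M.X s u * (g * h)⁻¹ = g * (h * M.X s u * h⁻¹) * g⁻¹ := by group
    rw [this, h2' s hs, h1' _ (h2 s hs).1, mul_assoc]

theorem isMono2_nbar (hinj : ∀ r, r < D.nroots → ∀ a b : K, D.x K r a = D.x K r b → a = b)
    (tf : TF D) (hA : M.Act) (hG2 : GAct2 D K) {i : ℕ} (hi : i < D.rank) {t : K} (ht : t ≠ 0) :
    M.IsMono2 (M.nbar (D.simple i) t) := by
  classical
  have hpl := tf.pos_lt _ (tf.simple_pos i hi)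
  have hnl := tf.neg_lt _ hpl
  have H := fun s (hs : s < D.nroots) => hA i hi s hs t ht
  have hc : ∀ s (hs : s < D.nroots), (if hs : s < D.nroots then Classical.choose (H s hs) else (1 : K))
      = Classical.choose (H s hs) := fun s hs => by simp only [hs, dif_pos]
  refine ⟨D.reflectRoot i, fun s => if hs : s < D.nroots then Classical.choose (H s hs) else 1,
    fun s hs => ⟨tf.refl_lt i hi s hs, ?_, tf.refl_neg i hi s hs, ?_⟩, fun s hs u => ?_⟩
  · beta_reduce
    rw [hc s hs]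
    exact (Classical.choose_spec (H s hs)).1
  · have hns := tf.neg_lt s hs
    show (if hs : D.neg s < D.nroots then Classical.choose (H (D.neg s) hs) else (1 : K))
      = (if hs : s < D.nroots then Classical.choose (H s hs) else (1 : K))⁻¹
    rw [hc s hs, hc _ hns]
    obtain ⟨c', hc', hG, hGn⟩ := hG2 i hi s hs t ht
    have e1 : Classical.choose (H s hs) = c' := by
      refine const_eq M hinj hs (tf.refl_lt i hi s hs) (Classical.choose_spec (H s hs)).2 ?_
      intro u
      rw [π_nbar M hpl hnl]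
      exact hG u
    have e2 : Classical.choose (H (D.neg s) hns) = c'⁻¹ := by
      refine const_eq M hinj hns (tf.refl_lt i hi _ hns) (Classical.choose_spec (H _ hns)).2 ?_
      intro u
      rw [π_nbar M hpl hnl, tf.refl_neg i hi s hs]
      exact hGn u
    rw [e1, e2]
  · beta_reduce
    rw [hc s hs]
    exact (Classical.choose_spec (H s hs)).2 u

theorem isMono2_of_mem_Mbar_core (hinj : ∀ r, r < D.nroots → ∀ a b : K, D.x K r a = D.x K r b → a = b)
    (tf : TF D) (hA : M.Act) (hG2 : GAct2 D K) (g : Γ) (hg : g ∈ M.Mbar) : M.IsMono2 g := by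
  have key : M.IsMono2 g ∧ M.IsMono2 g⁻¹ := by
    unfold Model.Mbar at hg
    induction hg using Subgroup.closure_induction with
    | mem x hx =>
      obtain ⟨i, t, hi, ht, rfl⟩ := hx
      have hpl := tf.pos_lt _ (tf.simple_pos i hi)
      refine ⟨isMono2_nbar M hinj tf hA hG2 hi ht, ?_⟩
      rw [nbar_inv M hpl (tf.neg_lt _ hpl)]
      exact isMono2_nbar M hinj tf hA hG2 hi (neg_ne_zero.mpr ht)
    | one => rw [inv_one]; exact ⟨isMono2_one M, isMono2_one M⟩
    | mul x y _ _ hx hy =>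
      rw [mul_inv_rev]
      exact ⟨isMono2_mul M hx.1 hy.1, isMono2_mul M hy.2 hx.2⟩
    | inv x _ hx => rw [inv_inv]; exact ⟨hx.2, hx.1⟩
  exact key.1

end Cfsg.Agent.Lib.Helper31.St
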