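/-
helper31: project STEINBERG (helper35), module P2-[BRAID], abstract core: `(σ_i σ_j) ^ m_ij ∈ H̄`.
The matrix-side inputs (`xG_inj_root`, `n_p(1) x_s(u) = x_{w s}(c u) n_p(1)`) are hypotheses here.
-/
import Cfsg.Agent.Lib.Helper31.StAlt
import Cfsg.Agent.Lib.Helper31.StMono2Core

set_option autoImplicit false

namespace Cfsg.Agent.Lib.Helper31.St

open Cfsg.Lie Cfsg.Agent.Lib.Helper35.St

universe u v

variable {D : ChevalleyDatum} {K : Type u} [Field K] {Γ : Type v} [Group Γ] (M : Model D K Γ)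

/-- The product of the `σ`'s along a word. -/
def sigmaWord (ws : List ℕ) : Γ := (ws.map M.sigma).prod

theorem altProd_sigma (i j n : ℕ) : altProd (M.sigma i) (M.sigma j) n = sigmaWord M (altWord i j n) := by
  induction n generalizing i j with
  | zero => simp [altProd, altWord, sigmaWord]
  | succ n ih =>
    simp only [altProd, altWord, sigmaWord, List.map_cons, List.prod_cons]
    rw [ih j i]
    rfl

theorem sigma_mem_Mbar {i : ℕ} (hi : i < D.rank) : M.sigma i ∈ M.Mbar :=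
  Subgroup.subset_closure ⟨i, 1, hi, one_ne_zero, rfl⟩

/-- The matrix of `π` of a word in the `σ`'s moves the root elements along `wRoot`. -/
theorem π_sigmaWord
    (hG1 : ∀ i, i < D.rank → ∀ s, s < D.nroots → ∃ c : K, c ≠ 0 ∧ ∀ u : K,
      D.nMat K (D.simple i) 1 * D.x K s u = D.x K (D.reflectRoot i s) (c * u) * D.nMat K (D.simple i) 1)
    (tf : TF D) (ws : List ℕ) (hws : ∀ i ∈ ws, i < D.rank) (s : ℕ) (hs : s < D.nroots) :
    wRoot D ws s < D.nroots ∧ ∃ c : K, c ≠ 0 ∧ ∀ u : K,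
      ((M.π (sigmaWord M ws) : GL D.Idx K) : Matrix D.Idx D.Idx K) * D.x K s u
        = D.x K (wRoot D ws s) (c * u) * ((M.π (sigmaWord M ws) : GL D.Idx K) : Matrix D.Idx D.Idx K) := by
  induction ws with
  | nil =>
    refine ⟨hs, 1, one_ne_zero, fun u => ?_⟩
    simp [sigmaWord, wRoot]
  | cons i ws ih =>
    have hi : i < D.rank := hws i List.mem_cons_self
    obtain ⟨hlt, c, hc, hcu⟩ := ih fun k hk => hws k (List.mem_cons_of_mem _ hk)
    have hpl := tf.pos_lt _ (tf.simple_pos i hi)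
    have hnl := tf.neg_lt _ hpl
    have hw : wRoot D (i :: ws) s = D.reflectRoot i (wRoot D ws s) := by
      unfold wRoot
      rw [List.foldr_cons]
    obtain ⟨c', hc', hcu'⟩ := hG1 i hi _ hlt
    rw [hw]
    refine ⟨tf.refl_lt i hi _ hlt, c' * c, mul_ne_zero hc' hc, fun u => ?_⟩
    have hsw : sigmaWord M (i :: ws) = M.sigma i * sigmaWord M ws := by
      simp [sigmaWord]
    have hσ : ((M.π (M.sigma i) : GL D.Idx K) : Matrix D.Idx D.Idx K) = D.nMat K (D.simple i) 1 :=
      π_nbar M hpl hnl 1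
    rw [hsw, map_mul, Units.val_mul, hσ, mul_assoc, hcu u, ← mul_assoc, hcu' (c * u), mul_assoc, mul_assoc]

theorem braid_core
    (hroot : ∀ a b, a < D.nroots → b < D.nroots → ∀ t t' : K, t ≠ 0 → D.x K a t = D.x K b t' → b = a)
    (hG1 : ∀ i, i < D.rank → ∀ s, s < D.nroots → ∃ c : K, c ≠ 0 ∧ ∀ u : K,
      D.nMat K (D.simple i) 1 * D.x K s u = D.x K (D.reflectRoot i s) (c * u) * D.nMat K (D.simple i) 1)
    (tf : TF D) (hmono2 : ∀ g ∈ M.Mbar, M.IsMono2 g) (hHN : M.HNorm)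
    (hsq : ∀ i, i < D.rank → M.sigma i * M.sigma i ∈ M.Hbar)
    (hconj : ∀ (ν : Γ) (j k : ℕ), j < D.rank → k < D.rank → ∀ c : K, c ≠ 0 →
      (∀ u : K, ν * M.X (D.simple j) u * ν⁻¹ = M.X (D.simple k) (c * u)) →
      (∀ u : K, ν * M.X (D.neg (D.simple j)) u * ν⁻¹ = M.X (D.neg (D.simple k)) (c⁻¹ * u)) →
      ν * M.sigma j * ν⁻¹ * (M.sigma k)⁻¹ ∈ M.Hbar)
    (i j : ℕ) (hi : i < D.rank) (hj : j < D.rank) (L : ℕ)
    (hdi : wRoot D (altWord i j L) (D.simple (if L % 2 = 1 then j else i)) = D.simple j) :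
    (M.sigma i * M.sigma j) ^ (L + 1) ∈ M.Hbar := by
  have hσi := sigma_mem_Mbar M hi
  have hσj := sigma_mem_Mbar M hj
  refine pow_mem_of_alt M.Mbar M.Hbar hHN _ _ hσi hσj (hsq i hi) (hsq j hj) L ?_
  set k := if L % 2 = 1 then j else i with hk
  have hkr : k < D.rank := by rw [hk]; split_ifs <;> assumption
  have hz : (if L % 2 = 1 then M.sigma j else M.sigma i) = M.sigma k := by
    rw [hk]; split_ifs <;> rfl
  rw [hz]
  set a := altProd (M.sigma i) (M.sigma j) L with ha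
  have haM : a ∈ M.Mbar := altProd_mem _ hσi hσj L
  have hws : ∀ l ∈ altWord i j L, l < D.rank := by
    have : ∀ (n i j : ℕ), i < D.rank → j < D.rank → ∀ l ∈ altWord i j n, l < D.rank := by
      intro n
      induction n with
      | zero => intro i j _ _ l hl; simp [altWord] at hl
      | succ n ih =>
        intro i j hi hj l hl
        simp only [altWord, List.mem_cons] at hl
        rcases hl with rfl | hl
        · exact hi
        · exact ih j i hj hi l hl
    exact this L i j hi hj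
  have hpk := tf.pos_lt _ (tf.simple_pos k hkr)
  have hpj := tf.pos_lt _ (tf.simple_pos j hj)
  obtain ⟨ρ, c, h1, h2⟩ := hmono2 a haM
  obtain ⟨hρk, hck, hρn, hcn⟩ := h1 _ hpk
  -- identify `ρ p_k = p_j` through `π`
  have hρ : ρ (D.simple k) = D.simple j := by
    obtain ⟨_, c', hc', hcu'⟩ := π_sigmaWord M hG1 tf (altWord i j L) hws _ hpk
    rw [hdi, ← altProd_sigma, ← ha] at hcu'
    have e1 := π_conj M hpk hρk (h2 _ hpk 1)
    rw [hcu' 1] at e1
    have e2 := cancel_right_unit _ e1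
    have hne : c' * 1 ≠ 0 := by rw [mul_one]; exact hc'
    exact hroot _ _ hpj hρk _ _ hne e2
  refine hconj a k j hkr hj (c (D.simple k)) hck (fun u => ?_) (fun u => ?_)
  · rw [h2 _ hpk u, hρ]
  · rw [h2 _ (tf.neg_lt _ hpk) u, hρn, hcn, hρ]

end Cfsg.Agent.Lib.Helper31.St
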