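/-
helper31: project STEINBERG (helper35), module P2-[BRAID]: `(σ_i σ_j) ^ m_ij ∈ H̄`.
-/
import Cfsg.Agent.Lib.Helper31.StBraidCore
import Cfsg.Agent.Lib.Helper18.Order1

set_option autoImplicit false

namespace Cfsg.Agent.Lib.Helper31.St

open Cfsg.Lie Cfsg.Agent.Lib.Helper35.St

universe u v

variable {K : Type u} [Field K] {Γ : Type v} [Group Γ]

theorem mem_of_mem_coxList (p : ChevalleyDatum × (Σ n : ℕ, CoxeterMatrix (Fin n))) (hp : p ∈ coxList) :
    p.1 ∈ [chevG2, chevB2, chevD4, chevF4, chevE6, chevE7, chevE8] := by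
  unfold coxList at hp
  simp only [List.mem_cons, List.mem_nil_iff, or_false] at hp
  rcases hp with rfl | rfl | rfl | rfl | rfl | rfl | rfl <;> simp

theorem braid (p : ChevalleyDatum × (Σ n : ℕ, CoxeterMatrix (Fin n))) (hp : p ∈ coxList) (hdi : Dihedral p)
    (M : Model p.1 K Γ) (tf : TF p.1) (hmono2 : ∀ g ∈ M.Mbar, M.IsMono2 g) (hHN : M.HNorm)
    (hsq : ∀ i, i < p.1.rank → M.sigma i * M.sigma i ∈ M.Hbar)
    (hconj : ∀ (ν : Γ) (j k : ℕ), j < p.1.rank → k < p.1.rank → ∀ c : K, c ≠ 0 →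
      (∀ u : K, ν * M.X (p.1.simple j) u * ν⁻¹ = M.X (p.1.simple k) (c * u)) →
      (∀ u : K, ν * M.X (p.1.neg (p.1.simple j)) u * ν⁻¹ = M.X (p.1.neg (p.1.simple k)) (c⁻¹ * u)) →
      ν * M.sigma j * ν⁻¹ * (M.sigma k)⁻¹ ∈ M.Hbar) (i j : Fin p.2.1) :
    (M.sigma i.val * M.sigma j.val) ^ (p.2.2.M i j) ∈ M.Hbar := by
  have hD := mem_of_mem_coxList p hp
  obtain ⟨C⟩ := Cfsg.Agent.Lib.Helper18.nonempty_chevData.{u} p.1 hD
  have hi : i.val < p.1.rank := hdi.1 ▸ i.2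
  have hj : j.val < p.1.rank := hdi.1 ▸ j.2
  by_cases hij : i = j
  · subst hij
    rw [p.2.2.diagonal, pow_one]
    exact hsq _ hi
  · have h1 := p.2.2.off_diagonal i j hij
    rcases Nat.eq_zero_or_pos (p.2.2.M i j) with h0 | hpos
    · rw [h0, pow_zero]
      exact one_mem _
    · have hL : p.2.2.M i j = (p.2.2.M i j - 1) + 1 := by omega
      rw [hL]
      refine braid_core M (fun a b ha hb t t' ht h => ?_) (fun i hi s hs => ?_) tf hmono2 hHN hsq hconj
        i.val j.val hi hj _ (hdi.2 i j hij)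
      · refine Cfsg.Agent.Lib.Helper18.xG_inj_root hD a b ha hb t t' ht ?_
        apply Units.ext
        exact h
      · refine ⟨(C.eta i s : K), C.eta_ne_zero i s, fun u => ?_⟩
        rw [C.w_eq_reflectRoot i s hi hs]
        exact C.n_mul_x i s hi hs u

end Cfsg.Agent.Lib.Helper31.St
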