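/-
helper31: project STEINBERG (helper35), module P2-[DIHEDRAL]: the dihedral table fact for the seven data of S1039.
-/
import Cfsg.Agent.Lib.Helper35.StDefs2

set_option autoImplicit false

namespace Cfsg.Agent.Lib.Helper31.St

open Cfsg.Lie Cfsg.Agent.Lib.Helper35.St

theorem dihedral_G2 : Dihedral (chevG2, ⟨2, CoxeterMatrix.G₂⟩) := by
  refine ⟨by decide +kernel, ?_⟩
  decide +kernel

theorem dihedral_B2 : Dihedral (chevB2, ⟨2, CoxeterMatrix.B 2⟩) := by
  refine ⟨by decide +kernel, ?_⟩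
  decide +kernel

theorem dihedral_D4 : Dihedral (chevD4, ⟨4, coxeterD4⟩) := by
  refine ⟨by decide +kernel, ?_⟩
  decide +kernel

theorem dihedral_F4 : Dihedral (chevF4, ⟨4, CoxeterMatrix.F₄⟩) := by
  refine ⟨by decide +kernel, ?_⟩
  decide +kernel

theorem dihedral_E6 : Dihedral (chevE6, ⟨6, CoxeterMatrix.E₆⟩) := by
  refine ⟨by decide +kernel, ?_⟩
  decide +kernel

theorem dihedral_E7 : Dihedral (chevE7, ⟨7, CoxeterMatrix.E₇⟩) := by
  refine ⟨by decide +kernel, ?_⟩
  decide +kernel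

theorem dihedral_E8 : Dihedral (chevE8, ⟨8, CoxeterMatrix.E₈⟩) := by
  refine ⟨by decide +kernel, ?_⟩
  decide +kernel

theorem dihedral_of_mem (p : ChevalleyDatum × (Σ n : ℕ, CoxeterMatrix (Fin n))) (hp : p ∈ coxList) :
    Dihedral p := by
  unfold coxList at hp
  simp only [List.mem_cons, List.mem_nil_iff, or_false] at hp
  rcases hp with rfl | rfl | rfl | rfl | rfl | rfl | rfl
  · exact dihedral_G2
  · exact dihedral_B2
  · exact dihedral_D4
  · exact dihedral_F4
  · exact dihedral_E6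
  · exact dihedral_E7
  · exact dihedral_E8

end Cfsg.Agent.Lib.Helper31.St
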