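/-
helper31: project STEINBERG (helper35), module P2-[HACT], abstract core: `h̄_p(t)` acts on `X_s` through `t ^ A_{p,s}`.
The matrix-side inputs (S1023 + S1024, S1032, `xG_inj_root`) are hypotheses here.
-/
import Cfsg.Agent.Lib.Helper31.StMono2Core

set_option autoImplicit false

namespace Cfsg.Agent.Lib.Helper31.St

open Cfsg.Lie Cfsg.Agent.Lib.Helper35.St

universe u v

variable {D : ChevalleyDatum} {K : Type u} [Field K] {Γ : Type v} [Group Γ] (M : Model D K Γ)

theorem hMat_eq (r : ℕ) (t : K) : D.hMat K r t = D.nMat K r t * D.nMat K r (-1) := by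
  unfold ChevalleyDatum.hMat ChevalleyDatum.hWord ChevalleyDatum.nMat ChevalleyDatum.wordMat
  rw [List.map_append, List.prod_append]

/-- The matrix of `π (h̄_r(t))` is `h_r(t)`. -/
theorem π_hbar {r : ℕ} (hr : r < D.nroots) (hn : D.neg r < D.nroots) (t : K) :
    ((M.π (M.hbar r t) : GL D.Idx K) : Matrix D.Idx D.Idx K) = D.hMat K r t := by
  unfold Model.hbar
  rw [map_mul, Units.val_mul, π_nbar M hr hn, π_nbar M hr hn, hMat_eq]

theorem hbar_mem_Mbar {i : ℕ} (hi : i < D.rank) {t : K} (ht : t ≠ 0) : M.hbar (D.simple i) t ∈ M.Mbar := by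
  unfold Model.hbar
  exact mul_mem (Subgroup.subset_closure ⟨i, t, hi, ht, rfl⟩)
    (Subgroup.subset_closure ⟨i, -1, hi, neg_ne_zero.mpr one_ne_zero, rfl⟩)

theorem hAct_core (hinj : ∀ r, r < D.nroots → ∀ a b : K, D.x K r a = D.x K r b → a = b)
    (h1032 : ∀ i, i < D.rank → ∀ s, s < D.nroots → ∀ c : K, c ≠ 0 → ∀ t : K,
      D.hMat K (D.simple i) c * D.x K s t = D.x K s (c ^ (D.cartan i s) * t) * D.hMat K (D.simple i) c)
    (hroot : ∀ a b, a < D.nroots → b < D.nroots → ∀ t t' : K, t ≠ 0 → D.x K a t = D.x K b t' → b = a)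
    (tf : TF D) (hmono : ∀ g ∈ M.Mbar, M.IsMono g) : M.HAct := by
  intro j hj t ht s hs u
  have hpl := tf.pos_lt _ (tf.simple_pos j hj)
  have hnl := tf.neg_lt _ hpl
  obtain ⟨ρ, c, h1, h2⟩ := hmono _ (hbar_mem_Mbar M hj ht)
  have hρs := (h1 s hs).1
  -- matrix identity
  have key : ∀ u : K, D.x K (ρ s) (c s * u) = D.x K s (t ^ (D.cartan j s) * u) := by
    intro u
    have e1 := π_conj M hs hρs (h2 s hs u)
    rw [π_hbar M hpl hnl, h1032 j hj s hs t ht u] at e1
    have e2 : D.x K s (t ^ D.cartan j s * u) * ((M.π (M.hbar (D.simple j) t) : GL D.Idx K) : Matrix D.Idx D.Idx K)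
        = D.x K (ρ s) (c s * u) * ((M.π (M.hbar (D.simple j) t) : GL D.Idx K) : Matrix D.Idx D.Idx K) := by
      rw [π_hbar M hpl hnl]; exact e1
    exact (cancel_right_unit _ e2).symm
  have hne : t ^ (D.cartan j s) * 1 ≠ 0 := by
    rw [mul_one]; exact zpow_ne_zero _ ht
  have hρ : ρ s = s := hroot s (ρ s) hs hρs _ _ hne (key 1).symm
  have hcs : c s * u = t ^ (D.cartan j s) * u := by
    have := key u
    rw [hρ] at this
    exact hinj s hs _ _ this
  rw [h2 s hs u, hρ, hcs]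

end Cfsg.Agent.Lib.Helper31.St
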