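/-
helper31: project STEINBERG (helper35), module P2-[MONO2]: the elements of `M̄` have the refined monomial property.
-/
import Cfsg.Agent.Lib.Helper31.StMono2Core
import Cfsg.Agent.S1023
import Cfsg.Agent.S1024

set_option autoImplicit false

namespace Cfsg.Agent.Lib.Helper31.St

open Cfsg.Lie Cfsg.Agent.Lib.Helper35.St

universe u v

variable {D : ChevalleyDatum} {K : Type u} [Field K] {Γ : Type v} [Group Γ] (M : Model D K Γ)

/-- `u ↦ x_r(u)` is injective (S1023 + S1024). -/
theorem x_injective (hD : D ∈ [chevG2, chevB2, chevD4, chevF4, chevE6, chevE7, chevE8]) (r : ℕ) (hr : r < D.nroots)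
    (a b : K) (h : D.x K r a = D.x K r b) : a = b := by
  have h1 : D.x K r (a - b) * D.x K r b = 1 * D.x K r b := by
    rw [Cfsg.Agent.S1023.result D hD r hr, sub_add_cancel, one_mul, h]
  have h2 : D.x K r b * D.x K r (-b) = 1 := by
    rw [Cfsg.Agent.S1023.result D hD r hr, add_neg_cancel]
    exact (Cfsg.Agent.S1024.result D hD r hr 0).mpr rfl
  have h3 : D.x K r (a - b) = 1 := by
    have := congrArg (fun z => z * D.x K r (-b)) h1
    simpa only [mul_assoc, h2, mul_one] using this
  exact sub_eq_zero.mp ((Cfsg.Agent.S1024.result D hD r hr _).mp h3)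

theorem isMono2_of_mem_Mbar (hD : D ∈ [chevG2, chevB2, chevD4, chevF4, chevE6, chevE7, chevE8]) (tf : TF D)
    (hA : M.Act) (hG2 : GAct2 D K) (g : Γ) (hg : g ∈ M.Mbar) : M.IsMono2 g :=
  isMono2_of_mem_Mbar_core M (x_injective hD) tf hA hG2 g hg

end Cfsg.Agent.Lib.Helper31.St
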