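/-
helper31: project STEINBERG (helper35), module P2-[HACT]: `h̄_p(t)` acts on `X_s` through the character `t ^ A_{p,s}`.
-/
import Cfsg.Agent.Lib.Helper31.StHActCore
import Cfsg.Agent.Lib.Helper31.StMono2
import Cfsg.Agent.S1032
import Cfsg.Agent.Lib.Helper18.Order1

set_option autoImplicit false

namespace Cfsg.Agent.Lib.Helper31.St

open Cfsg.Lie Cfsg.Agent.Lib.Helper35.St

universe u v

variable {D : ChevalleyDatum} {K : Type u} [Field K] {Γ : Type v} [Group Γ] (M : Model D K Γ)

theorem hAct (hD : D ∈ [chevG2, chevB2, chevD4, chevF4, chevE6, chevE7, chevE8]) (tf : TF D)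
    (hmono : ∀ g ∈ M.Mbar, M.IsMono g) : M.HAct := by
  refine hAct_core M (x_injective hD) (fun i hi s hs c hc t => Cfsg.Agent.S1032.result D hD i s hi hs c hc t)
    (fun a b ha hb t t' ht h => ?_) tf hmono
  refine Cfsg.Agent.Lib.Helper18.xG_inj_root hD a b ha hb t t' ht ?_
  apply Units.ext
  exact h

end Cfsg.Agent.Lib.Helper31.St
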