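/-
helper31 shared library, part 2: induction along subnormal series in ambient form, a generalized
`A × B` lemma, `Ω₁(Z(O₂(Y)))` and the internal module `V(Y) = [Ω₁(Z(O₂(Y))), Y]` of
`Def_QuasithinSetup`, `O^2` of perfect groups.
All declarations live in `Cfsg.Agent.Lib.Helper31`.
-/
import Mathlib
import Cfsg.Prelude.Def_QuasithinSetup
import Cfsg.Agent.Lib.Helper31.CharPLocals

set_option autoImplicit false

namespace Cfsg.Agent.Lib.Helper31

open Cfsg
open Cfsg.Agent.Lib.Helper49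
open scoped commutatorElement

variable {G : Type*} [Group G]

/-! ### Induction along a subnormal series -/

/-- Ambient induction along a subnormal series (given inside the subtype `↥H`). -/
theorem subnormal_induction {H : Subgroup G} (P : Subgroup G → Prop) (htop : P H)
    (hstep : ∀ A B : Subgroup G, A ≤ B → B ≤ H → B ≤ Subgroup.normalizer (A : Set G) → P B → P A)
    {K' : Subgroup H} (h : K'.IsSubnormal) : P (K'.map H.subtype) := by
  induction h with
  | top =>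
    rw [← MonoidHom.range_eq_map, Subgroup.range_subtype]
    exact htop
  | step A' B' hle hB hN ih =>
    apply hstep _ _ (Subgroup.map_mono hle) (Subgroup.map_subtype_le _) _ ih
    have h1 : B' ≤ Subgroup.normalizer (A' : Set H) :=
      (Subgroup.normal_subgroupOf_iff_le_normalizer hle).mp hN
    exact (Subgroup.map_mono h1).trans (Subgroup.le_normalizer_map _)

/-- Version for `K ≤ H` with `K.subgroupOf H` subnormal in `↥H`. -/
theorem subnormal_induction' {H K : Subgroup G} (hKH : K ≤ H) (P : Subgroup G → Prop) (htop : P H)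
    (hstep : ∀ A B : Subgroup G, A ≤ B → B ≤ H → B ≤ Subgroup.normalizer (A : Set G) → P B → P A)
    (h : (K.subgroupOf H).IsSubnormal) : P K := by
  have := subnormal_induction P htop hstep h
  rwa [Subgroup.map_subgroupOf_eq_of_le hKH] at this

/-- Subnormal subgroups of a group of characteristic `p` have characteristic `p`. -/
theorem charP_of_isSubnormal {p : ℕ} [Fact p.Prime] [Finite G] {H K : Subgroup G} (hKH : K ≤ H)
    (hH : CharP p H) (h : (K.subgroupOf H).IsSubnormal) : CharP p K :=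
  subnormal_induction' hKH (fun B => CharP p B) hH
    (fun _ _ hAB _ hn hB => charP_of_normal_of_charP hAB hn hB) h

/-- If `M` has characteristic `p` and `O_p(M) ≤ H ≤ M` then `H` has characteristic `p`. -/
theorem charP_of_pCoreIn_le {p : ℕ} [Fact p.Prime] [Finite G] {M H : Subgroup G} (hM : CharP p M)
    (hHM : H ≤ M) (hQ : pCoreIn p M ≤ H) : CharP p H := by
  rw [charP_iff_forall]
  intro x hxH hxc hcop
  have hle : pCoreIn p M ≤ pCoreIn p H := (le_inf le_rfl hQ).trans (pCoreIn_inf_le hHM)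
  exact charP_iff_forall.mp hM x (hHM hxH) (Subgroup.centralizer_le hle hxc) hcop

/-- A `p`-subgroup normalized by a Sylow `p`-subgroup lies in it. -/
theorem le_sylow_of_le_normalizer {p : ℕ} [Fact p.Prime] (T : Sylow p G) {P : Subgroup G}
    (hP : IsPGroup p P) (hn : (T : Subgroup G) ≤ Subgroup.normalizer (P : Set G)) :
    P ≤ (T : Subgroup G) := by
  have hsup : IsPGroup p ((T : Subgroup G) ⊔ P : Subgroup G) :=
    IsPGroup.to_sup_of_normal_right' T.2 hP hn
  have hmax := T.is_maximal' hsup le_sup_left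
  rw [← hmax]
  exact le_sup_right

/-- `O_p(H) ≤ T` for a Sylow `p`-subgroup `T` of `G` contained in `H`. -/
theorem pCoreIn_le_sylow {p : ℕ} [Fact p.Prime] [Finite G] (T : Sylow p G) {H : Subgroup G}
    (hTH : (T : Subgroup G) ≤ H) : pCoreIn p H ≤ (T : Subgroup G) :=
  le_sylow_of_le_normalizer T (isPGroup_pCoreIn p H) (hTH.trans (le_normalizer_pCoreIn p H))

/-! ### A generalized `A × B` lemma -/

/-- pure group identity used in the generalized `A × B` lemma -/
theorem commute_aux' {x r q : G} (hc1 : Commute (q * x * q⁻¹ * x⁻¹) (x * r⁻¹ * x⁻¹))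
    (hc2 : Commute (q * x * q⁻¹ * x⁻¹) (r * q * r⁻¹ * q⁻¹))
    (h2 : Commute x (r * q * r⁻¹ * q⁻¹)) : Commute (x * r⁻¹ * x⁻¹ * r) q := by
  set c := q * x * q⁻¹ * x⁻¹ with hc
  set w := r * q * r⁻¹ * q⁻¹ with hw
  -- q z' q⁻¹ = c (x r⁻¹ x⁻¹) w c⁻¹ w⁻¹ r
  have e1 : q * (x * r⁻¹ * x⁻¹ * r) * q⁻¹ = c * (x * r⁻¹ * x⁻¹) * (x * w * x⁻¹) * c⁻¹ * w⁻¹ * r := by
    rw [hc, hw]; group
  have e2 : x * w * x⁻¹ = w := by
    rw [h2.eq]; group
  have e3 : c * (x * r⁻¹ * x⁻¹) * w * c⁻¹ = (x * r⁻¹ * x⁻¹) * w := by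
    have : Commute c ((x * r⁻¹ * x⁻¹) * w) := hc1.mul_right hc2
    calc c * (x * r⁻¹ * x⁻¹) * w * c⁻¹ = c * ((x * r⁻¹ * x⁻¹) * w) * c⁻¹ := by group
      _ = ((x * r⁻¹ * x⁻¹) * w) * c * c⁻¹ := by rw [this.eq]
      _ = (x * r⁻¹ * x⁻¹) * w := by group
  have e4 : q * (x * r⁻¹ * x⁻¹ * r) * q⁻¹ = x * r⁻¹ * x⁻¹ * r := by
    rw [e1, e2]
    calc c * (x * r⁻¹ * x⁻¹) * w * c⁻¹ * w⁻¹ * r = (c * (x * r⁻¹ * x⁻¹) * w * c⁻¹) * w⁻¹ * r := by
          group
      _ = x * r⁻¹ * x⁻¹ * r := by rw [e3]; group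
  show (x * r⁻¹ * x⁻¹ * r) * q = q * (x * r⁻¹ * x⁻¹ * r)
  calc (x * r⁻¹ * x⁻¹ * r) * q = (q * (x * r⁻¹ * x⁻¹ * r) * q⁻¹) * q := by rw [e4]
    _ = q * (x * r⁻¹ * x⁻¹ * r) := by group

/-- Generalized `A × B` lemma: `T` a finite `p`-subgroup containing `R` and `Q`, `Q` normalizing `R`;
`x` a `p'`-element normalizing `R`, with `[Q, x]` centralizing `R` and `x` centralizing `C_R(Q)`.
Then `x` centralizes `R`. -/
theorem commute_of_AxB' {p : ℕ} [Fact p.Prime] [Finite G] {T R Q : Subgroup G}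
    (hT : IsPGroup p T) (hRT : R ≤ T) (hQT : Q ≤ T)
    (hQR : Q ≤ Subgroup.normalizer (R : Set G)) {x : G} (hxR : x ∈ Subgroup.normalizer (R : Set G))
    (hx : (orderOf x).Coprime p)
    (hxQ : ∀ q ∈ Q, ∀ r ∈ R, Commute (q * x * q⁻¹ * x⁻¹) r)
    (hC : ∀ r ∈ R, (∀ q ∈ Q, Commute r q) → Commute x r) :
    ∀ r ∈ R, Commute x r := by
  have : Group.IsNilpotent T := hT.isNilpotent
  obtain ⟨n, hn⟩ := Group.IsNilpotent.nilpotent' (G := T)
  have key : ∀ i : ℕ, ∀ r : T, (r : G) ∈ R → r ∈ Subgroup.upperCentralSeries T i →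
      Commute x (r : G) := by
    intro i
    induction i with
    | zero =>
      intro r _ hr
      rw [Subgroup.upperCentralSeries_zero, Subgroup.mem_bot] at hr
      rw [hr]; simp
    | succ i ih =>
      intro r hrR hr
      rw [Subgroup.mem_upperCentralSeries_succ_iff] at hr
      have hwR : ∀ q ∈ Q, (r : G) * q * (r : G)⁻¹ * q⁻¹ ∈ R := by
        intro q hq
        have : q * (r : G)⁻¹ * q⁻¹ ∈ R :=
          (Subgroup.mem_normalizer_iff.mp (hQR hq) _).mp (R.inv_mem hrR)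
        have h4 : (r : G) * q * (r : G)⁻¹ * q⁻¹ = (r : G) * (q * (r : G)⁻¹ * q⁻¹) := by group
        rw [h4]
        exact R.mul_mem hrR this
      have hcq : ∀ q ∈ Q, Commute x ((r : G) * q * (r : G)⁻¹ * q⁻¹) := by
        intro q hq
        have h1 := hr ⟨q, hQT hq⟩
        rw [commutatorElement_def] at h1
        have h2 : ((r * (⟨q, hQT hq⟩ : T) * r⁻¹ * (⟨q, hQT hq⟩ : T)⁻¹ : T) : G)
            = (r : G) * q * (r : G)⁻¹ * q⁻¹ := by
          simp
        have := ih _ (by rw [h2]; exact hwR q hq) h1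
        rwa [h2] at this
      have hxr : x * (r : G)⁻¹ * x⁻¹ ∈ R :=
        (Subgroup.mem_normalizer_iff.mp hxR _).mp (R.inv_mem hrR)
      have hz'R : x * (r : G)⁻¹ * x⁻¹ * (r : G) ∈ R := R.mul_mem hxr hrR
      have hz'Q : ∀ q ∈ Q, Commute (x * (r : G)⁻¹ * x⁻¹ * (r : G)) q := fun q hq =>
        commute_aux' (hxQ q hq _ hxr) (hxQ q hq _ (hwR q hq)) (hcq q hq)
      have hxz' : Commute x (x * (r : G)⁻¹ * x⁻¹ * (r : G)) := hC _ hz'R hz'Q
      obtain ⟨k, hk⟩ := hT ⟨_, hRT hz'R⟩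
      have hk' : (x * (r : G)⁻¹ * x⁻¹ * (r : G)) ^ (p ^ k) = 1 := by
        simpa using congrArg Subtype.val hk
      have hfin : Commute x (r : G)⁻¹ := by
        apply commute_of_coprime_of_commute_comm (p := p) (k := k) hx
        · simpa using hxz'
        · simpa using hk'
      simpa using hfin.inv_right
  intro r hr
  exact key n ⟨r, hRT hr⟩ hr (by rw [hn]; trivial)


/-! ### `Ω₁(Z(O₂(Y)))` and the module `V(Y)` -/

/-- `Ω₁(Z(O₂(Y)))` as a subgroup of `G`. -/
def omegaZ (Y : Subgroup G) : Subgroup G :=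
  omegaOne 2 (pCoreTwoOf Y ⊓ Subgroup.centralizer (pCoreTwoOf Y : Set G))

theorem moduleV_eq (Y : Subgroup G) : moduleV Y = ⁅omegaZ Y, Y⁆ := rfl

theorem pCoreTwoOf_eq (Y : Subgroup G) : pCoreTwoOf Y = pCoreIn 2 Y := rfl

theorem mem_omegaZ_iff {Y : Subgroup G} {r : G} :
    r ∈ omegaZ Y ↔ r ∈ pCoreIn 2 Y ∧ r ∈ Subgroup.centralizer ((pCoreIn 2 Y : Subgroup G) : Set G)
      ∧ r ^ 2 = 1 := by
  constructor
  · intro hr
    unfold omegaZ omegaOne at hr
    rw [pCoreTwoOf_eq] at hr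
    induction hr using Subgroup.closure_induction with
    | mem x hx => exact ⟨hx.1.1, hx.1.2, hx.2⟩
    | one => exact ⟨Subgroup.one_mem _, Subgroup.one_mem _, one_pow 2⟩
    | mul x y _ _ hx hy =>
      refine ⟨Subgroup.mul_mem _ hx.1 hy.1, Subgroup.mul_mem _ hx.2.1 hy.2.1, ?_⟩
      have hc : Commute x y := (Subgroup.mem_centralizer_iff.mp hy.2.1 x hx.1)
      rw [hc.mul_pow, hx.2.2, hy.2.2, one_mul]
    | inv x _ hx =>
      refine ⟨Subgroup.inv_mem _ hx.1, Subgroup.inv_mem _ hx.2.1, ?_⟩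
      rw [inv_pow, hx.2.2, inv_one]
  · rintro ⟨h1, h2, h3⟩
    exact Subgroup.subset_closure ⟨⟨h1, h2⟩, h3⟩

theorem omegaZ_le_pCoreIn (Y : Subgroup G) : omegaZ Y ≤ pCoreIn 2 Y :=
  fun _ h => (mem_omegaZ_iff.mp h).1

/-- `V(Y) = 1` iff `Y` centralizes `Ω₁(Z(O₂(Y)))`. -/
theorem moduleV_eq_bot_iff (Y : Subgroup G) :
    moduleV Y = ⊥ ↔ Y ≤ Subgroup.centralizer ((omegaZ Y : Subgroup G) : Set G) := by
  rw [moduleV_eq, Subgroup.commutator_eq_bot_iff_le_centralizer, Subgroup.le_centralizer_iff]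

/-- The normalizer of `Y` normalizes `Ω₁(Z(O₂(Y)))`. -/
theorem normalizer_le_normalizer_omegaZ [Finite G] (Y : Subgroup G) :
    Subgroup.normalizer (Y : Set G) ≤ Subgroup.normalizer ((omegaZ Y : Subgroup G) : Set G) := by
  have : Fact (Nat.Prime 2) := ⟨Nat.prime_two⟩
  rw [Subgroup.le_normalizer_iff]
  intro g hg z hz
  rw [mem_omegaZ_iff] at hz ⊢
  have h1 : g ∈ Subgroup.normalizer ((pCoreIn 2 Y : Subgroup G) : Set G) :=
    le_normalizer_pCoreIn_of_le_normalizer (p := 2) (C := Y) le_rfl hg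
  have h2 := normalizer_le_normalizer_centralizer _ h1
  refine ⟨(Subgroup.mem_normalizer_iff.mp h1 z).mp hz.1,
    (Subgroup.mem_normalizer_iff.mp h2 z).mp hz.2.1, ?_⟩
  rw [conj_pow, hz.2.2]; simp

/-- An element of odd order centralizing its commutator with an involution-like element. -/
theorem commute_of_odd_of_commute_comm {x v : G} (hx : Odd (orderOf x))
    (hc : Commute x (x * v * x⁻¹ * v⁻¹)) (h2 : (x * v * x⁻¹ * v⁻¹) ^ 2 = 1) : Commute x v := by
  have hcop : (orderOf x).Coprime 2 := Nat.Coprime.symm (Nat.coprime_two_left.mpr hx)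
  exact commute_of_coprime_of_commute_comm (p := 2) (k := 1) hcop hc (by simpa using h2)

/-- A subgroup generated by its elements of odd order lies in a centralizer as soon as its elements
of odd order do. -/
theorem le_centralizer_of_oddGenerated {X : Subgroup G} (hX : oddGenerated X = X) (S : Subgroup G)
    (h : ∀ x ∈ X, Odd (orderOf x) → x ∈ Subgroup.centralizer (S : Set G)) :
    X ≤ Subgroup.centralizer (S : Set G) := by
  rw [← hX]
  unfold oddGenerated
  rw [Subgroup.closure_le]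
  intro x hx
  exact h x hx.1 hx.2

/-- **Normal step.** For `X = O^2(X) ≤ Y ⊴ Y'`: `X` centralizes `Ω₁(Z(O₂(Y)))` iff it centralizes
`Ω₁(Z(O₂(Y')))`. -/
theorem le_centralizer_omegaZ_iff_of_normal [Finite G] {X Y Y' : Subgroup G}
    (hX : oddGenerated X = X) (hXY : X ≤ Y) (hYY' : Y ≤ Y')
    (hn : Y' ≤ Subgroup.normalizer (Y : Set G)) :
    X ≤ Subgroup.centralizer ((omegaZ Y : Subgroup G) : Set G) ↔
      X ≤ Subgroup.centralizer ((omegaZ Y' : Subgroup G) : Set G) := by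
  have : Fact (Nat.Prime 2) := ⟨Nat.prime_two⟩
  have hQle : pCoreIn 2 Y ≤ pCoreIn 2 Y' :=
    le_pCoreIn_of_normalized ((pCoreIn_le 2 Y).trans hYY')
      (le_normalizer_pCoreIn_of_le_normalizer hn) (isPGroup_pCoreIn 2 Y)
  have hQinf : pCoreIn 2 Y' ⊓ Y ≤ pCoreIn 2 Y := pCoreIn_inf_le hYY'
  constructor
  · -- `X ≤ C(Z_Y) → X ≤ C(Z_{Y'})`
    intro h
    apply le_centralizer_of_oddGenerated hX
    intro x hxX hodd
    rw [Subgroup.mem_centralizer_iff]
    intro v hv
    have hxY : x ∈ Y := hXY hxX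
    have hxY' : x ∈ Y' := hYY' hxY
    have hvm := mem_omegaZ_iff.mp hv
    have hvY' : v ∈ Y' := pCoreIn_le 2 Y' hvm.1
    -- `w = [x, v]`
    have hxn := normalizer_le_normalizer_omegaZ Y' (Subgroup.le_normalizer hxY')
    have hwV : x * v * x⁻¹ * v⁻¹ ∈ omegaZ Y' :=
      (omegaZ Y').mul_mem ((Subgroup.mem_normalizer_iff.mp hxn v).mp hv) ((omegaZ Y').inv_mem hv)
    have hwY : x * v * x⁻¹ * v⁻¹ ∈ Y := by
      have : v * x⁻¹ * v⁻¹ ∈ Y := (Subgroup.mem_normalizer_iff.mp (hn hvY') _).mp (Y.inv_mem hxY)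
      have e : x * v * x⁻¹ * v⁻¹ = x * (v * x⁻¹ * v⁻¹) := by group
      rw [e]
      exact Y.mul_mem hxY this
    have hwm := mem_omegaZ_iff.mp hwV
    have hwZ : x * v * x⁻¹ * v⁻¹ ∈ omegaZ Y := by
      rw [mem_omegaZ_iff]
      exact ⟨hQinf ⟨hwm.1, hwY⟩, Subgroup.centralizer_le hQle hwm.2.1, hwm.2.2⟩
    have hc : Commute x (x * v * x⁻¹ * v⁻¹) :=
      ((Subgroup.mem_centralizer_iff.mp (h hxX)) _ hwZ).symm
    exact (commute_of_odd_of_commute_comm hodd hc hwm.2.2).eq.symm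
  · -- `X ≤ C(Z_{Y'}) → X ≤ C(Z_Y)`: generalized `A × B`
    intro h
    apply le_centralizer_of_oddGenerated hX
    intro x hxX hodd
    have hxY : x ∈ Y := hXY hxX
    have hxY' : x ∈ Y' := hYY' hxY
    have hcop : (orderOf x).Coprime 2 := Nat.Coprime.symm (Nat.coprime_two_left.mpr hodd)
    have hnA : Y' ≤ Subgroup.normalizer ((omegaZ Y : Subgroup G) : Set G) :=
      hn.trans (normalizer_le_normalizer_omegaZ Y)
    have key := commute_of_AxB' (p := 2) (T := pCoreIn 2 Y') (R := omegaZ Y) (Q := pCoreIn 2 Y')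
      (isPGroup_pCoreIn 2 Y') ((omegaZ_le_pCoreIn Y).trans hQle) le_rfl
      ((pCoreIn_le 2 Y').trans hnA) (hnA hxY') hcop
      (fun q hq r hr => by
        have hqY' : q ∈ Y' := pCoreIn_le 2 Y' hq
        have h1 : q * x * q⁻¹ * x⁻¹ ∈ Y := by
          have : q * x * q⁻¹ ∈ Y := (Subgroup.mem_normalizer_iff.mp (hn hqY') _).mp hxY
          exact Y.mul_mem this (Y.inv_mem hxY)
        have h2 : q * x * q⁻¹ * x⁻¹ ∈ pCoreIn 2 Y' := by
          have hxn := le_normalizer_pCoreIn 2 Y' hxY'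
          have : x * q⁻¹ * x⁻¹ ∈ pCoreIn 2 Y' :=
            (Subgroup.mem_normalizer_iff.mp hxn _).mp ((pCoreIn 2 Y').inv_mem hq)
          have e : q * x * q⁻¹ * x⁻¹ = q * (x * q⁻¹ * x⁻¹) := by group
          rw [e]
          exact (pCoreIn 2 Y').mul_mem hq this
        have h3 : q * x * q⁻¹ * x⁻¹ ∈ pCoreIn 2 Y := hQinf ⟨h2, h1⟩
        exact ((Subgroup.mem_centralizer_iff.mp (mem_omegaZ_iff.mp hr).2.1) _ h3))
      (fun r hr hrq => by
        have hrm := mem_omegaZ_iff.mp hr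
        have hrZ : r ∈ omegaZ Y' := by
          rw [mem_omegaZ_iff]
          refine ⟨hQle hrm.1, ?_, hrm.2.2⟩
          rw [Subgroup.mem_centralizer_iff]
          intro q hq
          exact (hrq q hq).eq.symm
        exact ((Subgroup.mem_centralizer_iff.mp (h hxX)) r hrZ).symm)
    rw [Subgroup.mem_centralizer_iff]
    intro r hr
    exact (key r hr).eq.symm

/-- **Subnormal version.** For `X = O^2(X)` subnormal in `H`: `X` centralizes `Ω₁(Z(O₂(X)))` iff it
centralizes `Ω₁(Z(O₂(H)))`. -/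
theorem le_centralizer_omegaZ_iff_of_isSubnormal [Finite G] {X H : Subgroup G}
    (hX : oddGenerated X = X) (hXH : X ≤ H) (h : (X.subgroupOf H).IsSubnormal) :
    X ≤ Subgroup.centralizer ((omegaZ X : Subgroup G) : Set G) ↔
      X ≤ Subgroup.centralizer ((omegaZ H : Subgroup G) : Set G) := by
  have key := subnormal_induction' hXH
    (fun B => X ≤ B → (X ≤ Subgroup.centralizer ((omegaZ B : Subgroup G) : Set G) ↔
      X ≤ Subgroup.centralizer ((omegaZ H : Subgroup G) : Set G)))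
    (fun _ => Iff.rfl)
    (fun A B hAB _ hn hB hXA =>
      (le_centralizer_omegaZ_iff_of_normal hX hXA hAB hn).trans (hB (hXA.trans hAB))) h
  exact key le_rfl

/-- **Monotonicity.** If `H` has characteristic 2 and `O₂(H) ≤ H₁ ≤ H` then
`Ω₁(Z(O₂(H₁))) ≤ Ω₁(Z(O₂(H)))`. -/
theorem omegaZ_le_of_charP [Finite G] {H₁ H : Subgroup G} (hH : CharP 2 H) (hle : H₁ ≤ H)
    (hQ : pCoreIn 2 H ≤ H₁) : omegaZ H₁ ≤ omegaZ H := by
  have : Fact (Nat.Prime 2) := ⟨Nat.prime_two⟩
  have hQle : pCoreIn 2 H ≤ pCoreIn 2 H₁ := (le_inf le_rfl hQ).trans (pCoreIn_inf_le hle)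
  intro r hr
  rw [mem_omegaZ_iff] at hr ⊢
  have hrH : r ∈ H := hle (pCoreIn_le 2 H₁ hr.1)
  have hrc : r ∈ Subgroup.centralizer ((pCoreIn 2 H : Subgroup G) : Set G) :=
    Subgroup.centralizer_le hQle hr.2.1
  -- `C_H(O_2(H)) ≤ O_2(H)`
  have hmem : (⟨r, hrH⟩ : H) ∈ pCore 2 H := hH ((mem_centralizer_pCore_iff _).mpr hrc)
  exact ⟨(mem_pCoreIn_iff hrH).mpr hmem, hrc, hr.2.2⟩


/-! ### `O^2` of a perfect group -/

theorem oddGenerated_le (K : Subgroup G) : oddGenerated K ≤ K := by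
  unfold oddGenerated
  rw [Subgroup.closure_le]
  intro x hx
  exact hx.1

theorem le_normalizer_oddGenerated (K : Subgroup G) :
    K ≤ Subgroup.normalizer ((oddGenerated K : Subgroup G) : Set G) := by
  unfold oddGenerated
  rw [Subgroup.le_normalizer_closure_iff]
  intro h hh g hg
  apply Subgroup.subset_closure
  refine ⟨K.mul_mem (K.mul_mem hh hg.1) (K.inv_mem hh), ?_⟩
  have : orderOf (h * g * h⁻¹) = orderOf g := by
    have := MulEquiv.orderOf_eq (MulAut.conj h) g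
    simpa [MulAut.conj_apply] using this
  rw [this]
  exact hg.2

/-- Every element of a finite group has a `2`-power power of odd order. -/
theorem exists_pow_two_pow_odd [Finite G] (g : G) : ∃ k : ℕ, Odd (orderOf (g ^ (2 ^ k))) := by
  have hpos : orderOf g ≠ 0 := (orderOf_pos g).ne'
  obtain ⟨k, m, hm, hkm⟩ := Nat.exists_eq_pow_mul_and_not_dvd hpos 2 (by norm_num)
  refine ⟨k, ?_⟩
  have hord : orderOf (g ^ (2 ^ k)) = m := by
    rw [orderOf_pow' g (pow_ne_zero k (by norm_num)), hkm]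
    rw [Nat.gcd_eq_right (Dvd.intro _ rfl)]
    exact Nat.mul_div_cancel_left m (pow_pos (by norm_num) k)
  rw [hord]
  exact Nat.odd_iff.mpr (Nat.two_dvd_ne_zero.mp hm)

/-- A finite perfect subgroup is generated by its elements of odd order. -/
theorem oddGenerated_eq_of_perfect [Finite G] {K : Subgroup G} (hK : ⁅K, K⁆ = K) :
    oddGenerated K = K := by
  have : Fact (Nat.Prime 2) := ⟨Nat.prime_two⟩
  apply le_antisymm (oddGenerated_le K)
  have hperf : Group.IsPerfect K := Subgroup.isPerfect_iff.mpr hK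
  have hnorm : ((oddGenerated K).subgroupOf K).Normal :=
    (Subgroup.normal_subgroupOf_iff_le_normalizer (oddGenerated_le K)).mpr
      (le_normalizer_oddGenerated K)
  have hp : IsPGroup 2 (↥K ⧸ (oddGenerated K).subgroupOf K) := by
    intro q
    obtain ⟨g, rfl⟩ := QuotientGroup.mk_surjective q
    obtain ⟨k, hk⟩ := exists_pow_two_pow_odd (g : G)
    refine ⟨k, ?_⟩
    rw [← QuotientGroup.mk_pow, QuotientGroup.eq_one_iff, Subgroup.mem_subgroupOf]
    apply Subgroup.subset_closure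
    refine ⟨?_, ?_⟩
    · simpa using K.pow_mem g.2 (2 ^ k)
    · simpa using hk
  have hnil : Group.IsNilpotent (↥K ⧸ (oddGenerated K).subgroupOf K) := hp.isNilpotent
  have hsub : Subsingleton (↥K ⧸ (oddGenerated K).subgroupOf K) := by
    by_contra hcon
    rw [not_subsingleton_iff_nontrivial] at hcon
    exact Group.IsPerfect.not_isNilpotent (G := ↥K ⧸ (oddGenerated K).subgroupOf K) hnil
  have htop := QuotientGroup.subgroup_eq_top_of_subsingleton _ hsub
  exact Subgroup.subgroupOf_eq_top.mp htop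

end Cfsg.Agent.Lib.Helper31
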