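import Mathlib
import Cfsg.Prelude.Def_GeometricClasses
import Cfsg.Agent.Lib.Helper41.TW3.Group

/-!
# Project BHRSP, sub-sheet TW3 (helper41), leaf [R8-CARD] (helper31)

`|R0| = 2 * 4 ^ 3 = 128`: the map `(b, v) ↦ ± PE v` from `Bool × (Fin 3 → Fin 4)` onto `R0` is a bijection.
-/

set_option autoImplicit false

namespace Cfsg.Agent.Lib.Helper31.TW3

open Cfsg Cfsg.Geo Cfsg.Agent.Lib.Helper15.AschSlotNorm Cfsg.Agent.Lib.Helper15.AschUPure
open Cfsg.Agent.Lib.Helper41.TW3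
open scoped MatrixGroups Matrix

variable {F : Type*} [Field F]

/-- the sign attached to a boolean -/
def bsgn (b : Bool) : F := if b then 1 else -1

theorem bsgn_eq (b : Bool) : bsgn (F := F) b = 1 ∨ bsgn (F := F) b = -1 := by
  cases b <;> simp [bsgn]

theorem bsgn_ne_zero (b : Bool) : bsgn (F := F) b ≠ 0 := by
  cases b <;> simp [bsgn]

theorem bsgn_injective (h3 : (3 : F) = 0) : Function.Injective (bsgn (F := F)) := by
  intro b b' h
  cases b <;> cases b' <;> simp [bsgn] at h ⊢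
  · exact one_ne_neg_one h3 h.symm
  · exact one_ne_neg_one h3 h

theorem code_mem_R8set (b : Bool) (v : Fin 3 → Fin 4) :
    bsgn (F := F) b • (PE v : Matrix I8 I8 F) ∈ R8set :=
  (mem_R8set_iff _).mpr ⟨bsgn b, v, bsgn_eq b, rfl⟩

/-- the element of `R0` with code `(b, v)` -/
noncomputable def codeElt (h3 : (3 : F) = 0) (x : Bool × (Fin 3 → Fin 4)) : (R0 : Subgroup (GL I8 F)) :=
  ⟨(exists_unit_of_mem_R8set h3 (code_mem_R8set x.1 x.2)).choose, by
    rw [mem_R0_iff h3, (exists_unit_of_mem_R8set h3 (code_mem_R8set x.1 x.2)).choose_spec]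
    exact code_mem_R8set x.1 x.2⟩

theorem codeElt_val (h3 : (3 : F) = 0) (x : Bool × (Fin 3 → Fin 4)) :
    (((codeElt h3 x : (R0 : Subgroup (GL I8 F))) : GL I8 F) : Matrix I8 I8 F) = bsgn (F := F) x.1 • PE x.2 :=
  (exists_unit_of_mem_R8set h3 (code_mem_R8set x.1 x.2)).choose_spec

theorem codeElt_bijective (h3 : (3 : F) = 0) : Function.Bijective (codeElt (F := F) h3) := by
  constructor
  · rintro ⟨b, v⟩ ⟨b', v'⟩ h
    have h1 : bsgn (F := F) b • (PE v : Matrix I8 I8 F) = bsgn (F := F) b' • PE v' := by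
      rw [← codeElt_val h3 (b, v), ← codeElt_val h3 (b', v'), h]
    obtain ⟨hs, hv⟩ := code_unique h3 (bsgn_ne_zero b') h1
    rw [bsgn_injective h3 hs, hv]
  · intro g
    have hg : ((g : GL I8 F) : Matrix I8 I8 F) ∈ R8set := (mem_R0_iff h3 _).mp g.2
    rw [mem_R8set_iff] at hg
    obtain ⟨s, v, hs, hgv⟩ := hg
    have hb : ∃ b : Bool, bsgn (F := F) b = s := by
      rcases hs with h | h
      · exact ⟨true, by rw [h]; simp [bsgn]⟩
      · exact ⟨false, by rw [h]; simp [bsgn]⟩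
    obtain ⟨b, hb⟩ := hb
    refine ⟨(b, v), ?_⟩
    apply Subtype.ext
    apply Units.ext
    rw [codeElt_val, hgv, hb]

end Cfsg.Agent.Lib.Helper31.TW3

namespace Cfsg.Agent.Lib.Helper41.TW3

open Cfsg Cfsg.Geo Cfsg.Agent.Lib.Helper15.AschSlotNorm Cfsg.Agent.Lib.Helper15.AschUPure
open scoped MatrixGroups Matrix

variable {F : Type*} [Field F]

/-- **[R8-CARD]** -/
theorem card_R0 (h3 : (3 : F) = 0) : Nat.card (R0 : Subgroup (GL I8 F)) = 128 := by
  rw [← Nat.card_eq_of_bijective _ (Cfsg.Agent.Lib.Helper31.TW3.codeElt_bijective (F := F) h3)]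
  rw [Nat.card_eq_fintype_card]
  simp

end Cfsg.Agent.Lib.Helper41.TW3
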