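import Mathlib
import Cfsg.Prelude.Def_GeometricClasses
import Cfsg.Agent.Lib.Helper41.TW3.Group

/-!
# Project BHRSP, sub-sheet TW3 (helper41), leaf [R8-CENTER] (helper31)

The centre of `R0 ≅ 2_-^(1+6)` is `{1, -1}`.
-/

set_option autoImplicit false

namespace Cfsg.Agent.Lib.Helper31.TW3

open Cfsg Cfsg.Geo Cfsg.Agent.Lib.Helper15.AschSlotNorm Cfsg.Agent.Lib.Helper15.AschUPure
open Cfsg.Agent.Lib.Helper41.TW3
open scoped MatrixGroups Matrix

variable {F : Type*} [Field F]

theorem exists_other (a : Fin 4) (ha : a ≠ 0) : ∃ b : Fin 4, b ≠ 0 ∧ a ≠ b := by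
  revert a; decide

theorem PE_mem_R8set (w : Fin 3 → Fin 4) : (PE w : Matrix I8 I8 F) ∈ R8set :=
  (mem_R8set_iff _).mpr ⟨1, w, Or.inl rfl, (one_smul _ _).symm⟩

theorem PE_mul_PE_ne_zero (h3 : (3 : F) = 0) (v w : Fin 3 → Fin 4) :
    (PE v : Matrix I8 I8 F) * PE w ≠ 0 := by
  rw [PE_mul_PE h3]
  intro h
  rcases smul_eq_zero.mp h with h0 | h0
  · have hprod : (∏ i, esgn (F := F) (v i) (w i)) ≠ 0 := by
      refine Finset.prod_ne_zero_iff.mpr (fun i _ => ?_)
      rcases esgn_eq (F := F) (v i) (w i) with h | h <;> rw [h] <;> simp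
    exact hprod h0
  · exact PE_ne_zero _ h0

/-- a matrix `s • PE v` commuting with every `PE w` has `v = 0` -/
theorem code_eq_zero_of_comm (h3 : (3 : F) = 0) {s : F} (hs : s = 1 ∨ s = -1) (v : Fin 3 → Fin 4)
    (hc : ∀ w : Fin 3 → Fin 4, (s • (PE v : Matrix I8 I8 F)) * PE w = PE w * (s • PE v)) :
    v = fun _ => 0 := by
  classical
  by_contra hv
  have : ∃ i, v i ≠ 0 := by
    by_contra hcon
    push Not at hcon
    exact hv (funext hcon)
  obtain ⟨i, hi⟩ := this
  obtain ⟨b, hb0, hbv⟩ := exists_other (v i) hi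
  set w : Fin 3 → Fin 4 := Function.update (fun _ => 0) i b with hw
  have h1 : (PE v : Matrix I8 I8 F) * PE w = PE w * PE v := by
    have := hc w
    rw [Matrix.smul_mul, Matrix.mul_smul] at this
    rcases hs with h | h
    · rw [h, one_smul, one_smul] at this; exact this
    · rw [h, neg_smul, neg_smul, one_smul, one_smul] at this; exact neg_injective this
  have h2 : (∏ j, csgn (F := F) (v j) (w j)) = -1 := by
    rw [Fintype.prod_eq_single i]
    · have : w i = b := by rw [hw, Function.update_self]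
      rw [this]
      unfold csgn
      rw [if_neg]
      push Not
      exact ⟨hi, hb0, hbv⟩
    · intro j hj
      have : w j = 0 := by rw [hw, Function.update_of_ne hj]
      rw [this]
      unfold csgn
      rw [if_pos (Or.inr (Or.inl rfl))]
  have h3' := PE_mul_comm h3 v w
  rw [h2, h1, neg_smul, one_smul] at h3'
  have h4 : (2 : F) • ((PE w : Matrix I8 I8 F) * PE v) = 0 := by
    rw [two_smul]
    nth_rewrite 1 [h3']
    exact neg_add_cancel _
  rcases smul_eq_zero.mp h4 with h0 | h0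
  · exact two_ne_zero' h3 h0
  · exact PE_mul_PE_ne_zero h3 w v h0

/-- the unit `-1` lies in `R0` -/
theorem neg_one_mem_R0 (h3 : (3 : F) = 0) : (-1 : GL I8 F) ∈ (R0 : Subgroup (GL I8 F)) := by
  rw [mem_R0_iff h3]
  have : ((-1 : GL I8 F) : Matrix I8 I8 F) = -1 := by
    rw [Units.val_neg, Units.val_one]
  rw [this]
  exact neg_one_mem_R8set

theorem neg_one_ne_one (h3 : (3 : F) = 0) : (-1 : GL I8 F) ≠ 1 := by
  intro h
  have h1 : ((-1 : GL I8 F) : Matrix I8 I8 F) = ((1 : GL I8 F) : Matrix I8 I8 F) := by rw [h]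
  rw [Units.val_neg, Units.val_one] at h1
  have h2 := congrFun (congrFun h1 (fun _ => 0)) (fun _ => 0)
  simp only [Matrix.neg_apply, Matrix.one_apply_eq] at h2
  exact one_ne_neg_one h3 h2.symm

/-- a central element of `R0` is `1` or `-1` -/
theorem central_eq (h3 : (3 : F) = 0) (g : GL I8 F) (hg : g ∈ (R0 : Subgroup (GL I8 F)))
    (hc : ∀ h ∈ (R0 : Subgroup (GL I8 F)), h * g = g * h) : g = 1 ∨ g = -1 := by
  have hg' : (g : Matrix I8 I8 F) ∈ R8set := (mem_R0_iff h3 g).mp hg
  rw [mem_R8set_iff] at hg'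
  obtain ⟨s, v, hs, hgv⟩ := hg'
  have hv : v = fun _ => 0 := by
    apply code_eq_zero_of_comm h3 hs v
    intro w
    obtain ⟨h, hh⟩ := exists_unit_of_mem_R8set h3 (PE_mem_R8set (F := F) w)
    have hmem : h ∈ (R0 : Subgroup (GL I8 F)) := by
      rw [mem_R0_iff h3, hh]; exact PE_mem_R8set w
    have := hc h hmem
    have h2 : ((h * g : GL I8 F) : Matrix I8 I8 F) = ((g * h : GL I8 F) : Matrix I8 I8 F) := by rw [this]
    rw [Units.val_mul, Units.val_mul, hh, hgv] at h2
    exact h2.symm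
  subst hv
  rw [PE_zero] at hgv
  rcases hs with h | h
  · left
    apply Units.ext
    rw [hgv, h, one_smul, Units.val_one]
  · right
    apply Units.ext
    rw [hgv, h, neg_smul, one_smul, Units.val_neg, Units.val_one]

end Cfsg.Agent.Lib.Helper31.TW3

namespace Cfsg.Agent.Lib.Helper41.TW3

open Cfsg Cfsg.Geo Cfsg.Agent.Lib.Helper15.AschSlotNorm Cfsg.Agent.Lib.Helper15.AschUPure
open Cfsg.Agent.Lib.Helper31.TW3
open scoped MatrixGroups Matrix

variable {F : Type*} [Field F]

/-- **[R8-CENTER]** -/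
theorem card_center_R0 (h3 : (3 : F) = 0) : Nat.card (Subgroup.center (R0 : Subgroup (GL I8 F))) = 2 := by
  rw [Nat.card_eq_two_iff]
  have hm : (⟨-1, neg_one_mem_R0 h3⟩ : (R0 : Subgroup (GL I8 F))) ∈
      Subgroup.center (R0 : Subgroup (GL I8 F)) := by
    rw [Subgroup.mem_center_iff]
    intro h
    apply Subtype.ext
    simp only [Subgroup.coe_mul]
    rw [mul_neg, neg_mul, mul_one, one_mul]
  refine ⟨1, ⟨⟨-1, neg_one_mem_R0 h3⟩, hm⟩, ?_, ?_⟩
  · intro h
    have h1 := congrArg (fun z : Subgroup.center (R0 : Subgroup (GL I8 F)) => ((z : (R0 : Subgroup (GL I8 F))) : GL I8 F)) h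
    simp only [OneMemClass.coe_one] at h1
    exact neg_one_ne_one h3 h1.symm
  · rw [Set.eq_univ_iff_forall]
    intro z
    have hz := z.2
    rw [Subgroup.mem_center_iff] at hz
    have := central_eq h3 ((z : (R0 : Subgroup (GL I8 F))) : GL I8 F) (z : (R0 : Subgroup (GL I8 F))).2
      (fun h hh => by
        have := hz ⟨h, hh⟩
        exact congrArg (fun y : (R0 : Subgroup (GL I8 F)) => (y : GL I8 F)) this)
    rcases this with h | h
    · left
      apply Subtype.ext
      apply Subtype.ext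
      rw [h]; rfl
    · right
      rw [Set.mem_singleton_iff]
      apply Subtype.ext
      apply Subtype.ext
      exact h

end Cfsg.Agent.Lib.Helper41.TW3
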