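import Mathlib
import Cfsg.Prelude.Def_GeometricClasses
import Cfsg.Agent.Lib.Helper41.TW3.Group

/-!
# Project BHRSP, sub-sheet TW3 (helper41), leaf [R8-SPAN] (helper31)

`R8set` spans the full matrix algebra `M_8(F)` (`char F = 3`).
-/

set_option autoImplicit false

namespace Cfsg.Agent.Lib.Helper31.TW3

open Cfsg Cfsg.Geo Cfsg.Agent.Lib.Helper15.AschSlotNorm Cfsg.Agent.Lib.Helper15.AschUPure
open Cfsg.Agent.Lib.Helper41.TW3
open scoped MatrixGroups Matrix

variable {F : Type*} [Field F]

theorem PT_update_zero (q : Fin 3 → Matrix (Fin 2) (Fin 2) F) (i : Fin 3) :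
    PT (Function.update q i 0) = 0 := by
  have := PT_update_smul q i (0 : F) (0 : Matrix (Fin 2) (Fin 2) F)
  rwa [zero_smul, zero_smul] at this

/-- slot-by-slot: a pure tensor whose factors outside `S` are among the `E a` lies in the span of `R8set` -/
theorem PT_mem_span_of (h3 : (3 : F) = 0) (S : Finset (Fin 3)) :
    ∀ q : Fin 3 → Matrix (Fin 2) (Fin 2) F,
      (∀ i, i ∉ S → q i ∈ Set.range (E : Fin 4 → Matrix (Fin 2) (Fin 2) F)) →
      PT q ∈ Submodule.span F (R8set : Set (Matrix I8 I8 F)) := by
  classical
  induction S using Finset.induction_on with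
  | empty =>
    intro q hq
    have h : ∀ i, ∃ a : Fin 4, E a = q i := fun i => hq i (Finset.notMem_empty i)
    choose a ha using h
    apply Submodule.subset_span
    rw [mem_R8set_iff]
    refine ⟨1, a, Or.inl rfl, ?_⟩
    rw [one_smul]
    unfold PE
    congr 1
    funext i
    exact (ha i).symm
  | insert i S hi ih =>
    intro q hq
    have hqi : q i ∈ Submodule.span F (Set.range (E : Fin 4 → Matrix (Fin 2) (Fin 2) F)) := by
      rw [span_E h3]; trivial
    have key : ∀ m ∈ Submodule.span F (Set.range (E : Fin 4 → Matrix (Fin 2) (Fin 2) F)),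
        PT (Function.update q i m) ∈ Submodule.span F (R8set : Set (Matrix I8 I8 F)) := by
      intro m hm
      induction hm using Submodule.span_induction with
      | mem m hm =>
        apply ih
        intro j hj
        by_cases hji : j = i
        · subst hji
          rw [Function.update_self]
          exact hm
        · rw [Function.update_of_ne hji]
          apply hq j
          rw [Finset.mem_insert, not_or]
          exact ⟨hji, hj⟩
      | zero => rw [PT_update_zero]; exact Submodule.zero_mem _
      | add m m' _ _ ihm ihm' => rw [PT_update_add]; exact Submodule.add_mem _ ihm ihm'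
      | smul c m _ ihm => rw [PT_update_smul]; exact Submodule.smul_mem _ c ihm
    have := key (q i) hqi
    rwa [Function.update_eq_self] at this

end Cfsg.Agent.Lib.Helper31.TW3

namespace Cfsg.Agent.Lib.Helper41.TW3

open Cfsg Cfsg.Geo Cfsg.Agent.Lib.Helper15.AschSlotNorm Cfsg.Agent.Lib.Helper15.AschUPure
open scoped MatrixGroups Matrix

variable {F : Type*} [Field F]

/-- **[R8-SPAN]** -/
theorem span_R8set (h3 : (3 : F) = 0) : Submodule.span F (R8set : Set (Matrix I8 I8 F)) = ⊤ := by
  classical
  rw [eq_top_iff]
  intro M _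
  rw [Matrix.matrix_eq_sum_single M]
  refine Submodule.sum_mem _ (fun x _ => Submodule.sum_mem _ (fun y _ => ?_))
  have h1 : Matrix.single x y (M x y) = M x y • Matrix.single x y (1 : F) := by
    rw [Matrix.smul_single, smul_eq_mul, mul_one]
  rw [h1, single_eq_PT]
  refine Submodule.smul_mem _ _ ?_
  exact Cfsg.Agent.Lib.Helper31.TW3.PT_mem_span_of h3 Finset.univ _
    (fun i hi => absurd (Finset.mem_univ i) hi)

end Cfsg.Agent.Lib.Helper41.TW3
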